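import Cfsg.Agent.H3.SystemNormalizer
import Cfsg.Agent.H2.Carter
import Cfsg.Agent.H33.Basic

/-!
Carter subgroups and system normalizers.
-/

set_option autoImplicit false

namespace H4

open Subgroup
open scoped Pointwise

universe u

/-- Relative indices can only drop under homomorphisms. -/
theorem relIndex_map_dvd {G H : Type*} [Group G] [Group H] (f : G →* H) (A B : Subgroup G) :
    (A.map f).relIndex (B.map f) ∣ A.relIndex B := by
  refine (Subgroup.index_dvd_of_le (H := (A.subgroupOf B).map (f.subgroupMap B)) ?_).trans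
    (Subgroup.index_map_dvd (A.subgroupOf B) (f.subgroupMap_surjective B))
  rintro _ ⟨x, hx, rfl⟩
  exact ⟨x, hx, rfl⟩

/-- In a nilpotent subgroup `C`, a subgroup `Q` of `p'`-order and `p`-power index is centralized
by every `p`-element of `C` and is normalized by `C`; also `C = Q ⊔ P` for a Sylow `P`. -/
theorem nilpotent_split {G : Type u} [Group G] [Finite G] {p : ℕ} [Fact p.Prime]
    {C Q : Subgroup G} (hC : Group.IsNilpotent C) (hQC : Q ≤ C)
    (hQ : ¬ p ∣ Nat.card Q) {e : ℕ} (hidx : Q.relIndex C = p ^ e) :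
    ∃ P : Subgroup G, P ≤ C ∧ IsPGroup p P ∧ ¬ p ∣ P.relIndex C ∧ Q ⊔ P = C ∧
      P ≤ centralizer (Q : Set G) ∧ C ≤ normalizer (Q : Set G) := by
  obtain ⟨S⟩ := (inferInstance : Nonempty (Sylow p C))
  set P := (S : Subgroup C).map C.subtype with hP
  have hPC : P ≤ C := Subgroup.map_subtype_le _
  have hPp : IsPGroup p P := S.2.map C.subtype
  have hPidx : ¬ p ∣ P.relIndex C := by
    rw [hP, Subgroup.relIndex]
    rw [Subgroup.subgroupOf, Subgroup.comap_map_eq_self_of_injective C.subtype_injective]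
    exact S.not_dvd_index
  have hsup : Q ⊔ P = C := by
    refine le_antisymm (sup_le hQC hPC) (Subgroup.relIndex_eq_one.mp ?_)
    refine Nat.eq_one_of_dvd_coprimes ?_ (Subgroup.relIndex_dvd_of_le_left C le_sup_left)
      (Subgroup.relIndex_dvd_of_le_left C le_sup_right)
    rw [hidx]
    exact (((Fact.out : p.Prime).coprime_iff_not_dvd).mpr hPidx).pow_left e
  have hcent : P ≤ centralizer (Q : Set G) := by
    intro x hx
    rw [Subgroup.mem_centralizer_iff]
    intro y hy
    have hxy : Commute (⟨x, hPC hx⟩ : C) ⟨y, hQC hy⟩ := by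
      refine H33.commute_of_nilpotent (p := p) ?_ ?_
      · obtain ⟨k, hk⟩ := IsPGroup.iff_card.mp hPp
        obtain ⟨i, -, hi⟩ := (Nat.dvd_prime_pow (Fact.out : p.Prime)).mp
          (hk ▸ Subgroup.orderOf_dvd_natCard P hx : orderOf x ∣ p ^ k)
        exact ⟨i, by rw [← Subgroup.orderOf_coe]; exact hi⟩
      · rw [← Subgroup.orderOf_coe]
        exact fun h => hQ (h.trans (Subgroup.orderOf_dvd_natCard Q hy))
    exact (congrArg Subtype.val hxy.eq).symm
  refine ⟨P, hPC, hPp, hPidx, hsup, hcent, ?_⟩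
  calc C = Q ⊔ P := hsup.symm
    _ ≤ normalizer (Q : Set G) :=
      sup_le le_normalizer (hcent.trans (Subgroup.centralizer_le_normalizer _))

/-- The image of a Carter subgroup in a quotient is a Carter subgroup. -/
theorem carter_map {G : Type u} [Group G] [Finite G] [Group.IsSolvable G] {C : Subgroup G}
    (hC : H2.IsCarter C) (N : Subgroup G) [N.Normal] :
    H2.IsCarter (C.map (QuotientGroup.mk' N)) := by
  set q := QuotientGroup.mk' N with hq
  haveI := hC.1
  refine ⟨Group.nilpotent_of_surjective (q.subgroupMap C) (q.subgroupMap_surjective C), ?_⟩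
  refine le_antisymm ?_ le_normalizer
  intro y hy
  obtain ⟨g, rfl⟩ := QuotientGroup.mk'_surjective N y
  set X := (C.map q).comap q with hX
  have hCX : C ≤ X := Subgroup.le_comap_map _ _
  have hgX : MulAut.conj g • C ≤ X := by
    rintro x ⟨c, hc, rfl⟩
    show q (g * c * g⁻¹) ∈ C.map q
    rw [map_mul, map_mul, map_inv]
    exact (Subgroup.mem_normalizer_iff.mp hy _).mp ⟨c, hc, rfl⟩
  obtain ⟨x, hx⟩ := H2.carter_conj ((hC.conj g).subgroupOf hgX) (hC.subgroupOf hCX)
  have h := congrArg (Subgroup.map X.subtype) hx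
  rw [H1.map_subtype_conj_smul, Subgroup.map_subgroupOf_eq_of_le hgX,
    Subgroup.map_subgroupOf_eq_of_le hCX, ← mul_smul, ← map_mul] at h
  have hmem : (x : G) * g ∈ C := by
    rw [← hC.2]; exact H3.normalizer_iff_conj.mpr h
  show q g ∈ C.map q
  have hq2 : q g = (q x)⁻¹ * q ((x : G) * g) := by rw [map_mul, inv_mul_cancel_left]
  rw [hq2]
  exact mul_mem (inv_mem x.2) ⟨_, hmem, rfl⟩

/-- If every member of a complement system meets the Carter subgroup `C` in a Hall subgroup of
`C`, then the system normalizer lies in `C`. -/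
theorem systemNormalizer_le_carter_aux (n : ℕ) : ∀ (G : Type u) [Group G] [Finite G]
    [Group.IsSolvable G], Nat.card G = n → ∀ (C : Subgroup G), H2.IsCarter C →
    ∀ K : Nat.Primes → Subgroup G, Cfsg.IsComplementSystem K →
    (∀ p : Nat.Primes, ∃ e, (K p).relIndex C = (p : ℕ) ^ e) →
    Cfsg.systemNormalizer K ≤ C := by
  induction n using Nat.strong_induction_on with
  | _ n ih =>
  intro G _ _ _ hn C hC K hK hKC
  rcases subsingleton_or_nontrivial G with hs | hs
  · exact (Subsingleton.elim C ⊤).symm ▸ le_top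
  obtain ⟨p, N, hp, hNn, hNne, hNp⟩ := H1.exists_normal_pgroup_ne_bot G
  haveI := hNn
  haveI := Fact.mk hp
  set q := QuotientGroup.mk' N with hq
  have hlt : Nat.card (G ⧸ N) < n := by
    rw [← hn, Subgroup.card_eq_card_quotient_mul_card_subgroup N]
    exact lt_mul_of_one_lt_right Nat.card_pos (Subgroup.one_lt_card_iff_ne_bot N |>.mpr hNne)
  have hKC' : ∀ r : Nat.Primes, ∃ e,
      ((K r).map q).relIndex (C.map q) = (r : ℕ) ^ e := by
    intro r
    obtain ⟨e, he⟩ := hKC r
    have h1 : ((K r).map q).relIndex (C.map q) ∣ ((K r ⊓ C).map q).relIndex (C.map q) :=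
      Subgroup.relIndex_dvd_of_le_left _ (Subgroup.map_mono inf_le_left)
    have h2 : ((K r ⊓ C).map q).relIndex (C.map q) ∣ (K r ⊓ C).relIndex C :=
      relIndex_map_dvd q _ _
    rw [Subgroup.inf_relIndex_right, he] at h2
    obtain ⟨e', -, he'⟩ := (Nat.dvd_prime_pow r.2).mp (h1.trans h2)
    exact ⟨e', he'⟩
  have hbar := ih _ hlt (G ⧸ N) rfl (C.map q) (carter_map hC N) _ (H3.cs_map_quotient hK N) hKC'
  rw [H3.systemNormalizer_map hK N] at hbar
  intro d hd
  have hd' : d ∈ C ⊔ N := by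
    have h : d ∈ (C.map q).comap q := hbar ⟨d, hd, rfl⟩
    rwa [Subgroup.comap_map_eq, QuotientGroup.ker_mk'] at h
  obtain ⟨c, hc, x, hx, rfl⟩ := Subgroup.mem_sup_of_normal_right.mp hd'
  suffices x ∈ C from mul_mem hc this
  set P0 : Nat.Primes := ⟨p, hp⟩
  obtain ⟨e, he⟩ := hKC P0
  set Q := K P0 ⊓ C with hQdef
  have hQC : Q ≤ C := inf_le_right
  have hQK : Q ≤ K P0 := inf_le_left
  have hQnd : ¬ p ∣ Nat.card Q := fun h =>
    H3.cs_not_dvd hK P0 (h.trans (Subgroup.card_dvd_of_le hQK))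
  have hQidx : Q.relIndex C = p ^ e := by rw [hQdef, Subgroup.inf_relIndex_right]; exact he
  obtain ⟨P, hPC, hPp, hPidx, hQP, hPcent, hCnQ⟩ := nilpotent_split hC.1 hQC hQnd hQidx
  -- `Q` is the whole of `K P0 ∩ (C N)`
  have hXQ : K P0 ⊓ (C ⊔ N) = Q := by
    symm
    refine Subgroup.eq_of_le_of_card_ge (le_inf hQK (hQC.trans le_sup_left))
      (Nat.le_of_dvd Nat.card_pos ?_)
    have hcop : (Nat.card ↥(K P0 ⊓ (C ⊔ N))).Coprime p :=
      ((hp.coprime_iff_not_dvd).mpr fun h => H3.cs_not_dvd hK P0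
        (h.trans (Subgroup.card_dvd_of_le inf_le_left))).symm
    obtain ⟨a, ha⟩ := IsPGroup.iff_card.mp hNp
    have h1 : Nat.card ↥(K P0 ⊓ (C ⊔ N)) ∣ Nat.card Q * p ^ (e + a) := by
      refine (Subgroup.card_dvd_of_le inf_le_right).trans ((H1.card_sup_dvd_mul C N).trans ?_)
      rw [ha, pow_add, ← mul_assoc, ← hQidx]
      refine mul_dvd_mul_right (dvd_of_eq ?_) _
      rw [← Subgroup.relIndex_bot_left (H := Q), Subgroup.relIndex_mul_relIndex ⊥ Q C bot_le hQC,
        Subgroup.relIndex_bot_left]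
    exact (hcop.pow_right _).dvd_of_dvd_mul_right h1
  have hcx : c * x ∈ normalizer (Q : Set G) := by
    have h1 := (H3.mem_systemNormalizer K _).mp hd P0
    have h2 : c * x ∈ normalizer ((C ⊔ N : Subgroup G) : Set G) :=
      le_normalizer (mul_mem (Subgroup.mem_sup_left hc) (Subgroup.mem_sup_right hx))
    rw [H3.normalizer_iff_conj] at h1 h2 ⊢
    rw [← hXQ, Subgroup.smul_inf, h1, h2]
  have hxQ : x ∈ normalizer (Q : Set G) := by
    have := mul_mem (inv_mem (hCnQ hc)) hcx
    rwa [inv_mul_cancel_left] at this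
  -- `x` centralizes `Q`
  set Z := N ⊓ centralizer (Q : Set G) with hZdef
  have hxZ : x ∈ Z := by
    refine ⟨hx, Subgroup.mem_centralizer_iff.mpr fun y hy => ?_⟩
    have h1 : x * y * x⁻¹ * y⁻¹ ∈ Q :=
      mul_mem ((Subgroup.mem_normalizer_iff.mp hxQ y).mp hy) (inv_mem hy)
    have h2 : x * y * x⁻¹ * y⁻¹ ∈ N := by
      have h3 := mul_mem hx (hNn.conj_mem _ (inv_mem hx) y)
      rwa [show x * (y * x⁻¹ * y⁻¹) = x * y * x⁻¹ * y⁻¹ by group] at h3
    have hdisj : Q ⊓ N = ⊥ := by
      refine (Subgroup.disjoint_of_coprime_natCard ?_).eq_bot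
      obtain ⟨a, ha⟩ := IsPGroup.iff_card.mp hNp
      rw [ha]
      exact ((hp.coprime_iff_not_dvd).mpr hQnd).symm.pow_right a
    have h4 : x * y * x⁻¹ * y⁻¹ ∈ Q ⊓ N := ⟨h1, h2⟩
    rw [hdisj, Subgroup.mem_bot, mul_inv_eq_one, mul_inv_eq_iff_eq_mul] at h4
    exact h4.symm
  have hCnZ : C ≤ normalizer (Z : Set G) := by
    intro g hg
    rw [H3.normalizer_iff_conj]
    have h1 : MulAut.conj g • N = N :=
      H3.normalizer_iff_conj.mp (by rw [Subgroup.normalizer_eq_top]; exact mem_top _)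
    have h2 : MulAut.conj g • centralizer (Q : Set G) = centralizer (Q : Set G) := by
      ext z
      rw [H1.mem_conj_smul_iff, Subgroup.mem_centralizer_iff, Subgroup.mem_centralizer_iff]
      have hn := Subgroup.mem_normalizer_iff.mp (hCnQ hg)
      constructor
      · intro h y hy
        have h' := h (g⁻¹ * y * g) ((hn _).mpr (by simpa [mul_assoc] using hy))
        have h'' := congrArg (fun t => g * t * g⁻¹) h'
        simpa [mul_assoc] using h''
      · intro h y hy
        have h' := h (g * y * g⁻¹) ((hn y).mp hy)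
        have h'' := congrArg (fun t => g⁻¹ * t * g) h'
        simpa [mul_assoc] using h''
    rw [hZdef, Subgroup.smul_inf, h1, h2]
  set T := P ⊔ Z with hTdef
  have hPnZ : P ≤ normalizer (Z : Set G) := hPC.trans hCnZ
  have hTp : IsPGroup p T := IsPGroup.to_sup_of_normal_right' hPp
    (hNp.to_le inf_le_left) hPnZ
  have hTcent : T ≤ centralizer (Q : Set G) := sup_le hPcent inf_le_right
  suffices T ≤ P from hPC (this (Subgroup.mem_sup_right hxZ))
  by_contra hTP
  have hPT : P.subgroupOf T < ⊤ := by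
    rw [lt_top_iff_ne_top, ne_eq, Subgroup.subgroupOf_eq_top]
    exact hTP
  haveI : Group.IsNilpotent T := hTp.isNilpotent
  obtain ⟨t, ht, htP⟩ := Set.exists_of_ssubset
    (SetLike.coe_ssubset_coe.mpr (Group.normalizerCondition_of_isNilpotent _ hPT))
  have htP' : MulAut.conj (t : G) • P = P := by
    have h := congrArg (Subgroup.map T.subtype) (H3.normalizer_iff_conj.mp ht)
    rwa [H1.map_subtype_conj_smul, Subgroup.map_subgroupOf_eq_of_le le_sup_left] at h
  have htQ : MulAut.conj (t : G) • Q = Q :=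
    H3.normalizer_iff_conj.mp (Subgroup.centralizer_le_normalizer _ (hTcent t.2))
  have htC : (t : G) ∈ C := by
    rw [← hC.2, H3.normalizer_iff_conj, ← hQP, Subgroup.smul_sup, htP', htQ]
  refine htP (Subgroup.mem_subgroupOf.mpr ?_)
  have hCT : C ⊓ T ≤ P := by
    have hPle : P ≤ C ⊓ T := le_inf hPC le_sup_left
    rw [← Subgroup.relIndex_eq_one]
    obtain ⟨b, hb⟩ := IsPGroup.iff_card.mp (hTp.to_le (inf_le_right (a := C)))
    refine Nat.eq_one_of_dvd_coprimes
      (((hp.coprime_iff_not_dvd).mpr hPidx).pow_left b) ?_ ?_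
    · rw [← hb]; exact Subgroup.relIndex_dvd_card _ _
    · exact ⟨_, (Subgroup.relIndex_mul_relIndex P (C ⊓ T) C hPle inf_le_left).symm⟩
  exact hCT ⟨htC, t.2⟩

theorem systemNormalizer_le_carter {G : Type u} [Group G] [Finite G] [Group.IsSolvable G]
    {C : Subgroup G} (hC : H2.IsCarter C) {K : Nat.Primes → Subgroup G}
    (hK : Cfsg.IsComplementSystem K) (hKC : ∀ p : Nat.Primes, ∃ e, (K p).relIndex C = (p : ℕ) ^ e) :
    Cfsg.systemNormalizer K ≤ C :=
  systemNormalizer_le_carter_aux _ G rfl C hC K hK hKC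

/-- A complement system adapted to a given subgroup. -/
theorem exists_cs_reducing {G : Type u} [Group G] [Finite G] [Group.IsSolvable G]
    (C : Subgroup G) : ∃ K : Nat.Primes → Subgroup G, Cfsg.IsComplementSystem K ∧
      ∀ p : Nat.Primes, ∃ e, (K p).relIndex C = (p : ℕ) ^ e := by
  have key : ∀ p : Nat.Primes, ∃ H : Subgroup G,
      H.index = (p : ℕ) ^ (Nat.card G).factorization p ∧ ∃ e, H.relIndex C = (p : ℕ) ^ e := by
    intro p
    have hsplit : ∀ n : ℕ, n ≠ 0 → n = n / (p : ℕ) ^ n.factorization p * (p : ℕ) ^ n.factorization p ∧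
        (n / (p : ℕ) ^ n.factorization p).Coprime ((p : ℕ) ^ n.factorization p) := by
      intro n hn
      refine ⟨(Nat.div_mul_cancel (Nat.ordProj_dvd n p)).symm, ?_⟩
      exact (Nat.coprime_ordCompl p.2 hn).symm.pow_right _
    obtain ⟨h1, h1'⟩ := hsplit (Nat.card C) Nat.card_pos.ne'
    obtain ⟨H0, hH0⟩ := H1.hall_exists _ _ h1 h1'
    have hH0i : H0.index = (p : ℕ) ^ (Nat.card C).factorization p := by
      have h := H0.card_mul_index
      rw [hH0] at h
      exact Nat.eq_of_mul_eq_mul_left (hH0 ▸ Nat.card_pos) (h.trans h1)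
    obtain ⟨h2, h2'⟩ := hsplit (Nat.card G) Nat.card_pos.ne'
    have hU : (Nat.card ↥(H0.map C.subtype)).Coprime
        ((p : ℕ) ^ (Nat.card G).factorization p) := by
      rw [Subgroup.card_map_of_injective C.subtype_injective, hH0]
      exact ((Nat.coprime_ordCompl p.2 Nat.card_pos.ne').symm).pow_right _
    obtain ⟨H, hH, hUH⟩ := H1.hall_exists_ge _ _ h2 h2' (H0.map C.subtype) hU
    refine ⟨H, ?_, ?_⟩
    · have h := H.card_mul_index
      rw [hH] at h
      exact Nat.eq_of_mul_eq_mul_left (hH ▸ Nat.card_pos) (h.trans h2)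
    · have h : H.relIndex C ∣ H0.index := by
        refine Subgroup.index_dvd_of_le ?_
        intro x hx
        exact hUH ⟨x, hx, rfl⟩
      rw [hH0i] at h
      obtain ⟨e, -, he⟩ := (Nat.dvd_prime_pow p.2).mp h
      exact ⟨e, he⟩
  choose K hK hKC using key
  exact ⟨K, hK, hKC⟩

theorem systemNormalizer_conj {G : Type u} [Group G] {K L : Nat.Primes → Subgroup G} {g : G}
    (h : ∀ p, MulAut.conj g • K p = L p) :
    Cfsg.systemNormalizer L = MulAut.conj g • Cfsg.systemNormalizer K := by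
  ext x
  rw [Subgroup.mem_pointwise_smul_iff_inv_smul_mem, H3.mem_systemNormalizer,
    H3.mem_systemNormalizer]
  refine forall_congr' fun p => ?_
  rw [← h p, H3.normalizer_iff_conj, H3.normalizer_iff_conj, ← mul_smul, ← map_mul]
  have hc : ((MulAut.conj g)⁻¹ • x : G) = g⁻¹ * x * g := by
    rw [← map_inv, MulAut.smul_def, MulAut.conj_apply, inv_inv]
  rw [hc, map_mul (MulAut.conj) (g⁻¹ * x) g, mul_smul]
  rw [map_mul (MulAut.conj) g⁻¹ x, mul_smul, map_inv, inv_smul_eq_iff, map_mul, mul_smul]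

/-- Every system normalizer lies in a Carter subgroup. -/
theorem exists_carter_ge_systemNormalizer {G : Type u} [Group G] [Finite G] [Group.IsSolvable G]
    {K : Nat.Primes → Subgroup G} (hK : Cfsg.IsComplementSystem K) :
    ∃ C : Subgroup G, H2.IsCarter C ∧ Cfsg.systemNormalizer K ≤ C := by
  obtain ⟨C, hC⟩ := H2.carter_exists G
  obtain ⟨L, hL, hLC⟩ := exists_cs_reducing C
  obtain ⟨g, hg⟩ := H3.cs_conjugate L K hL hK
  refine ⟨MulAut.conj g • C, hC.conj g, ?_⟩
  rw [systemNormalizer_conj hg]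
  exact Subgroup.pointwise_smul_le_pointwise_smul_iff.mpr (systemNormalizer_le_carter hC hL hLC)

/-- In a nilpotent-by-nilpotent group the adapted system normalizer is the Carter subgroup. -/
theorem carter_le_systemNormalizer {G : Type u} [Group G] [Finite G] [Group.IsSolvable G]
    (F : Subgroup G) [F.Normal] (hF : Group.IsNilpotent F) (hGF : Group.IsNilpotent (G ⧸ F))
    {C : Subgroup G} (hC : H2.IsCarter C) {K : Nat.Primes → Subgroup G}
    (hK : Cfsg.IsComplementSystem K) (hKC : ∀ p : Nat.Primes, ∃ e, (K p).relIndex C = (p : ℕ) ^ e) :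
    C ≤ Cfsg.systemNormalizer K := by
  intro g hg
  rw [H3.mem_systemNormalizer]
  intro p
  haveI := Fact.mk p.2
  set q := QuotientGroup.mk' F with hq
  haveI := hGF
  have hCtop : C.map q = ⊤ := H2.eq_top_of_nilpotent_selfnorm (carter_map hC F).2
  set U := K p ⊓ F with hUdef
  set V := K p ⊓ C with hVdef
  have hUnd : ¬ (p : ℕ) ∣ Nat.card U := fun h =>
    H3.cs_not_dvd hK p (h.trans (Subgroup.card_dvd_of_le inf_le_left))
  have hVnd : ¬ (p : ℕ) ∣ Nat.card V := fun h =>
    H3.cs_not_dvd hK p (h.trans (Subgroup.card_dvd_of_le inf_le_left))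
  obtain ⟨e1, he1⟩ : ∃ e1, U.relIndex F = (p : ℕ) ^ e1 := by
    have h := H3.relIndex_normal_dvd_index (K p) F
    rw [hK p] at h
    obtain ⟨e1, -, h1⟩ := (Nat.dvd_prime_pow p.2).mp h
    exact ⟨e1, by rw [hUdef, Subgroup.inf_relIndex_right]; exact h1⟩
  obtain ⟨e2, he2⟩ := hKC p
  have he2' : V.relIndex C = (p : ℕ) ^ e2 := by rw [hVdef, Subgroup.inf_relIndex_right]; exact he2
  obtain ⟨-, -, -, -, -, -, hFnU⟩ := nilpotent_split hF (inf_le_right : U ≤ F) hUnd he1
  obtain ⟨-, -, -, -, -, -, hCnV⟩ := nilpotent_split hC.1 (inf_le_right : V ≤ C) hVnd he2'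
  -- `U` is normalized by everything
  have hUn : ∀ y : G, MulAut.conj y • U = U := by
    intro y
    refine Subgroup.eq_of_le_of_card_ge ?_ ?_
    · set W := MulAut.conj y • U with hW
      have hWF : W ≤ F := by
        rw [hW, ← H3.normalizer_iff_conj.mp (show y ∈ normalizer (F : Set G) by
          rw [Subgroup.normalizer_eq_top]; exact mem_top _)]
        exact Subgroup.pointwise_smul_le_pointwise_smul_iff.mpr inf_le_right
      rw [← Subgroup.relIndex_eq_one]
      have hWnd : ¬ (p : ℕ) ∣ Nat.card W := by rw [hW, H1.card_conj_smul]; exact hUnd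
      refine Nat.eq_one_of_dvd_coprimes
        (((p.2.coprime_iff_not_dvd).mpr hWnd).pow_left e1).symm (Subgroup.relIndex_dvd_card U W) ?_
      haveI : (U.subgroupOf F).Normal := Subgroup.normal_subgroupOf_of_le_normalizer hFnU
      have h := Subgroup.relIndex_dvd_index_of_normal (U.subgroupOf F) (W.subgroupOf F)
      rw [Subgroup.relIndex_subgroupOf hWF] at h
      rw [← he1]
      exact h
    · exact (H1.card_conj_smul y U).ge
  -- `K p = V ⊔ U`
  have hKeq : K p = V ⊔ U := by
    refine le_antisymm ?_ (sup_le inf_le_left inf_le_left)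
    intro k hk
    have hVK : V.map q ≤ (K p).map q := Subgroup.map_mono inf_le_left
    have h1 : (K p).map q ≤ V.map q := by
      rw [← Subgroup.relIndex_eq_one]
      refine Nat.eq_one_of_dvd_coprimes
        (((p.2.coprime_iff_not_dvd).mpr (fun h => H3.cs_not_dvd hK p
          (h.trans (Subgroup.card_map_dvd _ _)))).pow_left e2).symm
        (Subgroup.relIndex_dvd_card _ ((K p).map q)) ?_
      have h2 : (V.map q).index ∣ V.relIndex C := by
        rw [← Subgroup.relIndex_top_right, ← hCtop]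
        exact relIndex_map_dvd q _ _
      rw [← he2']
      exact (Dvd.intro _ (Subgroup.relIndex_mul_index hVK)).trans h2
    obtain ⟨v, hv, hvk⟩ := h1 ⟨k, hk, rfl⟩
    have hf : v⁻¹ * k ∈ U := by
      refine ⟨(K p).mul_mem ((K p).inv_mem hv.1) hk, (QuotientGroup.eq_one_iff _).mp ?_⟩
      show q (v⁻¹ * k) = 1
      rw [map_mul, map_inv, hvk, inv_mul_cancel]
    have := mul_mem (Subgroup.mem_sup_left (T := U) hv) (Subgroup.mem_sup_right (S := V) hf)
    rwa [mul_inv_cancel_left] at this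
  rw [H3.normalizer_iff_conj, hKeq, Subgroup.smul_sup, hUn g,
    H3.normalizer_iff_conj.mp (hCnV hg)]

end H4
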