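import Cfsg.Agent.H4.KWCoprime
import Cfsg.Agent.H65.BaerSuzuki
import Cfsg.Agent.S0007
import Cfsg.Agent.H3.SystemNormalizer
import Cfsg.Agent.H3.MinNormal
import Cfsg.Agent.H4.CarterSystem

/-!
The theorem of Kegel and Wielandt: products of nilpotent subgroups are solvable.
-/

set_option autoImplicit false

namespace H4

open Subgroup
open scoped Pointwise commutatorElement

universe u

variable {G : Type u} [Group G]

theorem factorizes_map {A B : Subgroup G} (h : Factorizes A B) {H : Type*} [Group H] (f : G →* H)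
    (hf : Function.Surjective f) : Factorizes (A.map f) (B.map f) := by
  intro y
  obtain ⟨g, rfl⟩ := hf y
  obtain ⟨a, ha, b, hb, rfl⟩ := h g
  exact ⟨f a, ⟨a, ha, rfl⟩, f b, ⟨b, hb, rfl⟩, map_mul f a b⟩

theorem card_quotient_lt [Finite G] (N : Subgroup G) [N.Normal] (hN : N ≠ ⊥) :
    Nat.card (G ⧸ N) < Nat.card G := by
  conv_rhs => rw [Subgroup.card_eq_card_quotient_mul_card_subgroup N]
  exact lt_mul_of_one_lt_right Nat.card_pos (N.one_lt_card_iff_ne_bot.mpr hN)

theorem nilpotent_map_subgroup {A : Subgroup G} (hA : Group.IsNilpotent A) {H : Type*} [Group H]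
    (f : G →* H) : Group.IsNilpotent (A.map f) := by
  haveI := hA
  exact Group.nilpotent_of_surjective (f.subgroupMap A) (f.subgroupMap_surjective A)

theorem isSolvable_of_coprime_aux (n : ℕ) : ∀ (G : Type u) [Group G] [Finite G],
    Nat.card G = n → ∀ A B : Subgroup G, Group.IsNilpotent A → Group.IsNilpotent B →
    (Nat.card A).Coprime (Nat.card B) → Factorizes A B → Group.IsSolvable G := by
  induction n using Nat.strong_induction_on with
  | _ n ih =>
  intro G _ _ hn A B hA hB hcop hf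
  by_contra hns
  have hsub : ∀ H : Subgroup G, H ≠ ⊤ → (∀ g ∈ H, ∃ a ∈ A ⊓ H, ∃ b ∈ B ⊓ H, g = a * b) →
      Group.IsSolvable H := by
    intro H hH h
    have hlt : Nat.card H < n := hn ▸ lt_of_le_of_ne (Subgroup.card_le_card_group H)
      (fun e => hH (H.eq_top_of_card_eq e))
    have hdvd : ∀ X : Subgroup G, Nat.card (X.subgroupOf H) ∣ Nat.card X := fun X =>
      Subgroup.card_comap_dvd_of_injective X H.subtype H.subtype_injective
    refine ih _ hlt H rfl (A.subgroupOf H) (B.subgroupOf H) (H1.isNilpotent_comap_subtype hA H)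
      (H1.isNilpotent_comap_subtype hB H)
      ((hcop.coprime_dvd_left (hdvd A)).coprime_dvd_right (hdvd B)) fun g => ?_
    obtain ⟨a, ha, b, hb, e⟩ := h g g.2
    exact ⟨⟨a, ha.2⟩, ha.1, ⟨b, hb.2⟩, hb.1, Subtype.ext e⟩
  haveI : Nontrivial G := by
    rcases subsingleton_or_nontrivial G with h | h
    · exact absurd (inferInstance : Group.IsSolvable G) hns
    · exact h
  have hsimple : IsSimpleGroup G := ⟨fun N hN => by
    by_contra h
    push Not at h
    haveI := hN
    have hcardG : Nat.card G = Nat.card A * Nat.card B := by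
      have h1 := hf.card_mul_card
      rwa [(Subgroup.disjoint_of_coprime_natCard hcop).eq_bot, Subgroup.card_bot, mul_one] at h1
    have hiA : A.index = Nat.card B :=
      Nat.eq_of_mul_eq_mul_left Nat.card_pos (A.card_mul_index.trans hcardG)
    have hiB : B.index = Nat.card A :=
      Nat.eq_of_mul_eq_mul_left Nat.card_pos (B.card_mul_index.trans (hcardG.trans (mul_comm _ _)))
    have hfN : ∀ g ∈ N, ∃ a ∈ A ⊓ N, ∃ b ∈ B ⊓ N, g = a * b := by
      intro g hg
      have hc : (A.subgroupOf N).index.Coprime (B.subgroupOf N).index :=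
        (hcop.symm.coprime_dvd_left (hiA ▸ H3.relIndex_normal_dvd_index A N)).coprime_dvd_right
          (hiB ▸ H3.relIndex_normal_dvd_index B N)
      obtain ⟨x, hx, y, hy, e⟩ := (Cfsg.Agent.S0007.result _ _ hc).2 ⟨g, hg⟩
      exact ⟨x, ⟨hx, x.2⟩, y, ⟨hy, y.2⟩, congrArg Subtype.val e⟩
    haveI := hsub N h.2 hfN
    haveI : Group.IsSolvable (G ⧸ N) := ih _ (hn ▸ card_quotient_lt N h.1) (G ⧸ N) rfl
      (A.map (QuotientGroup.mk' N)) (B.map (QuotientGroup.mk' N)) (nilpotent_map_subgroup hA _)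
      (nilpotent_map_subgroup hB _)
      ((hcop.coprime_dvd_left (Subgroup.card_map_dvd _ _)).coprime_dvd_right
        (Subgroup.card_map_dvd _ _))
      (factorizes_map hf _ (QuotientGroup.mk'_surjective N))
    exact hns ((Group.isSolvable_iff_subgroup_quotient N).mpr ⟨inferInstance, inferInstance⟩)⟩
  exact KWMin.absurd_min ⟨hA, hB, hcop, hf, hsimple, hns, hsub⟩

/-- Wielandt: a product of nilpotent subgroups of coprime orders is solvable. -/
theorem isSolvable_of_coprime [Finite G] (A B : Subgroup G) (hA : Group.IsNilpotent A)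
    (hB : Group.IsNilpotent B) (hcop : (Nat.card A).Coprime (Nat.card B))
    (hf : Factorizes A B) : Group.IsSolvable G :=
  isSolvable_of_coprime_aux _ G rfl A B hA hB hcop hf

/-- `B` permutes with `A`, elementwise formulation. -/
abbrev PermWith (A B : Subgroup G) : Prop :=
  ∀ b ∈ B, ∀ a ∈ A, ∃ a' ∈ A, ∃ b' ∈ B, b * a = a' * b'

theorem PermWith.symm {A B : Subgroup G} (h : PermWith A B) : PermWith B A := by
  intro a ha b hb
  obtain ⟨a', ha', b', hb', e⟩ := h b⁻¹ (inv_mem hb) a⁻¹ (inv_mem ha)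
  exact ⟨b'⁻¹, inv_mem hb', a'⁻¹, inv_mem ha', by
    rw [← mul_inv_rev, ← e, mul_inv_rev, inv_inv, inv_inv]⟩

/-- If `A` permutes with all conjugates of `B` in `p`-subgroups and `O_p(G) = 1` then `A`
centralises `B`. -/
theorem commute_of_pProducts [Finite G] {p : ℕ} [Fact p.Prime] {A B : Subgroup G}
    (hO : Cfsg.pCore p G = ⊥)
    (h : ∀ g : G, ∃ S : Subgroup G, IsPGroup p S ∧
      (S : Set G) = (A : Set G) * ((MulAut.conj g • B : Subgroup G) : Set G))
    {a b : G} (ha : a ∈ A) (hb : b ∈ B) : a * b = b * a := by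
  suffices ⁅a, b⁆ ∈ Cfsg.pCore p G by
    rw [hO, Subgroup.mem_bot, commutatorElement_eq_one_iff_mul_comm] at this
    exact this
  refine H65.mem_pCore_of_pairs fun g => ?_
  have hp : ∀ u v : G, PermWith (MulAut.conj u • A) (MulAut.conj v • B) := by
    intro u v
    obtain ⟨S, -, hS⟩ := h (u⁻¹ * v)
    have := comm_of_coe_eq_mul (S := MulAut.conj u • S) (A := MulAut.conj u • A)
      (B := MulAut.conj v • B) (by
        rw [show MulAut.conj v • B = MulAut.conj u • MulAut.conj (u⁻¹ * v) • B by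
          rw [conj_smul_conj_smul, mul_inv_cancel_left]]
        simp only [Subgroup.coe_pointwise_smul, hS, smul_mul'])
    exact this
  set A1 := MulAut.conj (1 : G) • A with hA1
  set X := A1 ⊔ MulAut.conj b • A with hX
  set Y := MulAut.conj (g * a) • B ⊔ MulAut.conj g • B with hY
  have hperm : PermWith X Y := by
    have h1 : ∀ v, PermWith X (MulAut.conj v • B) := fun v =>
      comm_sup_left (hp 1 v) (hp b v)
    exact PermWith.symm (comm_sup_left (PermWith.symm (h1 (g * a))) (PermWith.symm (h1 g)))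
  obtain ⟨T, hT⟩ := exists_subgroup_eq_mul_of_comm hperm
  obtain ⟨S, hSp, hS⟩ := h 1
  rw [map_one, one_smul] at hS
  have hle := le_of_coe_eq_mul hS
  have haS : a ∈ S := hle (Subgroup.mem_sup_left ha)
  have hbS : b ∈ S := hle (Subgroup.mem_sup_right hb)
  have hX' : IsPGroup p X := hSp.to_le (by
    refine sup_le ?_ ?_
    · rw [hA1, map_one, one_smul]; exact le_sup_left.trans hle
    · rw [← Subgroup.conj_smul_eq_self_of_mem hbS]
      exact Subgroup.pointwise_smul_le_pointwise_smul_iff.mpr (le_sup_left.trans hle))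
  have hY' : IsPGroup p Y := by
    have hYS : Y ≤ MulAut.conj g • S := by
      refine sup_le ?_ (Subgroup.pointwise_smul_le_pointwise_smul_iff.mpr (le_sup_right.trans hle))
      rw [← conj_smul_conj_smul, Subgroup.pointwise_smul_le_pointwise_smul_iff,
        ← Subgroup.conj_smul_eq_self_of_mem haS]
      exact Subgroup.pointwise_smul_le_pointwise_smul_iff.mpr (le_sup_right.trans hle)
    exact (hSp.of_equiv (Subgroup.equivSMul (MulAut.conj g) S)).to_le hYS
  have hTp : IsPGroup p T := by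
    obtain ⟨i, hi⟩ := IsPGroup.iff_card.mp hX'
    obtain ⟨j, hj⟩ := IsPGroup.iff_card.mp hY'
    have hc := card_mul_set_mul_card_inf X Y
    rw [← hT, hi, hj, ← pow_add] at hc
    exact IsPGroup.of_card_dvd_pow (n := i + j) (Dvd.intro _ hc)
  refine hTp.to_le ((Subgroup.closure_le T).mpr ?_)
  have hTle := le_of_coe_eq_mul hT
  rintro x (rfl | hx)
  · refine hTle (Subgroup.mem_sup_left ?_)
    rw [commutatorElement_def, show a * b * a⁻¹ * b⁻¹ = a * (b * a⁻¹ * b⁻¹) by group]
    refine mul_mem (Subgroup.mem_sup_left ?_)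
      (Subgroup.mem_sup_right (conj_mem_conj_smul b (inv_mem ha)))
    rw [hA1, map_one, one_smul]; exact ha
  · rw [Set.mem_singleton_iff] at hx
    subst hx
    refine hTle (Subgroup.mem_sup_right ?_)
    rw [commutatorElement_def,
      show g * (a * b * a⁻¹ * b⁻¹) * g⁻¹ = (g * a) * b * (g * a)⁻¹ * (g * b⁻¹ * g⁻¹) by group]
    exact mul_mem (Subgroup.mem_sup_left (conj_mem_conj_smul (g * a) hb))
      (Subgroup.mem_sup_right (conj_mem_conj_smul g (inv_mem hb)))

theorem isSolvable_of_nilpotent_factors_aux (n : ℕ) : ∀ (G : Type u) [Group G] [Finite G],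
    Nat.card G = n → ∀ A B : Subgroup G, Group.IsNilpotent A → Group.IsNilpotent B →
    Factorizes A B → Group.IsSolvable G := by
  induction n using Nat.strong_induction_on with
  | _ n ih =>
  intro G _ _ hn A B hA hB hf
  by_contra hns
  have hquot : ∀ (N : Subgroup G) [N.Normal], N ≠ ⊥ → Group.IsSolvable (G ⧸ N) := by
    intro N _ hN
    exact ih _ (hn ▸ card_quotient_lt N hN) (G ⧸ N) rfl (A.map (QuotientGroup.mk' N))
      (B.map (QuotientGroup.mk' N)) (nilpotent_map_subgroup hA _) (nilpotent_map_subgroup hB _)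
      (factorizes_map hf _ (QuotientGroup.mk'_surjective N))
  have hnosolv : ∀ (N : Subgroup G) [N.Normal], Group.IsSolvable N → N = ⊥ := by
    intro N _ hN
    by_contra hne
    exact hns ((Group.isSolvable_iff_subgroup_quotient N).mpr ⟨hN, hquot N hne⟩)
  by_cases hcop : (Nat.card A).Coprime (Nat.card B)
  · exact hns (isSolvable_of_coprime A B hA hB hcop hf)
  obtain ⟨p, hp, hpA, hpB⟩ := Nat.Prime.not_coprime_iff_dvd.mp hcop
  haveI := Fact.mk hp
  have hO : Cfsg.pCore p G = ⊥ := by
    haveI := H1.pCore_normal' p G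
    haveI := (H1.isPGroup_pCore p G).isNilpotent
    exact hnosolv _ inferInstance
  obtain ⟨P, Q, R, hR⟩ := hf.exists_sylow_mul p
  set A1 := (P : Subgroup A).map A.subtype with hA1
  set B1 := (Q : Subgroup B).map B.subtype with hB1
  have hnorm : ∀ {C : Subgroup G}, Group.IsNilpotent C → ∀ S : Sylow p C,
      C ≤ normalizer (((S : Subgroup C).map C.subtype : Subgroup G) : Set G) := by
    intro C hC S c hc
    haveI := hC
    haveI : (S : Subgroup C).Normal :=
      Sylow.normal_of_normalizerCondition Group.normalizerCondition_of_isNilpotent S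
    refine Subgroup.le_normalizer_map C.subtype ⟨⟨c, hc⟩, ?_, rfl⟩
    rw [Subgroup.normalizer_eq_top]; exact Subgroup.mem_top _
  have hpair : ∀ g : G, ∃ S : Subgroup G, IsPGroup p S ∧
      (S : Set G) = (A1 : Set G) * ((MulAut.conj g • B1 : Subgroup G) : Set G) := by
    intro g
    obtain ⟨a, ha, b, hb, rfl⟩ := hf g
    refine ⟨MulAut.conj a • (R : Subgroup G),
      R.2.of_equiv (Subgroup.equivSMul (MulAut.conj a) (R : Subgroup G)), ?_⟩
    rw [conj_smul_mul_of_mem (hnorm hB Q) hb]
    conv_rhs => rw [← conj_smul_eq_of_mem_normalizer (H := A1) (hnorm hA P ha)]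
    simp only [Subgroup.coe_pointwise_smul, hR, smul_mul', hA1, hB1]
  have hcomm : ∀ (g : G), ∀ x ∈ A1, ∀ y ∈ MulAut.conj g • B1, x * y = y * x := by
    intro g x hx y hy
    refine commute_of_pProducts hO (fun h => ?_) hx hy
    rw [conj_smul_conj_smul]
    exact hpair _
  set X := normalClosure (A1 : Set G) with hX
  set Y := normalClosure (B1 : Set G) with hY
  have hA1Y : A1 ≤ centralizer (Y : Set G) := by
    rw [Subgroup.le_centralizer_iff, hY, normalClosure, closure_le]
    intro y hy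
    obtain ⟨b, hb, hby⟩ := Group.mem_conjugatesOfSet_iff.mp hy
    obtain ⟨g, rfl⟩ := isConj_iff.mp hby
    exact Subgroup.mem_centralizer_iff.mpr fun x hx => hcomm g x hx _ (conj_mem_conj_smul g hb)
  haveI : X.Normal := normalClosure_normal
  haveI : Y.Normal := normalClosure_normal
  have hXY : X ≤ centralizer (Y : Set G) := normalClosure_le_normal hA1Y
  have hne : ∀ {C : Subgroup G}, p ∣ Nat.card C → ∀ S : Sylow p C,
      normalClosure (((S : Subgroup C).map C.subtype : Subgroup G) : Set G) ≠ ⊥ := by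
    intro C hC S h
    refine S.ne_bot_of_dvd_card hC ?_
    rw [← Subgroup.map_eq_bot_iff_of_injective _ C.subtype_injective, ← le_bot_iff, ← h]
    exact le_normalClosure
  have hinf : X ⊓ Y = ⊥ := by
    refine hnosolv _ (Group.isSolvable_of_comm fun u v => Subtype.ext ?_)
    exact (Subgroup.mem_centralizer_iff.mp (hXY u.2.1) v v.2.2).symm
  haveI := hquot X (hne hpA P)
  haveI := hquot Y (hne hpB Q)
  have hinj : Function.Injective ((QuotientGroup.mk' X).prod (QuotientGroup.mk' Y)) := by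
    rw [← MonoidHom.ker_eq_bot_iff, eq_bot_iff, ← hinf]
    intro x hx
    have h1 := MonoidHom.mem_ker.mp hx
    rw [MonoidHom.prod_apply, Prod.mk_eq_one] at h1
    exact ⟨(QuotientGroup.eq_one_iff x).mp h1.1, (QuotientGroup.eq_one_iff x).mp h1.2⟩
  exact hns (Group.isSolvable_of_isSolvable_injective hinj)

/-- The theorem of Kegel and Wielandt. -/
theorem isSolvable_of_nilpotent_factors [Finite G] (A B : Subgroup G) (hA : Group.IsNilpotent A)
    (hB : Group.IsNilpotent B) (hf : Factorizes A B) : Group.IsSolvable G :=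
  isSolvable_of_nilpotent_factors_aux _ G rfl A B hA hB hf

/-- In a nilpotent group a proper subgroup lies in a proper normal subgroup. -/
theorem exists_normal_of_nilpotent [Finite G] [Group.IsNilpotent G] {A : Subgroup G}
    (hA : A ≠ ⊤) : ∃ N : Subgroup G, N.Normal ∧ N ≠ ⊤ ∧ A ≤ N := by
  obtain ⟨N, hN, hAN⟩ := (eq_top_or_exists_le_coatom A).resolve_left hA
  exact ⟨N, Group.normalizerCondition_of_isNilpotent.normal_of_coatom N hN, hN.1, hAN⟩

theorem exists_normal_factor_le_aux (n : ℕ) : ∀ (G : Type u) [Group G] [Finite G],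
    Nat.card G = n → ∀ A B : Subgroup G, Group.IsNilpotent A → Group.IsNilpotent B →
    Factorizes A B → (A ≠ ⊤ ∨ B ≠ ⊤) →
    ∃ N : Subgroup G, N.Normal ∧ N ≠ ⊤ ∧ (A ≤ N ∨ B ≤ N) := by
  induction n using Nat.strong_induction_on with
  | _ n ih =>
  intro G _ _ hn A B hA hB hf hprop
  by_cases hnil : Group.IsNilpotent G
  · haveI := hnil
    rcases hprop with h | h
    · obtain ⟨N, h1, h2, h3⟩ := exists_normal_of_nilpotent h
      exact ⟨N, h1, h2, Or.inl h3⟩
    · obtain ⟨N, h1, h2, h3⟩ := exists_normal_of_nilpotent h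
      exact ⟨N, h1, h2, Or.inr h3⟩
  have hprop' : ∀ C : Subgroup G, Group.IsNilpotent C → C ≠ ⊤ := fun C hC h => hnil
    ((Group.isNilpotent_congr ((MulEquiv.subgroupCongr h).trans Subgroup.topEquiv)).mp hC)
  haveI hsol := isSolvable_of_nilpotent_factors A B hA hB hf
  -- reduce to `G = A N = B N` for all nontrivial normal `N`
  by_cases hred : ∃ (N : Subgroup G) (_ : N.Normal), N ≠ ⊥ ∧ (A ⊔ N ≠ ⊤ ∨ B ⊔ N ≠ ⊤)
  · obtain ⟨N, hNn, hN0, hor⟩ := hred
    set q := QuotientGroup.mk' N with hq
    have key : ∀ C : Subgroup G, C ⊔ N ≠ ⊤ → C.map q ≠ ⊤ := fun C hC h => hC (by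
      have := congrArg (Subgroup.comap q) h
      rwa [Subgroup.comap_map_eq, QuotientGroup.ker_mk', Subgroup.comap_top] at this)
    obtain ⟨M, hMn, hMt, hcase⟩ := ih _ (hn ▸ card_quotient_lt N hN0) (G ⧸ N) rfl (A.map q)
      (B.map q) (nilpotent_map_subgroup hA _) (nilpotent_map_subgroup hB _)
      (factorizes_map hf _ (QuotientGroup.mk'_surjective N)) (hor.imp (key A) (key B))
    refine ⟨M.comap q, hMn.comap q, fun h => hMt ?_,
      hcase.imp Subgroup.map_le_iff_le_comap.mp Subgroup.map_le_iff_le_comap.mp⟩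
    rw [← Subgroup.map_comap_eq_self_of_surjective (QuotientGroup.mk'_surjective N) M, h,
      Subgroup.map_top_of_surjective _ (QuotientGroup.mk'_surjective N)]
  exfalso
  push Not at hred
  haveI : Nontrivial G := not_subsingleton_iff_nontrivial.mp fun hs => hnil inferInstance
  obtain ⟨p, N, hp, hNn, hN0, hNp⟩ := H1.exists_normal_pgroup_ne_bot G
  haveI := hNn
  obtain ⟨N', hN'n, hN'0, hN'N, hN'min⟩ := H3.exists_minNormal_le N hN0
  haveI := hN'n
  haveI := Fact.mk hp
  have hN'p : IsPGroup p N' := hNp.to_le hN'N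
  have hcomm := H3.minNormal_comm N' hN'0 hN'min
  have hNC : N' ≤ centralizer (N' : Set G) := fun x hx => Subgroup.mem_centralizer_iff.mpr
    fun y hy => congrArg Subtype.val (hcomm.is_comm.comm (⟨y, hy⟩ : N') ⟨x, hx⟩)
  -- every nontrivial normal subgroup supplements both factors
  have hnotle : ∀ (C : Subgroup G), Group.IsNilpotent C →
      (∀ (X : Subgroup G) [X.Normal], X ≠ ⊥ → C ⊔ X = ⊤) →
      C ⊓ N' = ⊥ ∧ ∀ H : Subgroup G, H ≤ C → (∀ c ∈ C, c ∈ normalizer (H : Set G)) →
        H ≠ ⊥ → (Nat.card H).Coprime p → normalizer (H : Set G) = C := by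
    intro C hC hsupp
    have hinf : ∀ X : Subgroup G, X ≤ N' → C ≤ normalizer (X : Set G) → X = ⊥ ∨ X = N' := by
      intro X hX hCX
      refine hN'min X ?_ hX
      rw [← Subgroup.normalizer_eq_top_iff, eq_top_iff, ← hsupp N' hN'0]
      refine sup_le hCX ((hNC.trans (Subgroup.centralizer_le hX)).trans
        (Subgroup.centralizer_le_normalizer _))
    have hN'C : C ≤ normalizer (N' : Set G) := by
      rw [Subgroup.normalizer_eq_top]; exact le_top
    have h1 : C ⊓ N' = ⊥ := by
      refine (hinf _ inf_le_right ?_).resolve_right fun h => ?_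
      · intro c hc
        apply mem_normalizer_of_conj_smul_eq
        rw [Subgroup.smul_inf, Subgroup.conj_smul_eq_self_of_mem hc,
          conj_smul_eq_of_mem_normalizer (hN'C hc)]
      · have hle : N' ≤ C := h ▸ inf_le_left
        exact hprop' C hC (by rw [← hsupp N' hN'0, sup_eq_left.mpr hle])
    refine ⟨h1, fun H hHC hCH hH0 hHp => le_antisymm (fun g hg => ?_) hCH⟩
    have hdisj : H ⊓ N' = ⊥ := le_bot_iff.mp ((inf_le_inf_right N' hHC).trans h1.le)
    set Z := N' ⊓ centralizer (H : Set G) with hZ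
    have hCZ : C ≤ normalizer (Z : Set G) := by
      intro c hc
      apply mem_normalizer_of_conj_smul_eq
      rw [hZ, Subgroup.smul_inf, conj_smul_eq_of_mem_normalizer (hN'C hc)]
      congr 1
      ext z
      rw [mem_conj_smul_iff, Subgroup.mem_centralizer_iff, Subgroup.mem_centralizer_iff]
      have hn' := Subgroup.mem_normalizer_iff.mp (hCH c hc)
      constructor
      · intro h y hy
        have h' := h (c⁻¹ * y * c) ((hn' _).mpr (by simpa [mul_assoc] using hy))
        have h'' := congrArg (fun t => c * t * c⁻¹) h'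
        simpa [mul_assoc] using h''
      · intro h y hy
        have h' := h (c * y * c⁻¹) ((hn' y).mp hy)
        have h'' := congrArg (fun t => c⁻¹ * t * c) h'
        simpa [mul_assoc] using h''
    have hZ0 : Z = ⊥ := by
      refine (hinf _ inf_le_left hCZ).resolve_right fun h => hH0 ?_
      -- then `H` is normal in `G`, so it is supplemented by `C ≥ H`
      have hHn : H.Normal := by
        rw [← Subgroup.normalizer_eq_top_iff, eq_top_iff, ← hsupp N' hN'0]
        exact sup_le hCH ((h ▸ inf_le_right).trans (Subgroup.centralizer_le_normalizer _))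
      by_contra hne
      haveI := hHn
      exact hprop' C hC (by rw [← hsupp H hne, sup_eq_left.mpr hHC])
    obtain ⟨c, hc, x, hx, rfl⟩ : ∃ c ∈ C, ∃ x ∈ N', c * x = g :=
      Subgroup.mem_sup_of_normal_right.mp (hsupp N' hN'0 ▸ Subgroup.mem_top g)
    have hxn : x ∈ normalizer (H : Set G) := by
      have := mul_mem (inv_mem (hCH c hc)) hg
      rwa [inv_mul_cancel_left] at this
    have hxZ : x ∈ Z := ⟨hx, Subgroup.mem_centralizer_iff.mpr fun y hy => by
      have h2 : x * y * x⁻¹ * y⁻¹ ∈ H ⊓ N' := by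
        refine ⟨H.mul_mem ((Subgroup.mem_normalizer_iff.mp hxn y).mp hy) (H.inv_mem hy), ?_⟩
        rw [show x * y * x⁻¹ * y⁻¹ = x * (y * x⁻¹ * y⁻¹) by group]
        exact N'.mul_mem hx (hN'n.conj_mem _ (N'.inv_mem hx) y)
      rw [hdisj, Subgroup.mem_bot, mul_inv_eq_one, mul_inv_eq_iff_eq_mul] at h2
      exact h2.symm⟩
    rw [hZ0, Subgroup.mem_bot] at hxZ
    rw [hxZ, mul_one]; exact hc
  obtain ⟨hAN, hnA⟩ := hnotle A hA fun X hX h0 => (hred X hX h0).1
  obtain ⟨hBN, hnB⟩ := hnotle B hB fun X hX h0 => (hred X hX h0).2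
  have hcard : ∀ C : Subgroup G, C ⊔ N' = ⊤ → C ⊓ N' = ⊥ → C.index = Nat.card N' := by
    intro C h1 h2
    exact (Subgroup.isComplement'_of_disjoint_and_mul_eq_univ (disjoint_iff.mpr h2)
      (by rw [← Subgroup.mul_normal, h1]; simp)).symm.index_eq_card
  -- Hall `p'`-subgroups of `G` inside `A` and inside `B`
  have hnotp : ¬ IsPGroup p G := fun h => hnil h.isNilpotent
  have hhall : ∀ C : Subgroup G, Group.IsNilpotent C → C ⊔ N' = ⊤ → C ⊓ N' = ⊥ →
      ∃ H : Subgroup G, H ≤ C ∧ (∀ c ∈ C, c ∈ normalizer (H : Set G)) ∧ H ≠ ⊥ ∧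
        (Nat.card H).Coprime p ∧ ∃ e, H.index = p ^ e := by
    intro C hC h1 h2
    haveI := hC
    obtain ⟨H0, -, hH0, hH0'⟩ := H1.hall_pi_exists_ge (G := C) (fun r => r ≠ p) ⊥
      (fun r hr hd => absurd (Subgroup.card_bot (G := C) ▸ hd) hr.not_dvd_one)
    set H := H0.map C.subtype with hH
    have hcop : (Nat.card H).Coprime p := by
      rw [hH, Subgroup.card_map_of_injective C.subtype_injective]
      exact (hp.coprime_iff_not_dvd.mpr fun hd => hH0 p hp hd rfl).symm
    have hrel : ∃ e, H.relIndex C = p ^ e := by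
      refine ⟨_, Nat.eq_prime_pow_of_unique_prime_dvd Subgroup.index_ne_zero_of_finite ?_⟩
      intro r hr hd
      rw [hH, Subgroup.relIndex, Subgroup.subgroupOf,
        Subgroup.comap_map_eq_self_of_injective C.subtype_injective] at hd
      exact not_not.mp (hH0' r hr hd)
    obtain ⟨e, he⟩ := hrel
    obtain ⟨-, -, -, -, -, -, hnorm⟩ := nilpotent_split hC (Subgroup.map_subtype_le H0)
      ((hp.coprime_iff_not_dvd).mp hcop.symm) he
    obtain ⟨d, hd⟩ := IsPGroup.iff_card.mp hN'p
    have hidx : H.index = p ^ (e + d) := by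
      rw [← Subgroup.relIndex_mul_index (Subgroup.map_subtype_le H0), he, hcard C h1 h2, hd, pow_add]
    refine ⟨H, Subgroup.map_subtype_le H0, fun c hc => hnorm hc, fun h => ?_, hcop, _, hidx⟩
    rw [h, Subgroup.index_bot] at hidx
    exact hnotp (IsPGroup.of_card hidx)
  obtain ⟨H, hHA, hAH, hH0, hHp, e, he⟩ := hhall A hA (hred N' hN'n hN'0).1 hAN
  obtain ⟨K, hKB, hBK, hK0, hKp, e', he'⟩ := hhall B hB (hred N' hN'n hN'0).2 hBN
  have hNH : normalizer (H : Set G) = A := hnA H hHA hAH hH0 hHp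
  have hNK : normalizer (K : Set G) = B := hnB K hKB hBK hK0 hKp
  have hπ : ∀ (L : Subgroup G), (Nat.card L).Coprime p → ∀ r : ℕ, r.Prime → r ∣ Nat.card L →
      r ≠ p := fun L hL r hr hd h => hr.not_dvd_one (hL ▸ Nat.dvd_gcd hd (h ▸ dvd_rfl))
  have hπ' : ∀ (L : Subgroup G) (k : ℕ), L.index = p ^ k → ∀ r : ℕ, r.Prime → r ∣ L.index →
      ¬ r ≠ p := fun L k hL r hr hd => not_not.mpr
        ((Nat.prime_dvd_prime_iff_eq hr hp).mp (hr.dvd_of_dvd_pow (hL ▸ hd)))
  obtain ⟨g, hg⟩ := H1.hall_pi_conj (fun r => r ≠ p) (hπ H hHp) (hπ' H e he) (hπ K hKp)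
    (hπ' K e' he')
  have hAB : MulAut.conj g • A = B := by
    rw [← hNH, ← hNK]
    ext x
    rw [mem_conj_smul_iff]
    constructor
    · intro hx
      apply mem_normalizer_of_conj_smul_eq
      have h1 := conj_smul_eq_of_mem_normalizer hx
      rw [← hg]
      conv_rhs => rw [← h1]
      rw [conj_smul_conj_smul, conj_smul_conj_smul]
      congr 2; group
    · intro hx
      apply mem_normalizer_of_conj_smul_eq
      have h1 := conj_smul_eq_of_mem_normalizer hx
      rw [← hg, conj_smul_conj_smul] at h1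
      have h2 := congrArg (fun L => MulAut.conj g⁻¹ • L) h1
      simp only [conj_smul_conj_smul, inv_mul_cancel, map_one, one_smul] at h2
      rwa [← mul_assoc] at h2
  have hgA : g ∈ A := by
    obtain ⟨a, ha, b, hb, hab⟩ := hf g⁻¹
    rw [← hAB, mem_conj_smul_iff] at hb
    have e1 : g⁻¹ * b * g = g⁻¹ * (a⁻¹ * g⁻¹) * g := by rw [hab, inv_mul_cancel_left]
    rw [e1, show g⁻¹ * (a⁻¹ * g⁻¹) * g = g⁻¹ * a⁻¹ by group] at hb
    have := A.mul_mem hb ha
    rw [mul_assoc, inv_mul_cancel, mul_one] at this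
    exact (inv_mem_iff).mp this
  rw [Subgroup.conj_smul_eq_self_of_mem hgA] at hAB
  refine hprop' A hA (eq_top_iff.mpr fun x _ => ?_)
  obtain ⟨a, ha, b, hb, rfl⟩ := hf x
  rw [← hAB] at hb
  exact A.mul_mem ha hb

/-- A product of two proper nilpotent subgroups has a proper normal subgroup containing one. -/
theorem exists_normal_factor_le [Finite G] (A B : Subgroup G) (hA : Group.IsNilpotent A)
    (hB : Group.IsNilpotent B) (hf : Factorizes A B) (h : A ≠ ⊤ ∨ B ≠ ⊤) :
    ∃ N : Subgroup G, N.Normal ∧ N ≠ ⊤ ∧ (A ≤ N ∨ B ≤ N) :=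
  exists_normal_factor_le_aux _ G rfl A B hA hB hf h

end H4
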