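import Mathlib
import Cfsg.Agent.H1.Cores

/-!
Inverted `p`-elements: producing them from elements of `2`-power order.
-/

set_option autoImplicit false

namespace H4.RealZJ

open Subgroup

variable {G : Type*} [Group G]

/-- An element of `2`-power order which normalizes but does not centralize `R` has a power
inverting a nontrivial element of `R`. -/
theorem exists_inverted_of_two_pow (R : Subgroup G) : ∀ (k : ℕ) (t : G), t ^ (2 ^ k) = 1 →
    t ∈ normalizer (R : Set G) → t ∉ centralizer (R : Set G) →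
    ∃ y ∈ R, y ≠ 1 ∧ ∃ g ∈ zpowers t, g * y * g⁻¹ = y⁻¹ := by
  intro k
  induction k with
  | zero =>
    intro t ht _ htc
    rw [pow_zero, pow_one] at ht
    exact absurd (ht ▸ one_mem _) htc
  | succ k ih =>
    intro t ht htn htc
    by_cases h2 : t ^ 2 ∈ centralizer (R : Set G)
    · obtain ⟨r, hr, hne⟩ : ∃ r ∈ R, r * t ≠ t * r := by
        by_contra hall
        push Not at hall
        exact htc (mem_centralizer_iff.mpr hall)
      have hs : t * r * t⁻¹ ∈ R := (mem_normalizer_iff.mp htn r).mp hr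
      refine ⟨r⁻¹ * (t * r * t⁻¹), R.mul_mem (R.inv_mem hr) hs, fun h => hne ?_, t,
        mem_zpowers t, ?_⟩
      · rw [inv_mul_eq_one] at h
        exact eq_mul_inv_iff_mul_eq.mp h
      · have e : t ^ 2 * r * (t ^ 2)⁻¹ = r := by
          rw [← mem_centralizer_iff.mp h2 r hr, mul_inv_cancel_right]
        calc t * (r⁻¹ * (t * r * t⁻¹)) * t⁻¹ = (t * r * t⁻¹)⁻¹ * (t ^ 2 * r * (t ^ 2)⁻¹) := by
              rw [pow_two]; group
          _ = _ := by rw [e]; group
    · obtain ⟨y, hy, hy1, g, hg, hgy⟩ := ih (t ^ 2) (by rw [← pow_mul, ← pow_succ', ht])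
        (pow_mem htn 2) h2
      exact ⟨y, hy, hy1, g, (zpowers_le.mpr (pow_mem (mem_zpowers t) 2)) hg, hgy⟩

variable [Finite G] {H : Type*} [Group H]

/-- The `2`-part of an element, as an odd power. -/
theorem exists_odd_pow_two_pow (u : G) : ∃ m k : ℕ, Odd m ∧ (u ^ m) ^ (2 ^ k) = 1 := by
  obtain ⟨k, m, hm, he⟩ := Nat.exists_eq_two_pow_mul_odd (orderOf_pos u).ne'
  exact ⟨m, k, hm, by rw [← pow_mul, mul_comm, ← he, pow_orderOf_eq_one]⟩

/-- If `u` normalizes `R` and inverts a nontrivial element of odd order in the image of `R`, then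
a power of `u` inverts a nontrivial element of `R`. -/
theorem exists_inverted_of_map (f : G →* H) (R : Subgroup G) {y u : G} (hy : y ∈ R)
    (hu : u ∈ normalizer (R : Set G)) (hinv : f u * f y * (f u)⁻¹ = (f y)⁻¹)
    (hne : f y * f y ≠ 1) :
    ∃ y' ∈ R, y' ≠ 1 ∧ ∃ g ∈ zpowers u, g * y' * g⁻¹ = y'⁻¹ := by
  obtain ⟨m, k, ⟨j, hj⟩, hk⟩ := exists_odd_pow_two_pow u
  have h2 : Commute (f u ^ 2) (f y) := by
    have : f u ^ 2 * f y * (f u ^ 2)⁻¹ = f y := by
      calc f u ^ 2 * f y * (f u ^ 2)⁻¹ = f u * (f u * f y * (f u)⁻¹) * (f u)⁻¹ := by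
            rw [pow_two]; group
        _ = f u * (f y)⁻¹ * (f u)⁻¹ := by rw [hinv]
        _ = (f u * f y * (f u)⁻¹)⁻¹ := by group
        _ = f y := by rw [hinv, inv_inv]
    exact mul_inv_eq_iff_eq_mul.mp this
  have hm : u ^ m ∉ centralizer (R : Set G) := by
    intro hc
    apply hne
    have h1 : f y * f u ^ m = f u ^ m * f y := by
      rw [← map_pow, ← map_mul, ← map_mul, mem_centralizer_iff.mp hc y hy]
    have h3 : f u ^ m * f y * (f u ^ m)⁻¹ = (f y)⁻¹ := by
      rw [hj, pow_succ', pow_mul, mul_assoc (f u), (h2.pow_left j).eq]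
      conv_rhs => rw [← hinv]
      group
    rw [← h1, mul_inv_cancel_right, ← mul_eq_one_iff_eq_inv] at h3
    exact h3
  obtain ⟨y', hy', hy1, g, hg, hgy⟩ :=
    exists_inverted_of_two_pow R k (u ^ m) hk (pow_mem hu m) hm
  exact ⟨y', hy', hy1, g, (zpowers_le.mpr (pow_mem (mem_zpowers u) m)) hg, hgy⟩

end H4.RealZJ
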