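import Cfsg.Agent.H4.Ito

/-!
A nontrivial finite product of two abelian subgroups has a nontrivial normal subgroup inside one
of the factors.
-/

set_option autoImplicit false

namespace H4

open commutatorElement

variable {G : Type*} [Group G] {A B : Subgroup G}

theorem comm_of_isMulCommutative {A : Subgroup G} [IsMulCommutative A] {x y : G} (hx : x ∈ A)
    (hy : y ∈ A) : x * y = y * x :=
  congrArg Subtype.val (mul_comm' (⟨x, hx⟩ : A) ⟨y, hy⟩)

/-- Conjugate elements, one in each of two abelian factors, are equal. -/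
theorem eq_of_conj_factors [IsMulCommutative A] [IsMulCommutative B] (hAB : Factorizes A B)
    {a b g : G} (ha : a ∈ A) (hb : b ∈ B) (h : g * b * g⁻¹ = a) : a = b := by
  obtain ⟨x, hx, y, hy, rfl⟩ := hAB g
  have hyb : y * b * y⁻¹ = b := by rw [comm_of_isMulCommutative hy hb, mul_inv_cancel_right]
  have h1 : x * b * x⁻¹ = a := by
    rw [← hyb, ← h]; group
  have h2 : x⁻¹ * a * x = a := by
    rw [comm_of_isMulCommutative (A.inv_mem hx) ha, inv_mul_cancel_right]
  rw [← h2, ← h1]; group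

theorem mem_center_of_factorizes (hAB : Factorizes A B) {z : G}
    (hA : ∀ a ∈ A, a * z = z * a) (hB : ∀ b ∈ B, b * z = z * b) : z ∈ Subgroup.center G := by
  rw [Subgroup.mem_center_iff]
  intro g
  obtain ⟨a, ha, b, hb, rfl⟩ := hAB g
  rw [mul_assoc, hB b hb, ← mul_assoc, hA a ha, mul_assoc]

theorem exists_normal_le_factor [Finite G] [Nontrivial G] [IsMulCommutative A] [IsMulCommutative B]
    (hAB : Factorizes A B) : ∃ N : Subgroup G, N.Normal ∧ N ≠ ⊥ ∧ (N ≤ A ∨ N ≤ B) := by
  -- trivial centre is the only interesting case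
  by_cases hZ : Subgroup.center G = ⊥
  swap
  · obtain ⟨z, hz, hz1⟩ := (Subgroup.bot_or_exists_ne_one _).resolve_left hZ
    obtain ⟨a, ha, b, hb, rfl⟩ := hAB z
    rw [Subgroup.mem_center_iff] at hz
    have hca : a ∈ Subgroup.center G := by
      refine mem_center_of_factorizes hAB (fun u hu => comm_of_isMulCommutative hu ha) fun v hv => ?_
      have h1 := hz v
      rw [← mul_assoc, mul_assoc a b v, comm_of_isMulCommutative hb hv, ← mul_assoc] at h1
      exact mul_right_cancel h1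
    by_cases ha1 : a = 1
    · refine ⟨Subgroup.zpowers b, ?_, ?_, Or.inr (Subgroup.zpowers_le.mpr hb)⟩
      · subst ha1
        rw [one_mul] at hz
        exact ⟨fun n hn g => by
          rw [(Subgroup.mem_center_iff.mp ((Subgroup.zpowers_le.mpr
            (Subgroup.mem_center_iff.mpr hz)) hn) g), mul_inv_cancel_right]; exact hn⟩
      · subst ha1
        simpa using hz1
    · refine ⟨Subgroup.zpowers a, ?_, ?_, Or.inl (Subgroup.zpowers_le.mpr ha)⟩
      · exact ⟨fun n hn g => by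
          rw [(Subgroup.mem_center_iff.mp ((Subgroup.zpowers_le.mpr hca) hn) g),
            mul_inv_cancel_right]; exact hn⟩
      · simpa using ha1
  have hG' : commutator G ≠ ⊥ := by
    intro h
    rw [commutator_eq_bot_iff_center_eq_top, hZ] at h
    exact bot_ne_top h
  haveI : (commutator G).Normal := inferInstance
  obtain ⟨N, ⟨hN, hN1, hNG'⟩, hmin⟩ := (wellFounded_lt (α := Subgroup G)).has_min
    {N | N.Normal ∧ N ≠ ⊥ ∧ N ≤ commutator G} ⟨_, inferInstance, hG', le_rfl⟩
  haveI := hN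
  have hmin' : ∀ K : Subgroup G, K.Normal → K ≤ N → K = ⊥ ∨ K = N := by
    intro K hK hKN
    by_contra hc
    push Not at hc
    exact hmin K ⟨hK, hc.1, hKN.trans hNG'⟩ (lt_of_le_of_ne hKN hc.2)
  have hG'N : ∀ c ∈ commutator G, ∀ m ∈ N, m * c = c * m := by
    have h : commutator G ≤ Subgroup.centralizer (commutator G : Set G) := by
      rw [← Subgroup.commutator_eq_bot_iff_le_centralizer]
      exact ito_derivedSeries_two hAB
    exact fun c hc m hm => Subgroup.mem_centralizer_iff.mp (h hc) m (hNG' hm)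
  have hfix : ∀ x : G, (N ⊓ Subgroup.centralizer ({x} : Set G)).Normal := by
    refine fun x => ⟨fun m hm g => ⟨hN.conj_mem m hm.1 g, ?_⟩⟩
    have hm2 := Subgroup.mem_centralizer_singleton_iff.mp hm.2
    refine Subgroup.mem_centralizer_singleton_iff.mpr ?_
    have hc : g⁻¹ * x * g * x⁻¹ ∈ commutator G := by
      have := Subgroup.commutator_mem_commutator (Subgroup.mem_top g⁻¹) (Subgroup.mem_top x)
      rwa [commutatorElement_def, inv_inv] at this
    have hcomm : m * (g⁻¹ * x * g) = (g⁻¹ * x * g) * m := by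
      have e : g⁻¹ * x * g = (g⁻¹ * x * g * x⁻¹) * x := by group
      rw [e, ← mul_assoc, hG'N _ hc m hm.1, mul_assoc, hm2, ← mul_assoc]
    calc g * m * g⁻¹ * x = g * (m * (g⁻¹ * x * g)) * g⁻¹ := by group
      _ = g * ((g⁻¹ * x * g) * m) * g⁻¹ := by rw [hcomm]
      _ = x * (g * m * g⁻¹) := by group
  have hcen : ∀ x : G, ∀ n ∈ N, n ≠ 1 → n * x = x * n → ∀ m ∈ N, m * x = x * m := by
    intro x n hn hn1 hnx m hm
    rcases hmin' _ (hfix x) inf_le_left with h | h
    · exact absurd ((Subgroup.mem_bot).mp (h ▸ (⟨hn, Subgroup.mem_centralizer_singleton_iff.mpr hnx⟩ :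
        n ∈ N ⊓ Subgroup.centralizer ({x} : Set G)))) hn1
    · exact Subgroup.mem_centralizer_singleton_iff.mp ((inf_eq_left.mp h) hm)
  by_cases hA : ∀ a ∈ A, ∀ m ∈ N, m * a = a * m
  · refine ⟨N, hN, hN1, Or.inl fun m hm => ?_⟩
    obtain ⟨a, ha, b, hb, rfl⟩ := hAB m
    have hb1 : b ∈ Subgroup.center G := by
      refine mem_center_of_factorizes hAB (fun u hu => ?_) fun v hv => comm_of_isMulCommutative hv hb
      have h1 := hA u hu _ hm
      rw [← mul_assoc, comm_of_isMulCommutative hu ha, mul_assoc a u b, mul_assoc a b u] at h1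
      exact (mul_left_cancel h1).symm
    rw [hZ, Subgroup.mem_bot] at hb1
    simpa [hb1] using ha
  push Not at hA
  obtain ⟨a', ha', m₀, hm₀, hm₀'⟩ := hA
  refine ⟨N, hN, hN1, Or.inr fun n hn => ?_⟩
  by_contra hnB
  obtain ⟨a, ha, b, hb, rfl⟩ := hAB n
  set n := a * b with hn_def
  have hn1 : n ≠ 1 := fun h => hnB (h ▸ B.one_mem)
  -- `[g, a]` lies in `N`
  have hfN : ∀ g : G, ⁅g, a⁆ ∈ N := by
    intro g
    set π := QuotientGroup.mk' N
    have hab : π a = (π b)⁻¹ := by
      rw [eq_inv_iff_mul_eq_one, ← map_mul]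
      exact (QuotientGroup.eq_one_iff _).mpr hn
    obtain ⟨u, hu, v, hv, rfl⟩ := hAB g
    have h1 : Commute (π u) (π a) := (Commute.map (comm_of_isMulCommutative hu ha) π)
    have h2 : Commute (π v) (π a) := by
      rw [hab]; exact (Commute.map (comm_of_isMulCommutative hv hb) π).inv_right
    refine (QuotientGroup.eq_one_iff _).mp ?_
    change π ⁅u * v, a⁆ = 1
    rw [map_commutatorElement, commutatorElement_eq_one_iff_commute, map_mul]
    exact h1.mul_left h2
  -- `n⁻¹` is not of the form `[g, a]`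
  have hno : ∀ g : G, ⁅g, a⁆ ≠ n⁻¹ := by
    intro g hg
    apply hn1
    have hconj : g⁻¹ * b⁻¹ * (g⁻¹)⁻¹ = a := by
      have hga : g * a * g⁻¹ = b⁻¹ := by
        have := congrArg (fun u => u * a) hg
        simp only [commutatorElement_def, inv_mul_cancel_right, hn_def, mul_inv_rev] at this
        exact this
      rw [← hga]; group
    have := eq_of_conj_factors hAB ha (B.inv_mem hb) hconj
    rw [hn_def, this, inv_mul_cancel]
  have haN : ∀ m ∈ N, m * a = a * m := by
    by_contra hc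
    push Not at hc
    obtain ⟨m₁, hm₁, hm₁'⟩ := hc
    have hinj : Function.Injective (fun m : N => (⟨⁅(m : G), a⁆, hfN m⟩ : N)) := by
      intro p q hpq
      have h : ⁅(p : G), a⁆ = ⁅(q : G), a⁆ := congrArg Subtype.val hpq
      simp only [commutatorElement_def] at h
      have h' := mul_right_cancel h
      have hcomm : ((q : G)⁻¹ * p) * a = a * ((q : G)⁻¹ * p) := by
        calc ((q : G)⁻¹ * p) * a = (q : G)⁻¹ * (p * a * (p : G)⁻¹) * p := by group
          _ = (q : G)⁻¹ * (q * a * (q : G)⁻¹) * p := by rw [h']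
          _ = a * ((q : G)⁻¹ * p) := by group
      by_contra hne
      refine hm₁' (hcen a _ (N.mul_mem (N.inv_mem q.2) p.2) ?_ hcomm m₁ hm₁)
      intro h1
      exact hne (Subtype.ext (inv_mul_eq_one.mp h1).symm)
    obtain ⟨m, hm⟩ := Finite.surjective_of_injective hinj ⟨n⁻¹, N.inv_mem hn⟩
    exact hno m (congrArg Subtype.val hm)
  have hmul : ∀ g h : G, ⁅g * h, a⁆ = g * ⁅h, a⁆ * g⁻¹ * ⁅g, a⁆ := by
    intro g h; simp only [commutatorElement_def]; group
  set C := Subgroup.centralizer (N : Set G) with hC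
  have hCc : ∀ c ∈ C, ∀ m ∈ N, c * m * c⁻¹ = m := fun c hc m hm => by
    rw [← Subgroup.mem_centralizer_iff.mp hc m hm, mul_inv_cancel_right]
  let φ : C →* G :=
    { toFun := fun c => ⁅(c : G), a⁆
      map_one' := by simp
      map_mul' := fun c d => by
        show ⁅(c : G) * d, a⁆ = _
        rw [hmul, hCc c c.2 _ (hfN d)]
        exact (Subgroup.mem_centralizer_iff.mp (hNG'.trans (fun x hx => Subgroup.mem_centralizer_iff.mpr
          fun y hy => hG'N x hx y hy) (hfN c)) _ (hfN d)) }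
  have hφn : φ.range.Normal := by
    refine ⟨?_⟩
    rintro _ ⟨⟨c, hc⟩, rfl⟩ g
    refine ⟨⟨g * c * g⁻¹, (inferInstance : C.Normal).conj_mem c hc g⟩, ?_⟩
    show ⁅g * c * g⁻¹, a⁆ = g * ⁅c, a⁆ * g⁻¹
    rw [mul_assoc g c g⁻¹, hmul, hmul c g⁻¹, hCc c hc _ (hfN g⁻¹)]
    simp only [commutatorElement_def]
    have hk : g⁻¹ * a * g * a⁻¹ ∈ N := by simpa [commutatorElement_def] using hfN g⁻¹
    have hk2 : c * a * c⁻¹ * a⁻¹ ∈ N := by simpa [commutatorElement_def] using hfN c
    have hcm := hG'N _ (hNG' hk) _ hk2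
    calc g * (g⁻¹ * a * g⁻¹⁻¹ * a⁻¹ * (c * a * c⁻¹ * a⁻¹)) * g⁻¹ * (g * a * g⁻¹ * a⁻¹)
        = g * ((c * a * c⁻¹ * a⁻¹) * (g⁻¹ * a * g * a⁻¹)) * g⁻¹ * (g * a * g⁻¹ * a⁻¹) := by
          rw [inv_inv, hcm]
      _ = g * (c * a * c⁻¹ * a⁻¹) * g⁻¹ := by group
  have hφ : ∀ c ∈ C, ⁅c, a⁆ = 1 := by
    have hle : φ.range ≤ N := by rintro _ ⟨c, rfl⟩; exact hfN c
    rcases hmin' _ hφn hle with h | h
    · intro c hc
      exact Subgroup.mem_bot.mp (h ▸ (⟨⟨c, hc⟩, rfl⟩ : ⁅c, a⁆ ∈ φ.range))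
    · obtain ⟨c, hc⟩ := h.ge (N.inv_mem hn)
      exact absurd hc (hno c)
  -- now `g ↦ [g, a]` only depends on `g` modulo `C`
  have hsymm : ∀ g h : G, ⁅g * h, a⁆ = ⁅h * g, a⁆ := by
    intro g h
    have hc : ⁅g, h⁆ ∈ C := Subgroup.mem_centralizer_iff.mpr fun m hm =>
      hG'N _ (Subgroup.commutator_mem_commutator (Subgroup.mem_top g) (Subgroup.mem_top h)) m hm
    have e : g * h = ⁅g, h⁆ * (h * g) := by rw [commutatorElement_def]; group
    conv_lhs => rw [e, hmul, hφ _ hc, mul_one, hCc _ hc _ (hfN _)]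
  have hac : a ∈ Subgroup.center G := by
    rw [Subgroup.mem_center_iff]
    intro g
    by_contra hga
    have h1 : ⁅a', a⁆ = 1 := commutatorElement_eq_one_iff_mul_comm.mpr (comm_of_isMulCommutative ha' ha)
    have h2 := hsymm a' g
    rw [hmul, hmul, h1, mul_one, mul_one, mul_inv_cancel, one_mul] at h2
    refine hm₀' (hcen a' _ (hfN g) ?_ (mul_inv_eq_iff_eq_mul.mp h2).symm m₀ hm₀)
    exact fun h => hga (commutatorElement_eq_one_iff_mul_comm.mp h)
  rw [hZ, Subgroup.mem_bot] at hac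
  exact hnB (by simpa [hn_def, hac] using hb)

end H4
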