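import Cfsg.Agent.H2.FrobeniusBasic
import Cfsg.Agent.H5.Frobenius
import Cfsg.Agent.H1.CoprimeAction

/-!
A finite group with an abelian maximal subgroup has derived length at most three.
-/

set_option autoImplicit false

namespace H4

open Pointwise commutatorElement

variable {X : Type*} [Group X] [Finite X]

theorem commutator_le_of_commutative_sup {N A : Subgroup X} [N.Normal] [IsMulCommutative A]
    (h : ∀ x : X, ∃ n ∈ N, ∃ a ∈ A, x = n * a) : commutator X ≤ N := by
  haveI : IsMulCommutative (X ⧸ N) := by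
    refine ⟨⟨fun u v => ?_⟩⟩
    obtain ⟨x, rfl⟩ := QuotientGroup.mk'_surjective N u
    obtain ⟨y, rfl⟩ := QuotientGroup.mk'_surjective N v
    obtain ⟨n, hn, a, ha, rfl⟩ := h x
    obtain ⟨m, hm, b, hb, rfl⟩ := h y
    have h1 : QuotientGroup.mk' N n = 1 := (QuotientGroup.eq_one_iff n).mpr hn
    have h2 : QuotientGroup.mk' N m = 1 := (QuotientGroup.eq_one_iff m).mpr hm
    simp only [map_mul, h1, h2, one_mul]
    rw [← map_mul, ← map_mul]
    exact congrArg _ (congrArg Subtype.val (mul_comm' (⟨a, ha⟩ : A) ⟨b, hb⟩))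
  exact Subgroup.Normal.quotient_commutative_iff_commutator_le.mp inferInstance

/-- A group with an abelian maximal Frobenius complement is metabelian. -/
theorem derivedSeries_two_of_frobenius_coatom (A : Subgroup X) [IsMulCommutative A]
    (hF : Cfsg.IsFrobeniusComplement A) (hA : IsCoatom A) : derivedSeries X 2 = ⊥ := by
  obtain ⟨N, hN, hc⟩ := H5.exists_normal_isComplement'_of_fusion A
    (Subgroup.isNilpotent_of_lowerCentralSeries_eq_bot (n := 1) (by
      rw [Subgroup.lowerCentralSeries_succ, Subgroup.lowerCentralSeries_zero]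
      exact Subgroup.commutator_self_eq_bot_iff.mpr inferInstance))
    (H2.coprime_card_index hF) (fun x hx g hg => by
      refine ⟨1, A.one_mem, ?_⟩
      by_cases hx1 : x = 1
      · simp [hx1]
      have hgA : g ∈ A := H2.mem_of_conj_mem' hF hx hx1 hg
      rw [show g * x = x * g from congrArg Subtype.val (mul_comm' (⟨g, hgA⟩ : A) ⟨x, hx⟩)]
      simp)
  haveI := hN
  have hdec : ∀ x : X, ∃ n ∈ N, ∃ a ∈ A, x = n * a := fun x => by
    obtain ⟨⟨⟨n, hn⟩, ⟨a, ha⟩⟩, e⟩ := (hc.existsUnique x).exists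
    exact ⟨n, hn, a, ha, e.symm⟩
  have hG' : commutator X ≤ N := commutator_le_of_commutative_sup hdec
  have hAN : A ≤ Subgroup.normalizer (N : Set X) := by rw [Subgroup.normalizer_eq_top]; exact le_top
  have hmin : ∀ T : Subgroup X, T ≤ N → T ≠ ⊥ → A ≤ Subgroup.normalizer (T : Set X) → T = N := by
    intro T hTN hT hAT
    have hsup : T ⊔ A = ⊤ := hA.2 _ (lt_of_le_of_ne le_sup_right fun he => hT (by
      rw [← le_bot_iff, ← hc.disjoint.eq_bot]
      exact le_inf hTN (he ▸ le_sup_left)))
    refine le_antisymm hTN fun n hn => ?_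
    obtain ⟨t, ht, a, ha, e⟩ := H1.exists_mul_of_mem_sup hAT (hsup ▸ Subgroup.mem_top n)
    have : a ∈ N ⊓ A := ⟨by
      have := N.mul_mem (N.inv_mem (hTN ht)) hn
      rwa [e, inv_mul_cancel_left] at this, ha⟩
    rw [hc.disjoint.eq_bot, Subgroup.mem_bot] at this
    rw [e, this, mul_one]
    exact ht
  have hN1 : N ≠ ⊥ := by
    intro h
    apply hA.1
    rw [eq_top_iff]
    intro x _
    obtain ⟨n, hn, a, ha, rfl⟩ := hdec x
    rw [h, Subgroup.mem_bot] at hn
    simpa [hn] using ha
  have hNidx : A.index = Nat.card N := hc.index_eq_card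
  obtain ⟨q, hq, hqd⟩ := Nat.exists_prime_and_dvd (mt N.eq_bot_of_card_eq hN1)
  haveI := Fact.mk hq
  obtain ⟨Q, hQ⟩ := H1.exists_invariant_sylow (A := A) (K := N) hAN
    (hNidx ▸ H2.coprime_card_index hF)
    (Or.inl (Group.isSolvable_of_comm fun a b : A => mul_comm' a b)) q
  have hQN : (Q : Subgroup N).map N.subtype = N := hmin _ (Subgroup.map_subtype_le _) (by
    rw [Ne, Subgroup.map_eq_bot_iff_of_injective _ N.subtype_injective]
    exact Q.ne_bot_of_dvd_card hqd) hQ
  have hNq : IsPGroup q N := hQN ▸ Q.2.map N.subtype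
  haveI : Group.IsNilpotent N := hNq.isNilpotent
  haveI : Nontrivial N := (Subgroup.nontrivial_iff_ne_bot N).mpr hN1
  have hZN : (Subgroup.center N).map N.subtype = N := by
    refine hmin _ (Subgroup.map_subtype_le _) ?_ ?_
    · rw [Ne, Subgroup.map_eq_bot_iff_of_injective _ N.subtype_injective]
      exact Group.IsNilpotent.center_ne_bot _
    · haveI : ((Subgroup.center N).map N.subtype).Normal := ConjAct.normal_of_characteristic_of_normal
      rw [Subgroup.normalizer_eq_top]; exact le_top
  haveI : IsMulCommutative N := by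
    refine ⟨⟨fun a b => ?_⟩⟩
    obtain ⟨z, hz, e⟩ := hZN.ge b.2
    obtain rfl : z = b := Subtype.ext e
    exact Subgroup.mem_center_iff.mp hz a
  show ⁅commutator X, commutator X⁆ = ⊥
  exact le_bot_iff.mp ((Subgroup.commutator_mono hG' hG').trans
    (Subgroup.commutator_self_eq_bot_iff.mpr inferInstance).le)

theorem derivedSeries_three_of_abelian_coatom {G : Type*} [Group G] [Finite G] (A : Subgroup G)
    (hA : IsCoatom A) [IsMulCommutative A] : derivedSeries G 3 = ⊥ := by
  suffices h : derivedSeries G 2 ≤ A by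
    show ⁅derivedSeries G 2, derivedSeries G 2⁆ = ⊥
    exact le_bot_iff.mp ((Subgroup.commutator_mono h h).trans
      (Subgroup.commutator_self_eq_bot_iff.mpr inferInstance).le)
  by_cases hn : A.Normal
  · obtain ⟨g, hg⟩ : ∃ g : G, g ∉ A := by
      by_contra hc
      push Not at hc
      exact hA.1 (eq_top_iff.mpr fun x _ => hc x)
    have hgen : A ⊔ Subgroup.zpowers g = ⊤ :=
      hA.2 _ (lt_of_le_of_ne le_sup_left fun he => hg (by rw [he]; exact Subgroup.mem_sup_right (Subgroup.mem_zpowers g)))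
    have h1 : commutator G ≤ A := commutator_le_of_commutative_sup (A := Subgroup.zpowers g) fun x => by
      have hx : x ∈ A ⊔ Subgroup.zpowers g := hgen ▸ Subgroup.mem_top x
      rw [Subgroup.mem_sup_of_normal_left] at hx
      obtain ⟨a, ha, z, hz, e⟩ := hx
      exact ⟨a, ha, z, hz, e.symm⟩
    exact (derivedSeries_antitone (G := G) (show 1 ≤ 2 by omega)).trans h1
  have hNA : ∀ g : G, MulAut.conj g • A = A → g ∈ A := by
    intro g hg
    by_contra hgA
    apply hn
    rw [← Subgroup.normalizer_eq_top_iff]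
    refine hA.2 _ (lt_of_le_of_ne Subgroup.le_normalizer fun he => hgA (he.ge ?_))
    exact Subgroup.mem_normalizer_iff_map_conj_eq.mpr hg
  set Z := Subgroup.center G
  have hZA : Z ≤ A := fun z hz => hNA z (Subgroup.mem_normalizer_iff_map_conj_eq.mp
    (Subgroup.center_le_normalizer _ hz))
  have hinf : ∀ g : G, g ∉ A → A ⊓ MulAut.conj g • A ≤ Z := by
    intro g hg d hd
    have hne : MulAut.conj g • A ≠ A := fun h => hg (hNA g h)
    have hsup : A ⊔ MulAut.conj g • A = ⊤ := by
      refine hA.2 _ (lt_of_le_of_ne le_sup_left fun he => hne ?_)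
      have hle' : MulAut.conj g • A ≤ A := le_sup_right.trans he.ge
      exact Subgroup.eq_of_le_of_card_ge hle' (H1.card_conj_smul g A).ge
    have hle : A ⊔ MulAut.conj g • A ≤ Subgroup.centralizer {d} := by
      refine sup_le (fun a ha => ?_) ?_
      · exact Subgroup.mem_centralizer_singleton_iff.mpr
          (congrArg Subtype.val (mul_comm' (⟨a, ha⟩ : A) ⟨d, hd.1⟩))
      · rintro _ ⟨a, ha, rfl⟩
        obtain ⟨d', hd', e⟩ := hd.2
        refine Subgroup.mem_centralizer_singleton_iff.mpr ?_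
        rw [← e]
        show MulAut.conj g a * MulAut.conj g d' = MulAut.conj g d' * MulAut.conj g a
        rw [← map_mul, ← map_mul]
        exact congrArg _ (congrArg Subtype.val (mul_comm' (⟨a, ha⟩ : A) ⟨d', hd'⟩))
    rw [hsup] at hle
    exact Subgroup.mem_center_iff.mpr fun y =>
      Subgroup.mem_centralizer_singleton_iff.mp (hle (Subgroup.mem_top y))
  set π := QuotientGroup.mk' Z with hπdef
  have hsurj : Function.Surjective π := QuotientGroup.mk'_surjective Z
  set Ab := A.map π
  have hback : Ab.comap π = A := by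
    rw [Subgroup.comap_map_eq, QuotientGroup.ker_mk', sup_eq_left.mpr hZA]
  haveI : IsMulCommutative Ab := by
    rw [← Subgroup.commutator_self_eq_bot_iff, ← Subgroup.map_commutator,
      Subgroup.commutator_self_eq_bot_iff.mpr inferInstance, Subgroup.map_bot]
  have hAb : IsCoatom Ab := by
    refine ⟨fun h => hA.1 (by rw [← hback, h, Subgroup.comap_top]), fun Y hY => ?_⟩
    apply Subgroup.comap_injective hsurj
    rw [Subgroup.comap_top]
    refine hA.2 _ ?_
    rw [← hback]
    exact (Subgroup.comap_lt_comap_of_surjective hsurj).mpr hY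
  have hF : Cfsg.IsFrobeniusComplement Ab := by
    refine ⟨?_, hAb.1, fun u hu => ?_⟩
    · intro h
      apply hn
      rw [← hback, h]
      infer_instance
    obtain ⟨g, rfl⟩ := hsurj u
    have hgA : g ∉ A := fun h => hu ⟨g, h, rfl⟩
    rw [Subgroup.eq_bot_iff_forall]
    rintro _ ⟨⟨a, ha, rfl⟩, hb⟩
    refine (QuotientGroup.eq_one_iff a).mpr (hinf g hgA ⟨ha, ?_⟩)
    obtain ⟨_, ⟨b, hb', rfl⟩, e⟩ := hb
    refine ⟨g⁻¹ * a * g, ?_, by show g * (g⁻¹ * a * g) * g⁻¹ = a; group⟩
    have e' : π b = π (g⁻¹ * a * g) := by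
      change π g * π b * (π g)⁻¹ = π a at e
      rw [map_mul, map_mul, map_inv, ← e]; group
    have : g⁻¹ * a * g ∈ Ab.comap π := ⟨b, hb', e'⟩
    rwa [hback] at this
  have h2 := derivedSeries_two_of_frobenius_coatom Ab hF hAb
  rw [← map_derivedSeries_eq hsurj 2, Subgroup.map_eq_bot_iff, QuotientGroup.ker_mk'] at h2
  exact h2.trans hZA

end H4
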