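import Cfsg.Prelude.Def_HallClasses
import Cfsg.Agent.S0001
import Cfsg.Agent.H80.PiGroups

set_option autoImplicit false

/-!
An extension of a `C_π`-group by a `C_π`-group is a `C_π`-group (helper4), given that groups of odd
order are solvable.
-/

namespace H4

open Subgroup
open scoped Pointwise

universe u

theorem card_mul_relIndex_eq {G : Type*} [Group G] {H K : Subgroup G} (h : H ≤ K) :
    Nat.card H * H.relIndex K = Nat.card K := by
  have := (H.subgroupOf K).card_mul_index
  rwa [Nat.card_congr (subgroupOfEquivOfLe h).toEquiv] at this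

/-- Conjugacy of complements in the coprime case without a solvability hypothesis. -/
theorem complements_conj_of_coprime
    (hodd : ∀ (H : Type u) [Group H] [Finite H], Odd (Nat.card H) → Group.IsSolvable H)
    {G : Type u} [Group G] [Finite G] (N : Subgroup G) [N.Normal]
    (hN : (Nat.card N).Coprime N.index) (H K : Subgroup G)
    (hH : IsComplement' N H) (hK : IsComplement' N K) :
    ∃ g : G, MulAut.conj g • H = K := by
  refine Cfsg.Agent.S0001.result N hN ?_ H K hH hK
  by_cases h : 2 ∣ Nat.card N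
  · refine Or.inr (hodd _ ?_)
    rw [Nat.odd_iff, ← Subgroup.index, ← Nat.two_dvd_ne_zero]
    exact fun h2 => absurd (Nat.eq_one_of_dvd_coprimes hN h h2) (by decide)
  · exact Or.inl (hodd _ (Nat.odd_iff.mpr (Nat.two_dvd_ne_zero.mp h)))

theorem piHall_map_equiv {G G' : Type*} [Group G] [Group G'] (π : Set ℕ) (e : G ≃* G')
    {H : Subgroup G} (hH : Cfsg.IsPiHall π H) : Cfsg.IsPiHall π (H.map e.toMonoidHom) := by
  refine ⟨fun p hp hd => hH.1 p hp ?_, fun p hp hpi hd => hH.2 p hp hpi ?_⟩
  · rwa [card_map_of_injective e.injective] at hd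
  · rwa [index_map_of_bijective e.bijective] at hd

variable {G : Type u} [Group G] [Finite G] {π : Set ℕ}

theorem inf_piHall {A X : Subgroup G} [A.Normal] (hX : Cfsg.IsPiHall π X) :
    Cfsg.IsPiHallOf π (X ⊓ A) A := by
  refine ⟨inf_le_right, fun p hp hd => hX.1 p hp (hd.trans (card_dvd_of_le inf_le_left)),
    fun p hp hpi hd => hX.2 p hp hpi ?_⟩
  rw [inf_relIndex_right] at hd
  rw [← relIndex_mul_index (le_sup_left : X ≤ X ⊔ A)]
  refine Dvd.dvd.mul_right ?_ _
  have h1 : X.relIndex (X ⊔ A) * X.index = X.relIndex (X ⊔ A) * X.index := rfl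
  have e1 : A.relIndex X * Nat.card (X ⊓ A : Subgroup G) = Nat.card X := by
    rw [← inf_relIndex_right A X, inf_comm A X, mul_comm]
    exact card_mul_relIndex_eq inf_le_left
  have e2 : X.relIndex A * Nat.card (X ⊓ A : Subgroup G) = Nat.card A := by
    rw [← inf_relIndex_right X A, mul_comm]
    exact card_mul_relIndex_eq inf_le_right
  have e3 : A.relIndex X * Nat.card A = Nat.card (X ⊔ A : Subgroup G) := by
    rw [← relIndex_sup_right X A, mul_comm]
    exact card_mul_relIndex_eq le_sup_right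
  have e4 : Nat.card X * X.relIndex (X ⊔ A) = Nat.card (X ⊔ A : Subgroup G) :=
    card_mul_relIndex_eq le_sup_left
  have e5 : X.relIndex A = X.relIndex (X ⊔ A) := by
    refine Nat.eq_of_mul_eq_mul_left (Nat.card_pos (α := X)) ?_
    rw [e4, ← e3, ← e2, ← e1]
    ring
  rwa [← e5]

theorem map_piHall {A X : Subgroup G} [A.Normal] (hX : Cfsg.IsPiHall π X) :
    Cfsg.IsPiHall π (X.map (QuotientGroup.mk' A)) :=
  ⟨fun p hp hd => hX.1 p hp (hd.trans (card_map_dvd X _)),
    fun p hp hpi hd => hX.2 p hp hpi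
      (hd.trans (index_map_dvd _ (QuotientGroup.mk'_surjective A)))⟩

/-- Relative conjugacy inside a `C_π` subgroup. -/
theorem exists_conj_of_isCPi {A H K : Subgroup G} (hA : Cfsg.IsCPiGroup π A)
    (hH : Cfsg.IsPiHallOf π H A) (hK : Cfsg.IsPiHallOf π K A) :
    ∃ a ∈ A, K = H.map (MulAut.conj a).toMonoidHom := by
  obtain ⟨a, ha⟩ := hA.2 _ _ ((H80.piHallOf_iff_subgroupOf hH.1).mp hH)
    ((H80.piHallOf_iff_subgroupOf hK.1).mp hK)
  refine ⟨a, a.2, ?_⟩
  have h := congrArg (Subgroup.map A.subtype) ha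
  rw [subgroupOf_map_subtype, inf_of_le_left hK.1, map_map] at h
  rw [h]
  conv_rhs => rw [← inf_of_le_left hH.1, ← subgroupOf_map_subtype, map_map]
  congr 1

/-- The Frattini argument for Hall subgroups of a normal `C_π` subgroup. -/
theorem exists_mul_normalizer {A H : Subgroup G} [A.Normal] (hA : Cfsg.IsCPiGroup π A)
    (hH : Cfsg.IsPiHallOf π H A) (g : G) :
    ∃ a ∈ A, ∃ n ∈ normalizer (H : Set G), g = a * n := by
  have hK : Cfsg.IsPiHallOf π (H.map (MulAut.conj g).toMonoidHom) A := by
    refine ⟨?_, fun p hp hd => hH.2.1 p hp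
      (by rwa [card_map_of_injective (MulAut.conj g).injective] at hd), fun p hp hpi hd => ?_⟩
    · rintro _ ⟨x, hx, rfl⟩
      exact (inferInstance : A.Normal).conj_mem x (hH.1 hx) g
    · refine hH.2.2 p hp hpi ?_
      have hmap : A.map (MulAut.conj g).toMonoidHom = A := by
        ext y
        constructor
        · rintro ⟨x, hx, rfl⟩; exact (inferInstance : A.Normal).conj_mem x hx g
        · intro hy
          exact ⟨g⁻¹ * y * g, by simpa using (inferInstance : A.Normal).conj_mem y hy g⁻¹,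
            by simp [mul_assoc]⟩
      rw [← hmap, relIndex_map_map_of_injective _ _ (MulAut.conj g).injective] at hd
      exact hd
  obtain ⟨a, ha, he⟩ := exists_conj_of_isCPi hA hH hK
  refine ⟨a, ha, a⁻¹ * g, ?_, (mul_inv_cancel_left a g).symm⟩
  rw [mem_normalizer_iff]
  intro x
  have key : g * x * g⁻¹ ∈ H.map (MulAut.conj g).toMonoidHom ↔ x ∈ H := by
    rw [show g * x * g⁻¹ = (MulAut.conj g).toMonoidHom x from rfl]
    exact mem_map_iff_mem (MulAut.conj g).injective
  rw [← key, he, mem_map]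
  constructor
  · rintro ⟨y, hy, hye⟩
    have : a * y * a⁻¹ = g * x * g⁻¹ := hye
    rwa [show a⁻¹ * g * x * (a⁻¹ * g)⁻¹ = a⁻¹ * (g * x * g⁻¹) * a by group, ← this,
      show a⁻¹ * (a * y * a⁻¹) * a = y by group]
  · intro h
    exact ⟨_, h, show a * (a⁻¹ * g * x * (a⁻¹ * g)⁻¹) * a⁻¹ = g * x * g⁻¹ by group⟩

/-- The extension theorem for `C_π`. -/
theorem isCPiGroup_extension
    (hodd : ∀ (H : Type u) [Group H] [Finite H], Odd (Nat.card H) → Group.IsSolvable H)
    (A : Subgroup G) [A.Normal] (hA : Cfsg.IsCPiGroup π A) (hQ : Cfsg.IsCPiGroup π (G ⧸ A)) :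
    Cfsg.IsCPiGroup π G := by
  classical
  obtain ⟨H0, hH0⟩ := hA.1
  obtain ⟨Kb, hKb⟩ := hQ.1
  set H := H0.map A.subtype with hHdef
  have hHA : Cfsg.IsPiHallOf π H A := by
    refine (H80.piHallOf_iff_subgroupOf (map_subtype_le _)).mpr ?_
    show Cfsg.IsPiHall π ((H0.map A.subtype).subgroupOf A)
    rwa [subgroupOf, comap_map_eq_self_of_injective A.subtype_injective]
  -- inside `K`, over `H`
  have main : ∀ (Kb : Subgroup (G ⧸ A)), Cfsg.IsPiHall π Kb →
      (∃ X : Subgroup G, Cfsg.IsPiHall π X ∧ H ≤ X ∧ X ≤ normalizer (H : Set G) ∧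
        X.map (QuotientGroup.mk' A) = Kb) ∧
      ∀ X Y : Subgroup G, Cfsg.IsPiHall π X → Cfsg.IsPiHall π Y →
        X ⊓ A = H → Y ⊓ A = H → X.map (QuotientGroup.mk' A) = Kb →
        Y.map (QuotientGroup.mk' A) = Kb → ∃ g : G, Y = X.map (MulAut.conj g).toMonoidHom := by
    intro Kb hKb
    set T := normalizer (H : Set G) ⊓ Kb.comap (QuotientGroup.mk' A) with hT
    have hHT : H ≤ T := le_inf le_normalizer fun x hx => by
      rw [mem_comap, show QuotientGroup.mk' A x = 1 from (QuotientGroup.eq_one_iff x).mpr (hHA.1 hx)]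
      exact Kb.one_mem
    haveI : (H.subgroupOf T).Normal :=
      (normal_subgroupOf_iff_le_normalizer hHT).mpr inf_le_left
    let f : T →* G ⧸ A := (QuotientGroup.mk' A).comp T.subtype
    have hfr : f.range = Kb := by
      refine le_antisymm ?_ fun y hy => ?_
      · rintro _ ⟨x, rfl⟩; exact x.2.2
      · obtain ⟨g, rfl⟩ := QuotientGroup.mk_surjective y
        obtain ⟨a, ha, n, hn, rfl⟩ := exists_mul_normalizer hA hHA g
        have e : (QuotientGroup.mk' A) (a * n) = QuotientGroup.mk' A n := by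
          rw [map_mul, show QuotientGroup.mk' A a = 1 from (QuotientGroup.eq_one_iff a).mpr ha, one_mul]
        refine ⟨⟨n, hn, ?_⟩, e.symm⟩
        show QuotientGroup.mk' A n ∈ Kb
        rw [← e]; exact hy
    let q := QuotientGroup.mk' (H.subgroupOf T)
    have hHf : H.subgroupOf T ≤ f.ker := fun x hx =>
      (QuotientGroup.eq_one_iff (x : G)).mpr (hHA.1 hx)
    set B := f.ker.map q with hB
    haveI : B.Normal := (MonoidHom.normal_ker f).map q (QuotientGroup.mk'_surjective _)
    have hBi : B.index = Nat.card Kb := by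
      rw [hB, index_map_eq _ (QuotientGroup.mk'_surjective _) (by rwa [QuotientGroup.ker_mk']),
        index_ker, hfr]
    have hBc : Nat.card B ∣ H.relIndex A := by
      have h1 := (H.subgroupOf T).card_mul_index
      have h2 := B.card_mul_index
      have h3 := f.ker.card_mul_index
      rw [index_ker, hfr] at h3
      rw [hBi] at h2
      have h4 : Nat.card H * Nat.card B = Nat.card f.ker := by
        refine Nat.eq_of_mul_eq_mul_right (Nat.card_pos (α := Kb)) ?_
        rw [h3, mul_assoc, h2, ← h1, Nat.card_congr (subgroupOfEquivOfLe hHT).toEquiv]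
        rfl
      have h5 : Nat.card f.ker ∣ Nat.card H * H.relIndex A := by
        rw [card_mul_relIndex_eq hHA.1, ← card_map_of_injective T.subtype_injective]
        refine card_dvd_of_le ?_
        rintro _ ⟨x, hx, rfl⟩
        exact (QuotientGroup.eq_one_iff (x : G)).mp hx
      exact (mul_dvd_mul_iff_left (Nat.card_pos (α := H)).ne').mp (h4 ▸ h5)
    have hcop : (Nat.card B).Coprime B.index := by
      refine Nat.coprime_of_dvd fun p hp h1 h2 => ?_
      rw [hBi] at h2
      exact hHA.2.2 p hp (hKb.1 p hp h2) (h1.trans hBc)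
    constructor
    · obtain ⟨C, hC⟩ := exists_right_complement'_of_coprime hcop
      refine ⟨(C.comap q).map T.subtype, ?_, ?_, (map_subtype_le _).trans inf_le_left, ?_⟩
      · have hCc : Nat.card C = Nat.card Kb := hBi ▸ hC.symm.index_eq_card.symm
        have hcard : Nat.card ((C.comap q).map T.subtype) = Nat.card H * Nat.card Kb := by
          rw [card_map_of_injective T.subtype_injective, ← hCc,
            ← Nat.card_congr (subgroupOfEquivOfLe hHT).toEquiv]
          exact (Nat.card_congr (QuotientGroup.preimageMkEquivSubgroupProdSet _ (C : Set (T ⧸ H.subgroupOf T)))).trans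
            (Nat.card_prod _ _)
        refine ⟨fun p hp hd => ?_, fun p hp hpi hd => ?_⟩
        · rw [hcard] at hd
          exact (hp.dvd_mul.mp hd).elim (hHA.2.1 p hp) (hKb.1 p hp)
        · have h1 := ((C.comap q).map T.subtype).card_mul_index
          rw [hcard] at h1
          have h2 : Nat.card G = Nat.card H * H.relIndex A * (Nat.card Kb * Kb.index) := by
            rw [card_mul_relIndex_eq hHA.1, Kb.card_mul_index, mul_comm,
              ← card_eq_card_quotient_mul_card_subgroup]
          have h3 : ((C.comap q).map T.subtype).index = H.relIndex A * Kb.index := by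
            refine Nat.eq_of_mul_eq_mul_left
              (Nat.mul_pos (Nat.card_pos (α := H)) (Nat.card_pos (α := Kb))) ?_
            rw [h1, h2]; ring
          rw [h3] at hd
          exact (hp.dvd_mul.mp hd).elim (hHA.2.2 p hp hpi) (hKb.2 p hp hpi)
      · intro x hx
        refine ⟨⟨x, hHT hx⟩, ?_, rfl⟩
        rw [SetLike.mem_coe, mem_comap, show q ⟨x, hHT hx⟩ = 1 from (QuotientGroup.eq_one_iff _).mpr hx]
        exact C.one_mem
      · rw [map_map]
        refine le_antisymm ?_ fun y hy => ?_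
        · rintro _ ⟨x, -, rfl⟩; exact x.2.2
        · rw [← hfr] at hy
          obtain ⟨t, rfl⟩ := hy
          obtain ⟨b, hb, c, hc, hbc⟩ :
              ∃ b ∈ B, ∃ c ∈ C, q t = b * c := by
            obtain ⟨⟨⟨b, hb⟩, ⟨c, hc⟩⟩, he⟩ := (IsComplement.existsUnique hC (q t)).exists
            exact ⟨b, hb, c, hc, he.symm⟩
          obtain ⟨k, hk, rfl⟩ := hb
          refine ⟨k⁻¹ * t, ?_, ?_⟩
          · show q (k⁻¹ * t) ∈ C
            rw [map_mul, map_inv, hbc, inv_mul_cancel_left]; exact hc
          · show f (k⁻¹ * t) = f t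
            rw [map_mul, map_inv, MonoidHom.mem_ker.mp hk, inv_one, one_mul]
    · intro X Y hX hY hXA hYA hXK hYK
      have hle : ∀ Z : Subgroup G, Z ⊓ A = H → Z.map (QuotientGroup.mk' A) = Kb → Z ≤ T := by
        intro Z hZA hZK
        refine le_inf ?_ (map_le_iff_le_comap.mp hZK.le)
        rw [← hZA, le_normalizer_iff]
        rintro g hg x ⟨hxZ, hxA⟩
        exact ⟨Z.mul_mem (Z.mul_mem hg hxZ) (Z.inv_mem hg),
          (inferInstance : A.Normal).conj_mem x hxA g⟩
      have hcompl : ∀ Z : Subgroup G, Z ⊓ A = H → Z.map (QuotientGroup.mk' A) = Kb →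
          IsComplement' B ((Z.subgroupOf T).map q) := by
        intro Z hZA hZK
        refine isComplement'_of_disjoint_and_mul_eq_univ ?_ ?_
        · rw [disjoint_iff_inf_le]
          rintro _ ⟨⟨k, hk, rfl⟩, z, hz, hze⟩
          have hzH : (z⁻¹ * k : T) ∈ H.subgroupOf T := QuotientGroup.eq.mp hze
          have hzA : (z : G) ∈ A := by
            have h1 : f (z⁻¹ * k) = 1 := MonoidHom.mem_ker.mp (hHf hzH)
            rw [map_mul, map_inv, MonoidHom.mem_ker.mp hk, mul_one, inv_eq_one] at h1
            exact (QuotientGroup.eq_one_iff _).mp h1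
          have hzH' : z ∈ H.subgroupOf T := by
            show (z : G) ∈ H
            rw [← hZA]; exact ⟨hz, hzA⟩
          rw [mem_bot, ← hze]
          exact (QuotientGroup.eq_one_iff z).mpr hzH'
        · refine Set.eq_univ_of_forall fun y => ?_
          obtain ⟨t, rfl⟩ := QuotientGroup.mk_surjective y
          have hft : f t ∈ Z.map (QuotientGroup.mk' A) := by
            rw [hZK, ← hfr]; exact ⟨t, rfl⟩
          obtain ⟨z, hz, hze⟩ := hft
          refine ⟨q (t * (⟨z, hle Z hZA hZK hz⟩ : T)⁻¹), ⟨_, ?_, rfl⟩,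
            q ⟨z, hle Z hZA hZK hz⟩, ⟨_, hz, rfl⟩, ?_⟩
          · show f (t * (⟨z, hle Z hZA hZK hz⟩ : T)⁻¹) = 1
            rw [map_mul, map_inv]
            show f t * (QuotientGroup.mk' A z)⁻¹ = 1
            rw [hze, mul_inv_cancel]
          · show q (t * (⟨z, hle Z hZA hZK hz⟩ : T)⁻¹) * q ⟨z, hle Z hZA hZK hz⟩ = _
            rw [← map_mul, inv_mul_cancel_right]
            rfl
      obtain ⟨g, hg⟩ := complements_conj_of_coprime hodd B hcop _ _ (hcompl X hXA hXK) (hcompl Y hYA hYK)
      obtain ⟨t, rfl⟩ := QuotientGroup.mk_surjective g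
      refine ⟨(t : G), ?_⟩
      have hcards : Nat.card Y = Nat.card X := by
        have key : ∀ Z : Subgroup G, Cfsg.IsPiHall π Z → Z ⊓ A = H →
            Z.map (QuotientGroup.mk' A) = Kb → Nat.card Z = Nat.card H * Nat.card Kb := by
          intro Z _ hZA hZK
          rw [← hZA, ← hZK]
          have h1 := ((QuotientGroup.mk' A).comp Z.subtype).ker.card_mul_index
          rw [index_ker, MonoidHom.range_comp, range_subtype] at h1
          rw [← h1]
          congr 1
          rw [← card_map_of_injective Z.subtype_injective]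
          congr 2
          ext x
          constructor
          · rintro ⟨x, hx, rfl⟩; exact ⟨x.2, (QuotientGroup.eq_one_iff (x : G)).mp hx⟩
          · rintro ⟨hxZ, hxA⟩; exact ⟨⟨x, hxZ⟩, (QuotientGroup.eq_one_iff x).mpr hxA, rfl⟩
        rw [key X hX hXA hXK, key Y hY hYA hYK]
      refine (eq_of_le_of_card_ge ?_ ?_).symm
      · rintro _ ⟨x, hx, rfl⟩
        have h1 : q t * q ⟨x, hle X hXA hXK hx⟩ * (q t)⁻¹ ∈ (Y.subgroupOf T).map q := by
          rw [← hg]
          exact ⟨_, ⟨_, hx, rfl⟩, rfl⟩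
        rw [← map_inv, ← map_mul, ← map_mul] at h1
        obtain ⟨y, hy, hye⟩ := h1
        have h2 : y⁻¹ * (t * (⟨x, hle X hXA hXK hx⟩ : T) * t⁻¹) ∈ H.subgroupOf T :=
          QuotientGroup.eq.mp hye
        have h3 : (y : G)⁻¹ * ((t : G) * x * (t : G)⁻¹) ∈ Y := by
          have := mem_subgroupOf.mp h2
          exact (hYA ▸ this : (y : G)⁻¹ * ((t : G) * x * (t : G)⁻¹) ∈ Y ⊓ A).1
        have := Y.mul_mem (show (y : G) ∈ Y from hy) h3
        rw [mul_inv_cancel_left] at this
        exact this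
      · rw [card_map_of_injective (MulAut.conj (t : G)).injective, hcards]
  obtain ⟨⟨X, hX, -, -, -⟩, -⟩ := main Kb hKb
  refine ⟨⟨X, hX⟩, fun X Y hX hY => ?_⟩
  -- move both intersections to `H` and both images to `Kb`
  have norm : ∀ Z : Subgroup G, Cfsg.IsPiHall π Z →
      ∃ g : G, Cfsg.IsPiHall π (Z.map (MulAut.conj g).toMonoidHom) ∧
        Z.map (MulAut.conj g).toMonoidHom ⊓ A = H ∧
        (Z.map (MulAut.conj g).toMonoidHom).map (QuotientGroup.mk' A) = Kb := by
    intro Z hZ
    obtain ⟨gb, hgb⟩ := hQ.2 _ _ (map_piHall (A := A) hZ) hKb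
    obtain ⟨g, rfl⟩ := QuotientGroup.mk_surjective gb
    have hZ1 := piHall_map_equiv π (MulAut.conj g) hZ
    obtain ⟨a, ha, he⟩ := exists_conj_of_isCPi hA (inf_piHall (A := A) hZ1) hHA
    have hcomp : (Z.map (MulAut.conj g).toMonoidHom).map (MulAut.conj a).toMonoidHom =
        Z.map (MulAut.conj (a * g)).toMonoidHom := by
      rw [map_map]; congr 1; ext x; simp [mul_assoc]
    refine ⟨a * g, piHall_map_equiv π _ hZ, ?_, ?_⟩
    · rw [← hcomp, he, map_inf _ _ _ (MulAut.conj a).injective]
      congr 1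
      ext y
      constructor
      · intro hy
        exact ⟨a⁻¹ * y * a, by simpa using (inferInstance : A.Normal).conj_mem y hy a⁻¹,
          by simp [mul_assoc]⟩
      · rintro ⟨x, hx, rfl⟩; exact (inferInstance : A.Normal).conj_mem x hx a
    · rw [hgb, map_map, map_map]
      congr 1
      ext x
      show QuotientGroup.mk' A (a * g * x * (a * g)⁻¹) =
        QuotientGroup.mk' A g * QuotientGroup.mk' A x * (QuotientGroup.mk' A g)⁻¹
      rw [map_mul, map_mul, map_inv, map_mul,
        show QuotientGroup.mk' A a = 1 from (QuotientGroup.eq_one_iff a).mpr ha, one_mul]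
  obtain ⟨g₁, hX1, hXA, hXK⟩ := norm X hX
  obtain ⟨g₂, hY1, hYA, hYK⟩ := norm Y hY
  obtain ⟨g, hg⟩ := (main Kb hKb).2 _ _ hX1 hY1 hXA hYA hXK hYK
  refine ⟨g₂⁻¹ * g * g₁, ?_⟩
  have h := congrArg (Subgroup.map (MulAut.conj g₂⁻¹).toMonoidHom) hg
  rw [map_map, map_map, map_map] at h
  calc Y = Y.map (MonoidHom.id G) := (map_id Y).symm
    _ = Y.map ((MulAut.conj g₂⁻¹).toMonoidHom.comp (MulAut.conj g₂).toMonoidHom) := by
      congr 1; ext x; simp [mul_assoc]
    _ = _ := h
    _ = _ := by congr 1; ext x; simp [mul_assoc]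

end H4
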