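import Mathlib
import Cfsg.Agent.H85.BrauerSuzuki
import Cfsg.Agent.H66.Isolated
import Cfsg.Agent.H6.Basic
import Cfsg.Agent.H1.Cores

/-!
`G = QN` with `N` normal, `Q` a 2-group and `Q ∩ N = 1`: if some element `t` of `Z(Q) ∩ Q'` has the
property that `Q` centralizes `C_N(t)` modulo a normal subgroup of odd order, then `Q` centralizes
`N` modulo `O(N)`.
-/

set_option autoImplicit false
set_option linter.style.haveILetI false

universe u

namespace H4.CentMod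

open Subgroup
open scoped commutatorElement

variable {G : Type u} [Group G]

/-- `Q` centralizes `M` modulo a normal subgroup of odd order. -/
def ModOdd (M Q : Subgroup G) : Prop :=
  ∃ R : Subgroup G, R ≤ M ∧ M ≤ normalizer (R : Set G) ∧ Odd (Nat.card R) ∧
    ∀ c ∈ M, ∀ q ∈ Q, q * c * q⁻¹ * c⁻¹ ∈ R

/-- A homomorphism with pairwise commuting values kills the commutator subgroup. -/
theorem hom_eq_one_of_commute {Q : Subgroup G} {H : Type*} [Group H] (f : ↥Q →* H)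
    (hf : ∀ a b, f a * f b = f b * f a) {x : G} (hx : x ∈ ⁅Q, Q⁆) (hxQ : x ∈ Q) :
    f ⟨x, hxQ⟩ = 1 := by
  have hle : ⁅Q, Q⁆ ≤ f.ker.map Q.subtype := by
    rw [commutator_le]
    intro a ha b hb
    refine ⟨⁅(⟨a, ha⟩ : Q), ⟨b, hb⟩⁆, ?_, ?_⟩
    · rw [SetLike.mem_coe, MonoidHom.mem_ker, map_commutatorElement,
        commutatorElement_eq_one_iff_mul_comm]
      exact hf _ _
    · simp [commutatorElement_def]
  obtain ⟨y, hy, hyx⟩ := hle hx
  have : y = ⟨x, hxQ⟩ := Subtype.ext hyx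
  exact this ▸ hy

variable [Finite G]

theorem eq_one_of_odd_of_twoGroup {x : G} {R S : Subgroup G} (hR : Odd (Nat.card R))
    (hS : IsPGroup 2 S) (hxR : x ∈ R) (hxS : x ∈ S) : x = 1 := by
  obtain ⟨k, hk⟩ := hS ⟨x, hxS⟩
  exact orderOf_eq_one_iff.mp (Nat.eq_one_of_dvd_coprimes
    ((Nat.coprime_two_right.mpr hR).pow_right k) (Subgroup.orderOf_dvd_natCard (s := R) hxR)
    (orderOf_dvd_of_pow_eq_one (congrArg Subtype.val hk)))

/-- `Q` centralizes every `Q`-invariant 2-subgroup of `N`. -/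
theorem centralizes_two_subgroup {N Q S : Subgroup G} [hNn : N.Normal] (hS : IsPGroup 2 S)
    (hQS : Q ≤ S) {u : G} (huQ : u ∈ Q) (huQ' : u ∈ ⁅Q, Q⁆)
    (hyp : ModOdd (N ⊓ centralizer ({u} : Set G)) Q) :
    ∀ v ∈ S ⊓ N, ∀ q ∈ Q, q * v * q⁻¹ = v := by
  haveI : Fact (Nat.Prime 2) := ⟨Nat.prime_two⟩
  obtain ⟨R, -, -, hRodd, hR⟩ := hyp
  set T := S ⊓ N with hT
  set T₀ := T ⊓ centralizer (Q : Set G) with hT₀
  -- `C_T(u) = C_T(Q)`
  have hcu : ∀ v ∈ T, v * u = u * v → v ∈ T₀ := by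
    intro v hv hvu
    refine ⟨hv, mem_centralizer_iff.mpr fun q hq => ?_⟩
    have h1 := hR v ⟨hv.2, mem_centralizer_singleton_iff.mpr hvu⟩ q hq
    have h2 : q * v * q⁻¹ * v⁻¹ ∈ S :=
      S.mul_mem (S.mul_mem (S.mul_mem (hQS hq) hv.1) (S.inv_mem (hQS hq))) (S.inv_mem hv.1)
    have h3 := eq_one_of_odd_of_twoGroup hRodd hS h1 h2
    rwa [mul_inv_eq_one, mul_inv_eq_iff_eq_mul] at h3
  suffices hTT : T ≤ T₀ by
    intro v hv q hq
    rw [mem_centralizer_iff.mp (hTT hv).2 q hq, mul_inv_cancel_right]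
  by_contra hnot
  -- work in `S`
  set T₁ := T ⊓ normalizer (T₀ : Set G) with hT₁
  have hQfix : ∀ q ∈ Q, ∀ w ∈ T₀, q * w * q⁻¹ = w := fun q hq w hw => by
    rw [mem_centralizer_iff.mp hw.2 q hq, mul_inv_cancel_right]
  have hQT : ∀ q ∈ Q, ∀ v ∈ T, q * v * q⁻¹ ∈ T := fun q hq v hv =>
    ⟨S.mul_mem (S.mul_mem (hQS hq) hv.1) (S.inv_mem (hQS hq)), hNn.conj_mem v hv.2 q⟩
  have hQn : Q ≤ normalizer (T₀ : Set G) := fun q hq => mem_normalizer_iff.mpr fun w => by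
    constructor
    · intro hw; rw [hQfix q hq w hw]; exact hw
    · intro hw
      have h := hQfix q⁻¹ (Q.inv_mem hq) _ hw
      have : q * w * q⁻¹ = w := by
        conv_rhs => rw [show w = q⁻¹ * (q * w * q⁻¹) * q⁻¹⁻¹ by group, h]
      rwa [this] at hw
  set Y := Q ⊔ T₁ with hY
  have hYS : Y ≤ S := sup_le hQS (inf_le_left.trans inf_le_left)
  have hYn : Y ≤ normalizer (T₀ : Set G) := sup_le hQn inf_le_right
  have hYT₁ : Y ≤ normalizer (T₁ : Set G) := by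
    refine sup_le (fun q hq => ?_) Subgroup.le_normalizer
    refine mem_normalizer_iff.mpr fun w => ⟨fun hw => ⟨hQT q hq w hw.1, ?_⟩, fun hw => ⟨?_, ?_⟩⟩
    · exact (normalizer _).mul_mem ((normalizer _).mul_mem (hQn hq) hw.2) ((normalizer _).inv_mem (hQn hq))
    · have := hQT q⁻¹ (Q.inv_mem hq) _ hw.1
      simpa [mul_assoc] using this
    · have := (normalizer (T₀ : Set G)).mul_mem ((normalizer _).mul_mem
        ((normalizer _).inv_mem (hQn hq)) hw.2) (hQn hq)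
      simpa [mul_assoc] using this
  haveI : (T₀.subgroupOf Y).Normal := normal_subgroupOf_of_le_normalizer hYn
  haveI : (T₁.subgroupOf Y).Normal := normal_subgroupOf_of_le_normalizer hYT₁
  set π := QuotientGroup.mk' (T₀.subgroupOf Y) with hπ
  haveI : ((T₁.subgroupOf Y).map π).Normal :=
    (inferInstance : (T₁.subgroupOf Y).Normal).map π (QuotientGroup.mk'_surjective _)
  -- `T₀ < N_T(T₀)`
  obtain ⟨v₀, hv₀, hv₀'⟩ : ∃ v ∈ T₁, v ∉ T₀ := by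
    have hlt : T₀.subgroupOf T < ⊤ := lt_top_iff_ne_top.mpr fun h => hnot (subgroupOf_eq_top.mp h)
    haveI : Group.IsNilpotent T := (hS.to_le inf_le_left).isNilpotent
    obtain ⟨v, hvN, hvT⟩ := SetLike.exists_of_lt (Group.normalizerCondition_of_isNilpotent _ hlt)
    refine ⟨v, ⟨v.2, mem_normalizer_iff.mpr fun w => ⟨fun hw => ?_, fun hw => ?_⟩⟩, hvT⟩
    · exact mem_subgroupOf.mp ((mem_normalizer_iff.mp hvN ⟨w, hw.1⟩).mp (mem_subgroupOf.mpr hw))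
    · have hwT : w ∈ T := by
        have := T.mul_mem (T.mul_mem (T.inv_mem v.2) hw.1) v.2
        simpa [mul_assoc] using this
      exact mem_subgroupOf.mp ((mem_normalizer_iff.mp hvN ⟨w, hwT⟩).mpr (mem_subgroupOf.mpr hw))
  have hne : (T₁.subgroupOf Y).map π ≠ ⊥ := by
    rw [Ne, Subgroup.map_eq_bot_iff, hπ, QuotientGroup.ker_mk']
    intro hle
    exact hv₀' (mem_subgroupOf.mp (hle (show (⟨v₀, (le_sup_right : T₁ ≤ Y) hv₀⟩ : Y) ∈ _ from hv₀)))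
  obtain ⟨z, hz, hzc, hzo⟩ := H6.exists_mem_center_orderOf (p := 2)
    ((hS.to_le hYS).to_quotient (T₀.subgroupOf Y)) hne
  obtain ⟨v, hv, rfl⟩ := hz
  have hvT : (v : G) ∈ T := (mem_subgroupOf.mp hv).1
  have hvn : (v : G) ∈ normalizer (T₀ : Set G) := (mem_subgroupOf.mp hv).2
  have hf : ∀ q ∈ Q, (v : G)⁻¹ * (q * v * q⁻¹) ∈ T₀ := by
    intro q hq
    have h1 : v⁻¹ * (⟨q, (le_sup_left : Q ≤ Y) hq⟩ * v * ⟨q, (le_sup_left : Q ≤ Y) hq⟩⁻¹) ∈
        T₀.subgroupOf Y := by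
      refine (QuotientGroup.eq_one_iff _).mp ?_
      show π _ = 1
      rw [map_mul, map_mul, map_mul, map_inv, map_inv, mem_center_iff.mp hzc]
      group
    exact mem_subgroupOf.mp h1
  let f : ↥Q →* ↥T₀ := MonoidHom.mk' (fun q => ⟨_, hf q q.2⟩) fun q r => Subtype.ext (by
    have h := hQfix q q.2 _ (hf r r.2)
    push_cast
    calc (v : G)⁻¹ * ((q : G) * r * v * ((q : G) * r)⁻¹)
        = (v : G)⁻¹ * ((q : G) * v * (q : G)⁻¹) *
            ((q : G) * ((v : G)⁻¹ * ((r : G) * v * (r : G)⁻¹)) * (q : G)⁻¹) := by group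
      _ = _ := by rw [h])
  have hcomm : ∀ q ∈ Q, ∀ w ∈ T₀, (v : G)⁻¹ * (q * v * q⁻¹) * w = w * ((v : G)⁻¹ * (q * v * q⁻¹)) := by
    intro q hq w hw
    have h1 : (v : G) * w * (v : G)⁻¹ ∈ T₀ := (mem_normalizer_iff.mp hvn w).mp hw
    have h2 := hQfix q hq _ h1
    have h3 := hQfix q hq w hw
    have h4 : q * (v : G) * q⁻¹ * w * (q * (v : G) * q⁻¹)⁻¹ = (v : G) * w * (v : G)⁻¹ := by
      conv_rhs => rw [← h2]
      conv_lhs => rw [← h3]
      group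
    calc (v : G)⁻¹ * (q * v * q⁻¹) * w
        = (v : G)⁻¹ * (q * (v : G) * q⁻¹ * w * (q * (v : G) * q⁻¹)⁻¹) * (q * v * q⁻¹) := by group
      _ = _ := by rw [h4]; group
  have hfu : f ⟨u, huQ⟩ = 1 := hom_eq_one_of_commute f
    (fun a b => Subtype.ext (hcomm a a.2 _ (hf b b.2))) huQ' huQ
  have hvu : (v : G)⁻¹ * (u * v * u⁻¹) = 1 := congrArg Subtype.val hfu
  have hv0 : (v : G) ∈ T₀ := hcu _ hvT (by
    rw [inv_mul_eq_one, eq_mul_inv_iff_mul_eq] at hvu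
    exact hvu)
  rw [show π v = 1 from (QuotientGroup.eq_one_iff v).mpr (mem_subgroupOf.mpr hv0), orderOf_one] at hzo
  omega

/-- The involution is isolated. -/
theorem isolated {N Q : Subgroup G} [hNn : N.Normal] (hG : Q ⊔ N = ⊤) (hQ : IsPGroup 2 Q)
    {u : G} (hu : orderOf u = 2) (huQ : u ∈ Q) (huc : u ∈ centralizer (Q : Set G))
    (huQ' : u ∈ ⁅Q, Q⁆) (hyp : ModOdd (N ⊓ centralizer ({u} : Set G)) Q) :
    Cfsg.IsIsolatedInvolution u := by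
  haveI : Fact (Nat.Prime 2) := ⟨Nat.prime_two⟩
  refine ⟨hu, fun g hg => ?_⟩
  have hu2 : u * u = 1 := H66.mul_self_of_orderOf_two hu
  -- a 2-subgroup containing `Q` and a conjugate of `g u g⁻¹`
  set X := centralizer ({u} : Set G) with hX
  have hQX : Q ≤ X := fun q hq =>
    mem_centralizer_singleton_iff.mpr (mem_centralizer_iff.mp huc q hq)
  have hxX : g * u * g⁻¹ ∈ X := mem_centralizer_singleton_iff.mpr hg.symm.eq
  have hxp : IsPGroup 2 (zpowers (⟨g * u * g⁻¹, hxX⟩ : X)) := IsPGroup.of_card (n := 1) (by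
    rw [Nat.card_zpowers, pow_one, Subgroup.orderOf_mk]
    exact ((MulAut.conj g).orderOf_eq u).trans hu)
  obtain ⟨S₁, hS₁⟩ := hxp.exists_le_sylow
  obtain ⟨S₂, hS₂⟩ := (hQ.comap_of_injective X.subtype X.subtype_injective :
    IsPGroup 2 (Q.subgroupOf X)).exists_le_sylow
  obtain ⟨a, ha⟩ := MulAction.exists_smul_eq X S₁ S₂
  set S := (S₂ : Subgroup X).map X.subtype with hS
  have hSp : IsPGroup 2 S := S₂.isPGroup'.map _
  have hQS : Q ≤ S := fun q hq => ⟨⟨q, hQX hq⟩, hS₂ (mem_subgroupOf.mpr hq), rfl⟩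
  set x := (a : G) * (g * u * g⁻¹) * (a : G)⁻¹ with hx
  have hxS : x ∈ S := by
    refine ⟨a * ⟨g * u * g⁻¹, hxX⟩ * a⁻¹, ?_, rfl⟩
    rw [← ha, Sylow.coe_subgroup_smul]
    exact ⟨_, hS₁ (mem_zpowers _), by simp⟩
  suffices hxu : x = u by
    have h := mem_centralizer_singleton_iff.mp a.2
    calc g * u * g⁻¹ = (a : G)⁻¹ * x * (a : G) := by rw [hx]; group
      _ = (a : G)⁻¹ * ((a : G) * u) := by rw [hxu, h, mul_assoc]
      _ = u := inv_mul_cancel_left _ _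
  -- reduce the conjugating element to `N`
  obtain ⟨n₀, hn₀, q₀, hq₀, hnq⟩ := mem_sup_of_normal_left.mp
    (show (a : G) * g ∈ N ⊔ Q from (sup_comm Q N ▸ hG).symm ▸ mem_top _)
  have hxn : x = n₀ * u * n₀⁻¹ := by
    calc x = ((a : G) * g) * u * ((a : G) * g)⁻¹ := by rw [hx]; group
      _ = n₀ * (q₀ * u * q₀⁻¹) * n₀⁻¹ := by rw [← hnq]; group
      _ = _ := by rw [mem_centralizer_iff.mp huc q₀ hq₀, mul_inv_cancel_right]
  set τ := u⁻¹ * x with hτ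
  have hxτ : x = u * τ := by rw [hτ, mul_inv_cancel_left]
  have hτN : τ ∈ N := by
    rw [hτ, hxn, show u⁻¹ * (n₀ * u * n₀⁻¹) = u⁻¹ * n₀ * u⁻¹⁻¹ * n₀⁻¹ by group]
    exact N.mul_mem (hNn.conj_mem n₀ hn₀ u⁻¹) (N.inv_mem hn₀)
  have hτT : τ ∈ S ⊓ N := ⟨S.mul_mem (S.inv_mem (hQS huQ)) hxS, hτN⟩
  clear_value τ x
  have hTfix := centralizes_two_subgroup hSp hQS huQ huQ' hyp
  have hqτ : ∀ q ∈ Q, Commute q τ := fun q hq => mul_inv_eq_iff_eq_mul.mp (hTfix τ hτT q hq)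
  have hτ2 : τ * τ = 1 := by
    have hx2 : x * x = 1 := by
      rw [hxn]
      calc n₀ * u * n₀⁻¹ * (n₀ * u * n₀⁻¹) = n₀ * (u * u) * n₀⁻¹ := by group
        _ = 1 := by rw [hu2]; group
    calc τ * τ = τ * (u * u) * τ := by rw [hu2, mul_one]
      _ = (τ * u) * (u * τ) := by group
      _ = x * x := by rw [← (hqτ u huQ).eq, ← hxτ]
      _ = 1 := hx2
  obtain ⟨R, hRM, hRn, hRodd, hR⟩ := hyp
  set D := N ⊓ centralizer ({u} : Set G) ⊓ centralizer ({τ} : Set G) with hD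
  have hDx : ∀ d ∈ D, d * x = x * d := by
    intro d hd
    rw [hxτ, ← mul_assoc, mem_centralizer_singleton_iff.mp hd.1.2, mul_assoc,
      mem_centralizer_singleton_iff.mp hd.2, mul_assoc]
  -- the conjugate of `Q`
  set R₂ := R.map (MulAut.conj n₀).toMonoidHom with hR₂
  have hconjmem : ∀ c, c ∈ N → c * x = x * c →
      n₀⁻¹ * c * n₀ ∈ N ⊓ centralizer ({u} : Set G) := by
    intro c hc hcx
    refine ⟨by simpa using hNn.conj_mem c hc n₀⁻¹, mem_centralizer_singleton_iff.mpr ?_⟩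
    rw [hxn] at hcx
    calc n₀⁻¹ * c * n₀ * u = n₀⁻¹ * (c * (n₀ * u * n₀⁻¹)) * n₀ := by group
      _ = u * (n₀⁻¹ * c * n₀) := by rw [hcx]; group
  have hR₂odd : Odd (Nat.card R₂) := by
    rw [hR₂, card_map_of_injective (MulAut.conj n₀).injective]; exact hRodd
  have hR₂mem : ∀ c, c ∈ N → c * x = x * c → ∀ q ∈ Q,
      (n₀ * q * n₀⁻¹) * c * (n₀ * q * n₀⁻¹)⁻¹ * c⁻¹ ∈ R₂ := fun c hc hcx q hq =>
    ⟨_, hR _ (hconjmem c hc hcx) q hq, by simp only [MulEquiv.coe_toMonoidHom, MulAut.conj_apply]; group⟩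
  have hR₂x : ∀ r ∈ R₂, r ∈ N ∧ r * x = x * r := by
    rintro _ ⟨r, hr, rfl⟩
    refine ⟨hNn.conj_mem r (hRM hr).1 n₀, ?_⟩
    show n₀ * r * n₀⁻¹ * x = x * (n₀ * r * n₀⁻¹)
    rw [hxn]
    calc n₀ * r * n₀⁻¹ * (n₀ * u * n₀⁻¹) = n₀ * (r * u) * n₀⁻¹ := by group
      _ = _ := by rw [mem_centralizer_singleton_iff.mp (hRM hr).2]; group
  have hR₂n : ∀ c, c ∈ N → c * x = x * c → ∀ r ∈ R₂, c * r * c⁻¹ ∈ R₂ := by
    rintro c hc hcx _ ⟨r, hr, rfl⟩
    refine ⟨_, (mem_normalizer_iff.mp (hRn (hconjmem c hc hcx)) r).mp hr, ?_⟩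
    simp only [MulEquiv.coe_toMonoidHom, MulAut.conj_apply]; group
  have hτx : τ * x = x * τ := by
    rw [hxτ, ← mul_assoc, ← (hqτ u huQ).eq]
  -- adjusting the conjugates of the elements of `Q`
  have hex : ∀ q ∈ Q, ∃ y, Commute y τ ∧ ∃ r ∈ R₂, y = r * (n₀ * q * n₀⁻¹) := by
    intro q hq
    set w := n₀ * q * n₀⁻¹ with hw
    set ρ := w * τ * w⁻¹ * τ⁻¹ with hρ
    have hρR : ρ ∈ R₂ := hR₂mem τ hτN hτx q hq
    have hw2 : w * τ * w⁻¹ * (w * τ * w⁻¹) = 1 := by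
      calc _ = w * (τ * τ) * w⁻¹ := by group
        _ = 1 := by rw [hτ2]; group
    obtain ⟨k, hk, -, -, hkc⟩ := H66.exists_conj_of_odd_mul hw2 hτ2 (by
      rw [show w * τ * w⁻¹ * τ = ρ by rw [hρ, H66.inv_eq_self_of_sq hτ2]]
      exact Odd.of_dvd_nat hR₂odd (Subgroup.orderOf_dvd_natCard (s := R₂) hρR))
    have hkR : k ∈ R₂ := by
      refine (zpowers_le.mpr ?_) hk
      rwa [show w * τ * w⁻¹ * τ = ρ by rw [hρ, H66.inv_eq_self_of_sq hτ2]]
    refine ⟨k * w, ?_, k, hkR, rfl⟩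
    refine mul_inv_eq_iff_eq_mul.mp ?_
    calc k * w * τ * (k * w)⁻¹ = k * (w * τ * w⁻¹) * k⁻¹ := by group
      _ = τ := hkc
  choose y hyτ r hrR hyr using hex
  have hyx : ∀ q (hq : q ∈ Q), y q hq * x = x * y q hq := by
    intro q hq
    have h1 : n₀ * q * n₀⁻¹ * x = x * (n₀ * q * n₀⁻¹) := by
      rw [hxn]
      calc n₀ * q * n₀⁻¹ * (n₀ * u * n₀⁻¹) = n₀ * (q * u) * n₀⁻¹ := by group
        _ = _ := by rw [mem_centralizer_iff.mp huc q hq]; group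
    rw [hyr, mul_assoc, h1, ← mul_assoc, (hR₂x _ (hrR q hq)).2, mul_assoc]
  have hqx : ∀ q ∈ Q, q * x = x * q := fun q hq => by
    rw [hxτ, ← mul_assoc, mem_centralizer_iff.mp huc q hq, mul_assoc, (hqτ q hq).eq, mul_assoc]
  have hφD : ∀ q (hq : q ∈ Q), q⁻¹ * y q hq ∈ D := by
    intro q hq
    have h1 : q⁻¹ * y q hq ∈ N := by
      rw [hyr, show q⁻¹ * (r q hq * (n₀ * q * n₀⁻¹)) =
        (q⁻¹ * (r q hq * n₀) * q⁻¹⁻¹) * n₀⁻¹ by group]
      exact N.mul_mem (hNn.conj_mem _ (N.mul_mem (hR₂x _ (hrR q hq)).1 hn₀) _) (N.inv_mem hn₀)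
    have h2 : Commute (q⁻¹ * y q hq) τ := (hqτ q hq).inv_left.mul_left (hyτ q hq)
    have h3 : Commute (q⁻¹ * y q hq) x :=
      (show Commute q x from hqx q hq).inv_left.mul_left (hyx q hq)
    refine ⟨⟨h1, mem_centralizer_singleton_iff.mpr ?_⟩, mem_centralizer_singleton_iff.mpr h2.eq⟩
    have h4 := (h3.mul_right h2.inv_right).eq
    rwa [show x * τ⁻¹ = u by rw [hxτ, mul_inv_cancel_right]] at h4
  -- the odd core of `D`
  set O := Cfsg.pPrimeCore 2 D with hO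
  haveI hOn : O.Normal := H1.pPrimeCore_normal' 2 D
  have hodd_le : ∀ R' : Subgroup G, Odd (Nat.card R') →
      (∀ d ∈ D, ∀ r ∈ R', d * r * d⁻¹ ∈ R') → R'.subgroupOf D ≤ O := by
    intro R' hR' hn
    haveI : (R'.subgroupOf D).Normal :=
      ⟨fun r hr d => mem_subgroupOf.mpr (hn d d.2 r (mem_subgroupOf.mp hr))⟩
    refine H1.le_pPrimeCore (N := R'.subgroupOf D) ?_
    refine Nat.coprime_two_right.mpr (Odd.of_dvd_nat hR' ?_)
    rw [← card_map_of_injective D.subtype_injective, subgroupOf_map_subtype]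
    exact card_dvd_of_le inf_le_left
  have hOR : R.subgroupOf D ≤ O := hodd_le R hRodd fun d hd r hr =>
    (mem_normalizer_iff.mp (hRn hd.1) r).mp hr
  have hOR₂ : R₂.subgroupOf D ≤ O := hodd_le R₂ hR₂odd fun d hd r hr =>
    hR₂n d hd.1.1 (hDx d hd) r hr
  set π := QuotientGroup.mk' O with hπ
  have hmod : ∀ (a b : D), (b : G)⁻¹ * a ∈ R ∨ (b : G)⁻¹ * a ∈ R₂ → π a = π b := by
    intro a b h
    refine (QuotientGroup.eq.mpr ?_).symm
    rcases h with h | h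
    · exact hOR (mem_subgroupOf.mpr (by simpa using h))
    · exact hOR₂ (mem_subgroupOf.mpr (by simpa using h))
  have hDQ : ∀ q ∈ Q, ∀ d ∈ D, q * d * q⁻¹ ∈ D := by
    intro q hq d hd
    refine ⟨⟨hNn.conj_mem d hd.1.1 q, mem_centralizer_singleton_iff.mpr ?_⟩,
      mem_centralizer_singleton_iff.mpr ?_⟩
    · exact ((Commute.conj_iff q).mpr (show Commute d u from mem_centralizer_singleton_iff.mp hd.1.2) |>
        fun h => by
          rw [show q * u * q⁻¹ = u by rw [mem_centralizer_iff.mp huc q hq, mul_inv_cancel_right]] at h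
          exact h.eq)
    · exact ((Commute.conj_iff q).mpr (show Commute d τ from mem_centralizer_singleton_iff.mp hd.2) |>
        fun h => by
          rw [show q * τ * q⁻¹ = τ by rw [(hqτ q hq).eq, mul_inv_cancel_right]] at h
          exact h.eq)
  have hQtriv : ∀ q (hq : q ∈ Q), ∀ d : D, π ⟨q * d * q⁻¹, hDQ q hq d d.2⟩ = π d := by
    intro q hq d
    refine hmod _ _ (Or.inl ?_)
    have h := hR _ d.2.1 q hq
    have h' := (mem_normalizer_iff.mp (hRn (inv_mem d.2.1)) _).mp h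
    simpa [mul_assoc] using h'
  let φ : ↥Q →* D ⧸ O := MonoidHom.mk' (fun q => π ⟨_, hφD q q.2⟩) fun q s => by
    rw [← hQtriv (s : G)⁻¹ (Q.inv_mem s.2) ⟨_, hφD q q.2⟩, ← map_mul]
    refine hmod _ _ (Or.inr ?_)
    show ((s : G)⁻¹ * ((q : G)⁻¹ * y q q.2) * (s : G)⁻¹⁻¹ * ((s : G)⁻¹ * y s s.2))⁻¹ *
      (((q * s : ↥Q) : G)⁻¹ * y _ (q * s).2) ∈ R₂
    have e : ∀ (w : G) (hw : w ∈ Q), y w hw = r w hw * (n₀ * w * n₀⁻¹) := hyr
    rw [show ((s : G)⁻¹ * ((q : G)⁻¹ * y q q.2) * (s : G)⁻¹⁻¹ * ((s : G)⁻¹ * y s s.2))⁻¹ *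
      (((q * s : ↥Q) : G)⁻¹ * y _ (q * s).2) = (y q q.2 * y s s.2)⁻¹ * y _ (q * s).2 by
        push_cast; group]
    rw [e, e, e]
    push_cast
    have hw : ∀ w ∈ R₂, ∀ a ∈ Q, (n₀ * a * n₀⁻¹) * w * (n₀ * a * n₀⁻¹)⁻¹ ∈ R₂ := by
      intro w hw a ha
      have := R₂.mul_mem (hR₂mem w (hR₂x w hw).1 (hR₂x w hw).2 a ha) hw
      rwa [inv_mul_cancel_right] at this
    have h1 := hw _ (R₂.inv_mem (hw _ (hrR s s.2) q q.2)) _ (Q.inv_mem (Q.mul_mem q.2 s.2))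
    have h2 := hw _ (R₂.mul_mem (R₂.inv_mem (hrR q q.2)) (hrR _ (q * s).2)) _
      (Q.inv_mem (Q.mul_mem q.2 s.2))
    simp only [Subgroup.coe_mul] at h1 h2 ⊢
    convert R₂.mul_mem h1 h2 using 1
    group
  have hcentral : ∀ (q : ↥Q) (d : D), φ q * π d = π d * φ q := by
    intro q d
    show π ⟨_, hφD q q.2⟩ * π d = π d * π ⟨_, hφD q q.2⟩
    rw [← mul_inv_eq_iff_eq_mul, ← map_mul, ← map_inv, ← map_mul,
      ← hQtriv (q : G) q.2 (⟨_, hφD q q.2⟩ * d * (⟨_, hφD q q.2⟩ : D)⁻¹)]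
    refine hmod _ _ (Or.inr ?_)
    show (d : G)⁻¹ * ((q : G) * (((q : G)⁻¹ * y q q.2) * d * ((q : G)⁻¹ * y q q.2)⁻¹) * (q : G)⁻¹) ∈ R₂
    rw [show (q : G) * (((q : G)⁻¹ * y q q.2) * d * ((q : G)⁻¹ * y q q.2)⁻¹) * (q : G)⁻¹ =
      y q q.2 * d * (y q q.2)⁻¹ by group, hyr]
    have h1 := hR₂mem d d.2.1.1 (hDx d d.2) q q.2
    have h2 : (d : G)⁻¹ * r q q.2 * d ∈ R₂ := by
      have h := hR₂n _ (N.inv_mem d.2.1.1)
        ((show Commute (d : G) x from hDx d d.2).inv_left.eq) _ (hrR q q.2)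
      simpa using h
    have h3 : (d : G)⁻¹ * ((n₀ * q * n₀⁻¹) * d * (n₀ * q * n₀⁻¹)⁻¹ * (d : G)⁻¹) * d ∈ R₂ := by
      have h := hR₂n _ (N.inv_mem d.2.1.1)
        ((show Commute (d : G) x from hDx d d.2).inv_left.eq) _ h1
      simpa using h
    convert R₂.mul_mem (R₂.mul_mem h2 h3) (R₂.inv_mem (hrR q q.2)) using 1
    group
  have hφu : φ ⟨u, huQ⟩ = 1 := hom_eq_one_of_commute φ
    (fun a b => by
      obtain ⟨d, hd⟩ := QuotientGroup.mk'_surjective O (φ b)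
      rw [← hd]
      exact hcentral a d) huQ' huQ
  have hτD : τ ∈ D := ⟨⟨hτN, mem_centralizer_singleton_iff.mpr (hqτ u huQ).symm.eq⟩,
    mem_centralizer_singleton_iff.mpr rfl⟩
  have hφτ : φ ⟨u, huQ⟩ = π ⟨τ, hτD⟩ := by
    refine hmod _ _ (Or.inr ?_)
    show τ⁻¹ * (u⁻¹ * y u huQ) ∈ R₂
    rw [hyr, ← hxn, ← mul_assoc, show τ⁻¹ * u⁻¹ = x⁻¹ by rw [hxτ, mul_inv_rev], ← mul_assoc,
      mul_assoc x⁻¹, (hR₂x _ (hrR u huQ)).2, inv_mul_cancel_left]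
    exact hrR u huQ
  have hτO : (⟨τ, hτD⟩ : D) ∈ O := (QuotientGroup.eq_one_iff _).mp (hφτ.symm.trans hφu)
  have hτ1 : τ = 1 := by
    refine eq_one_of_odd_of_twoGroup (R := O.map D.subtype) ?_ (hSp.to_le inf_le_left)
      ⟨_, hτO, rfl⟩ hτT
    rw [card_map_of_injective D.subtype_injective]
    exact Nat.coprime_two_right.mp (H1.card_pPrimeCore_coprime 2 D)
  rw [hxτ, hτ1, mul_one]

end H4.CentMod
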