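import Cfsg.Agent.H4.CentralizerMod

/-!
Consequences of the isolation: `Q` centralizes `N` modulo `O(G)`.
-/

set_option autoImplicit false
set_option linter.style.haveILetI false

universe u

namespace H4.CentMod

open Subgroup

/-- The case of an involution. -/
theorem commutators_mem_odd_core {G : Type u} [Group G] [Finite G] {N Q : Subgroup G}
    [hNn : N.Normal] (hG : Q ⊔ N = ⊤) (hQ : IsPGroup 2 Q) {u : G} (hu : orderOf u = 2)
    (huQ : u ∈ Q) (huc : u ∈ centralizer (Q : Set G)) (huQ' : u ∈ ⁅Q, Q⁆)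
    (hyp : ModOdd (N ⊓ centralizer ({u} : Set G)) Q) :
    Cfsg.pPrimeCore 2 G ≤ N ∧ ∀ n ∈ N, ∀ q ∈ Q, q * n * q⁻¹ * n⁻¹ ∈ Cfsg.pPrimeCore 2 G := by
  set O := Cfsg.pPrimeCore 2 G with hO
  haveI hOn : O.Normal := H1.pPrimeCore_normal' 2 G
  have hOodd : Odd (Nat.card O) := Nat.coprime_two_right.mp (H1.card_pPrimeCore_coprime 2 G)
  have hZ := H85.zStar (isolated hG hQ hu huQ huc huQ' hyp)
  obtain ⟨R, hRM, hRn, hRodd, hR⟩ := hyp
  set C := N ⊓ centralizer ({u} : Set G) with hC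
  have hu2 : u * u = 1 := H66.mul_self_of_orderOf_two hu
  have hON : O ≤ N := by
    intro o ho
    obtain ⟨n, hn, q, hq, rfl⟩ := mem_sup_of_normal_left.mp
      (show o ∈ N ⊔ Q from (sup_comm Q N ▸ hG).symm ▸ mem_top o)
    set π := QuotientGroup.mk' N with hπ
    have h1 : π (n * q) ∈ O.map π := ⟨_, ho, rfl⟩
    have h2 : π (n * q) ∈ Q.map π := by
      rw [map_mul, show π n = 1 from (QuotientGroup.eq_one_iff n).mpr hn, one_mul]
      exact ⟨q, hq, rfl⟩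
    have h3 := eq_one_of_odd_of_twoGroup
      (Odd.of_dvd_nat hOodd (card_map_dvd O π)) (hQ.map π) h1 h2
    exact (QuotientGroup.eq_one_iff _).mp h3
  have hfac : ∀ g : G, ∃ o ∈ O, (o * g) * u = u * (o * g) := by
    intro g
    have hρ : g * u * g⁻¹ * u ∈ O := by
      have h := hOn.conj_mem _ (hZ g) u⁻¹
      have e : u⁻¹ * (u * g * u⁻¹ * g⁻¹) * u⁻¹⁻¹ = g * u⁻¹ * g⁻¹ * u := by group
      rw [e, H66.inv_eq_self_of_sq hu2] at h
      exact h
    have hw : g * u * g⁻¹ * (g * u * g⁻¹) = 1 := by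
      calc g * u * g⁻¹ * (g * u * g⁻¹) = g * (u * u) * g⁻¹ := by group
        _ = 1 := by rw [hu2]; group
    obtain ⟨k, hk, -, -, hkc⟩ := H66.exists_conj_of_odd_mul hw hu2
      (Odd.of_dvd_nat hOodd (Subgroup.orderOf_dvd_natCard (s := O) hρ))
    refine ⟨k, (zpowers_le.mpr hρ) hk, ?_⟩
    refine mul_inv_eq_iff_eq_mul.mp ?_
    calc k * g * u * (k * g)⁻¹ = k * (g * u * g⁻¹) * k⁻¹ := by group
      _ = u := hkc
  have hQR : ∀ q ∈ Q, ∀ w ∈ R, q * w * q⁻¹ ∈ R := fun q hq w hw => by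
    have := R.mul_mem (hR w (hRM hw) q hq) hw
    rwa [inv_mul_cancel_right] at this
  -- `R ≤ O(G)`
  have hnor : ∀ g : G, g ∈ normalizer ((R ⊔ O : Subgroup G) : Set G) := by
    have h1 : Q ≤ normalizer (R : Set G) := fun q hq => mem_normalizer_iff.mpr fun w =>
      ⟨hQR q hq w, fun hw => by
        have := hQR q⁻¹ (Q.inv_mem hq) _ hw
        simpa [mul_assoc] using this⟩
    have h2 : normalizer (R : Set G) ≤ normalizer ((R ⊔ O : Subgroup G) : Set G) := by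
      intro g hg
      rw [mem_normalizer_iff_map_conj_eq] at hg ⊢
      rw [Subgroup.map_sup, hg, hOn.map_conj_eq (H := O) g]
    intro g
    obtain ⟨n, hn, q, hq, rfl⟩ := mem_sup_of_normal_left.mp
      (show g ∈ N ⊔ Q from (sup_comm Q N ▸ hG).symm ▸ mem_top g)
    obtain ⟨o, ho, hou⟩ := hfac n
    rw [show n * q = o⁻¹ * ((o * n) * q) by group]
    exact mul_mem (Subgroup.le_normalizer (mem_sup_right (O.inv_mem ho)))
      (mul_mem (h2 (hRn ⟨N.mul_mem (hON ho) hn, mem_centralizer_singleton_iff.mpr hou⟩)) (h2 (h1 hq)))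
  haveI : (R ⊔ O).Normal := normalizer_eq_top_iff.mp (eq_top_iff.mpr fun g _ => hnor g)
  have hRO : R ≤ O := by
    refine le_sup_left.trans (H1.le_pPrimeCore (N := R ⊔ O) ?_)
    have h1 : Nat.card ↥(R ⊔ O) ∣ Nat.card R * Nat.card O := by
      rw [← card_mul_index (O.subgroupOf (R ⊔ O)),
        Nat.card_congr (subgroupOfEquivOfLe (le_sup_right : O ≤ R ⊔ O)).toEquiv, mul_comm]
      refine Nat.mul_dvd_mul_right ?_ _
      show O.relIndex (R ⊔ O) ∣ _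
      rw [relIndex_sup_right]
      exact relIndex_dvd_card O R
    exact Nat.coprime_two_right.mpr (Odd.of_dvd_nat (hRodd.mul hOodd) h1)
  refine ⟨hON, fun n hn q hq => ?_⟩
  obtain ⟨o, ho, hou⟩ := hfac n
  have h1 : q * (o * n) * q⁻¹ * (o * n)⁻¹ ∈ O :=
    hRO (hR _ ⟨N.mul_mem (hON ho) hn, mem_centralizer_singleton_iff.mpr hou⟩ q hq)
  have h2 : q * o * q⁻¹ ∈ O := hOn.conj_mem o ho q
  have e : q * n * q⁻¹ * n⁻¹ = (q * o * q⁻¹)⁻¹ * (q * (o * n) * q⁻¹ * (o * n)⁻¹) * o := by group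
  rw [e]
  exact O.mul_mem (O.mul_mem (O.inv_mem h2) h1) ho

/-- An element of `Z(Q) ∩ Q'` of any order will do. -/
theorem commutators_mem_odd_core_gen : ∀ (a : ℕ) (G : Type u) [Group G] [Finite G] (N Q : Subgroup G)
    [N.Normal], Q ⊔ N = ⊤ → IsPGroup 2 Q → Q ⊓ N = ⊥ → ∀ t : G, orderOf t ≤ a → t ≠ 1 → t ∈ Q →
    t ∈ centralizer (Q : Set G) → t ∈ ⁅Q, Q⁆ → ModOdd (N ⊓ centralizer ({t} : Set G)) Q →
    Cfsg.pPrimeCore 2 G ≤ N ∧ ∀ n ∈ N, ∀ q ∈ Q, q * n * q⁻¹ * n⁻¹ ∈ Cfsg.pPrimeCore 2 G := by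
  haveI : Fact (Nat.Prime 2) := ⟨Nat.prime_two⟩
  intro a
  induction a using Nat.strong_induction_on with
  | _ a ih =>
  intro G _ _ N Q hNn hG hQ hdisj t hta ht1 htQ htc htQ' hyp
  obtain ⟨k, hk⟩ := IsPGroup.iff_orderOf.mp hQ ⟨t, htQ⟩
  rw [Subgroup.orderOf_mk] at hk
  obtain ⟨j, rfl⟩ : ∃ j, k = j + 1 := ⟨k - 1, by
    rcases k with _ | k
    · exact absurd (orderOf_eq_one_iff.mp (by rw [hk, pow_zero])) ht1
    · rfl⟩
  set u := t ^ (2 ^ j) with hudef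
  have huQ : u ∈ Q := Q.pow_mem htQ _
  have huc : u ∈ centralizer (Q : Set G) := pow_mem htc _
  have huQ' : u ∈ ⁅Q, Q⁆ := pow_mem htQ' _
  have hu : orderOf u = 2 := by
    rw [hudef, orderOf_pow_of_dvd (by positivity) (hk ▸ pow_dvd_pow 2 (Nat.le_succ j)), hk,
      pow_succ, Nat.mul_div_cancel_left _ (by positivity)]
  suffices hyp' : ModOdd (N ⊓ centralizer ({u} : Set G)) Q from
    commutators_mem_odd_core hG hQ hu huQ huc huQ' hyp'
  rcases Nat.eq_zero_or_pos j with rfl | hj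
  · rwa [show u = t by rw [hudef, pow_zero, pow_one]]
  set X := centralizer ({u} : Set G) with hX
  have hQX : Q ≤ X := fun q hq =>
    mem_centralizer_singleton_iff.mpr (mem_centralizer_iff.mp huc q hq)
  have huX : u ∈ X := hQX huQ
  set U := zpowers (⟨u, huX⟩ : X) with hU
  haveI : U.Normal := ⟨fun w hw g => by
    obtain ⟨i, rfl⟩ := hw
    have h : Commute g (⟨u, huX⟩ : X) := Subtype.ext (mem_centralizer_singleton_iff.mp g.2)
    show g * (⟨u, huX⟩ : X) ^ i * g⁻¹ ∈ U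
    rw [(h.zpow_right i).eq, mul_inv_cancel_right]
    exact zpow_mem (mem_zpowers _) i⟩
  set f := QuotientGroup.mk' U with hf
  have hfs : Function.Surjective f := QuotientGroup.mk'_surjective U
  have hker : ∀ w : X, f w = 1 → (w : G) ∈ Q := by
    intro w hw
    obtain ⟨i, rfl⟩ := (QuotientGroup.eq_one_iff w).mp hw
    exact zpow_mem huQ i
  have hker' : ∀ w : X, f w = 1 → (w : G) ∈ N → w = 1 := fun w hw hwN => Subtype.ext <| by
    have h : (w : G) ∈ Q ⊓ N := ⟨hker w hw, hwN⟩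
    rwa [hdisj, Subgroup.mem_bot] at h
  set N' := (N.subgroupOf X).map f with hN'
  set Q' := (Q.subgroupOf X).map f with hQ'
  haveI : N'.Normal := (inferInstance : (N.subgroupOf X).Normal).map f hfs
  have hsup : Q' ⊔ N' = ⊤ := by
    refine eq_top_iff.mpr fun z _ => ?_
    obtain ⟨w, rfl⟩ := hfs z
    obtain ⟨n, hn, q, hq, hnq⟩ := mem_sup_of_normal_left.mp
      (show (w : G) ∈ N ⊔ Q from (sup_comm Q N ▸ hG).symm ▸ mem_top _)
    have hnX : n ∈ X := by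
      rw [show n = (w : G) * q⁻¹ by rw [← hnq, mul_inv_cancel_right]]
      exact X.mul_mem w.2 (X.inv_mem (hQX hq))
    rw [show w = ⟨n, hnX⟩ * ⟨q, hQX hq⟩ from Subtype.ext hnq.symm, map_mul]
    exact mul_mem (mem_sup_right ⟨_, hn, rfl⟩) (mem_sup_left ⟨_, hq, rfl⟩)
  have hdisj' : Q' ⊓ N' = ⊥ := by
    rw [eq_bot_iff]
    rintro _ ⟨⟨q, hq, rfl⟩, ⟨n, hn, hnq⟩⟩
    have h1 : (n : G) ∈ Q := by
      have h := hker (n * q⁻¹) (by rw [map_mul, map_inv, hnq, mul_inv_cancel])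
      simpa using Q.mul_mem h (mem_subgroupOf.mp hq)
    have h2 : (n : G) ∈ Q ⊓ N := ⟨h1, mem_subgroupOf.mp hn⟩
    rw [hdisj, Subgroup.mem_bot] at h2
    rw [Subgroup.mem_bot, ← hnq, show n = 1 from Subtype.ext h2, map_one]
  have htX : t ∈ X := hQX htQ
  have hft : f ⟨t, htX⟩ ≠ 1 := by
    intro h
    have h1 : orderOf (⟨t, htX⟩ : X) ∣ orderOf (⟨u, huX⟩ : X) :=
      orderOf_dvd_of_mem_zpowers ((QuotientGroup.eq_one_iff _).mp h)
    rw [Subgroup.orderOf_mk, Subgroup.orderOf_mk, hu, hk] at h1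
    have h2 : 2 ^ 2 ≤ 2 ^ (j + 1) := Nat.pow_le_pow_right (by omega) (by omega)
    have := Nat.le_of_dvd (by omega) h1
    omega
  have hlt : orderOf (f ⟨t, htX⟩) < a := by
    have h1 : f ⟨t, htX⟩ ^ (2 ^ j) = 1 := by
      rw [← map_pow]
      exact (QuotientGroup.eq_one_iff _).mpr (mem_zpowers_iff.mpr ⟨1, Subtype.ext (by simp [hudef])⟩)
    have h2 := Nat.le_of_dvd (by positivity) (orderOf_dvd_of_pow_eq_one h1)
    have h3 : 2 ^ j < 2 ^ (j + 1) := Nat.pow_lt_pow_right (by omega) (by omega)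
    omega
  have hc' : f ⟨t, htX⟩ ∈ centralizer (Q' : Set (X ⧸ U)) := by
    refine mem_centralizer_iff.mpr ?_
    rintro _ ⟨q, hq, rfl⟩
    rw [← map_mul, ← map_mul]
    exact congrArg f (Subtype.ext (mem_centralizer_iff.mp htc q hq))
  have hQ'' : f ⟨t, htX⟩ ∈ ⁅Q', Q'⁆ := by
    rw [hQ', ← map_commutator]
    refine ⟨⟨t, htX⟩, ?_, rfl⟩
    have h : ⁅Q.subgroupOf X, Q.subgroupOf X⁆.map X.subtype = ⁅Q, Q⁆ := by
      rw [map_commutator, map_subgroupOf_eq_of_le hQX]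
    rw [← h] at htQ'
    obtain ⟨w, hw, hwt⟩ := htQ'
    rwa [show (⟨t, htX⟩ : X) = w from Subtype.ext hwt.symm]
  obtain ⟨R, hRM, hRn, hRodd, hR⟩ := hyp
  have hC : ∀ n : X, (n : G) ∈ N → f n ∈ centralizer ({f ⟨t, htX⟩} : Set (X ⧸ U)) →
      (n : G) ∈ N ⊓ centralizer ({t} : Set G) := by
    intro n hn hnc
    refine ⟨hn, mem_centralizer_singleton_iff.mpr ?_⟩
    have h1 : f (n * ⟨t, htX⟩ * n⁻¹ * ⟨t, htX⟩⁻¹) = 1 := by
      rw [map_mul, map_mul, map_mul, map_inv, map_inv, mem_centralizer_singleton_iff.mp hnc]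
      group
    have h2 := congrArg Subtype.val (hker' _ h1 (by
      push_cast
      rw [show (n : G) * t * (n : G)⁻¹ * t⁻¹ = (n : G) * (t * (n : G)⁻¹ * t⁻¹) by group]
      exact N.mul_mem hn (hNn.conj_mem _ (N.inv_mem hn) t)))
    push_cast at h2
    rwa [mul_inv_eq_one, mul_inv_eq_iff_eq_mul] at h2
  have hRX : R ≤ X := fun r hr => by
    have hcm : Commute r t := mem_centralizer_singleton_iff.mp (hRM hr).2
    exact mem_centralizer_singleton_iff.mpr (hcm.pow_right (2 ^ j)).eq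
  have hmod : ModOdd (N' ⊓ centralizer ({f ⟨t, htX⟩} : Set (X ⧸ U))) Q' := by
    refine ⟨(R.subgroupOf X).map f, ?_, ?_, ?_, ?_⟩
    · rintro _ ⟨r, hr, rfl⟩
      refine ⟨⟨r, (hRM hr).1, rfl⟩, mem_centralizer_singleton_iff.mpr ?_⟩
      rw [← map_mul, ← map_mul]
      exact congrArg f (Subtype.ext (mem_centralizer_singleton_iff.mp (hRM hr).2))
    · rintro _ ⟨⟨n, hn, rfl⟩, hnc⟩
      refine le_normalizer_map f ⟨n, ?_, rfl⟩
      refine mem_normalizer_iff.mpr fun w => ?_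
      simp only [mem_subgroupOf, coe_mul, coe_inv]
      exact mem_normalizer_iff.mp (hRn (hC n hn hnc)) w
    · refine Odd.of_dvd_nat hRodd ((card_map_dvd _ f).trans ?_)
      rw [Nat.card_congr (subgroupOfEquivOfLe hRX).toEquiv]
    · rintro _ ⟨⟨n, hn, rfl⟩, hnc⟩ _ ⟨q, hq, rfl⟩
      exact ⟨q * n * q⁻¹ * n⁻¹, hR _ (hC n hn hnc) _ hq, by simp only [map_mul, map_inv]⟩
  obtain ⟨-, hmain⟩ := ih _ hlt (X ⧸ U) N' Q' hsup
    ((hQ.comap_of_injective X.subtype X.subtype_injective).map f) hdisj' _ le_rfl hft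
    ⟨_, htQ, rfl⟩ hc' hQ'' hmod
  set O' := Cfsg.pPrimeCore 2 (X ⧸ U) with hO'
  haveI : O'.Normal := H1.pPrimeCore_normal' 2 _
  refine ⟨(O'.comap f ⊓ N.subgroupOf X).map X.subtype, ?_, ?_, ?_, ?_⟩
  · rintro _ ⟨w, hw, rfl⟩
    exact ⟨hw.2, w.2⟩
  · intro c hc
    refine le_normalizer_map X.subtype ⟨⟨c, hc.2⟩, ?_, rfl⟩
    rw [normalizer_eq_top_iff.mpr inferInstance]
    exact mem_top _
  · rw [card_map_of_injective X.subtype_injective, ← Nat.not_even_iff_odd, even_iff_two_dvd]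
    intro h2
    obtain ⟨w, hw⟩ := exists_prime_orderOf_dvd_card' (G := ↥(O'.comap f ⊓ N.subgroupOf X)) 2 h2
    have h1 : f w = 1 := orderOf_eq_one_iff.mp (Nat.eq_one_of_dvd_coprimes
      (H1.card_pPrimeCore_coprime 2 (X ⧸ U)) (Subgroup.orderOf_dvd_natCard (s := O') w.2.1)
      ((orderOf_map_dvd f _).trans (by rw [Subgroup.orderOf_coe, hw])))
    have h3 : w = 1 := Subtype.ext (hker' _ h1 w.2.2)
    rw [h3, orderOf_one] at hw
    omega
  · intro c hc q hq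
    refine ⟨⟨q, hQX hq⟩ * ⟨c, hc.2⟩ * ⟨q, hQX hq⟩⁻¹ * ⟨c, hc.2⟩⁻¹, ⟨?_, ?_⟩, rfl⟩
    · show f _ ∈ O'
      simp only [map_mul, map_inv]
      exact hmain _ ⟨⟨c, hc.2⟩, hc.1, rfl⟩ _ ⟨_, hq, rfl⟩
    · exact mem_subgroupOf.mpr (N.mul_mem (hNn.conj_mem c hc.1 q) (N.inv_mem hc.1))

/-- `[N, Q]` has odd order; it is solvable given the odd order theorem. -/
theorem commutator_odd {G : Type u} [Group G] [Finite G] (N Q : Subgroup G) [N.Normal]
    (hG : Q ⊔ N = ⊤) (hQ : IsPGroup 2 Q) (hdisj : Q ⊓ N = ⊥) (t : G) (ht1 : t ≠ 1)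
    (htZ : t ∈ Q ⊓ centralizer (Q : Set G)) (htQ : t ∈ ⁅Q, Q⁆)
    (hC : N ⊓ centralizer (Q : Set G) = N ⊓ centralizer ({t} : Set G)) :
    Odd (Nat.card ↥⁅N, Q⁆) := by
  have hyp : ModOdd (N ⊓ centralizer ({t} : Set G)) Q := by
    refine ⟨⊥, bot_le, fun g _ => ?_, by simp, fun c hc q hq => ?_⟩
    · rw [normalizer_eq_top_iff.mpr inferInstance]; exact mem_top g
    · rw [← hC] at hc
      rw [Subgroup.mem_bot, mem_centralizer_iff.mp hc.2 q hq, mul_inv_cancel_right, mul_inv_cancel]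
  obtain ⟨-, h⟩ := commutators_mem_odd_core_gen _ G N Q hG hQ hdisj t le_rfl ht1 htZ.1 htZ.2 htQ hyp
  have hle : ⁅N, Q⁆ ≤ Cfsg.pPrimeCore 2 G := by
    rw [Subgroup.commutator_comm, commutator_le]
    intro q hq n hn
    exact h n hn q hq
  exact Odd.of_dvd_nat (Nat.coprime_two_right.mp (H1.card_pPrimeCore_coprime 2 G))
    (card_dvd_of_le hle)

end H4.CentMod

namespace H4.CentMod

open Subgroup

/-- The full statement, given the odd order theorem. -/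
theorem commutator_solvable_odd {G : Type u} [Group G] [Finite G]
    (hodd : ∀ (H : Type u) [Group H] [Finite H], Odd (Nat.card H) → Group.IsSolvable H)
    (N Q : Subgroup G) [N.Normal] (hG : Q ⊔ N = ⊤) (hQ : IsPGroup 2 Q) (hdisj : Q ⊓ N = ⊥)
    (t : G) (ht1 : t ≠ 1) (htZ : t ∈ Q ⊓ centralizer (Q : Set G)) (htQ : t ∈ ⁅Q, Q⁆)
    (hC : N ⊓ centralizer (Q : Set G) = N ⊓ centralizer ({t} : Set G)) :
    Group.IsSolvable ↥⁅N, Q⁆ ∧ Odd (Nat.card ↥⁅N, Q⁆) :=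
  ⟨hodd _ (commutator_odd N Q hG hQ hdisj t ht1 htZ htQ hC),
    commutator_odd N Q hG hQ hdisj t ht1 htZ htQ hC⟩

end H4.CentMod
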