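import Cfsg.Agent.H2.NonsolvableStructure
import Mathlib.GroupTheory.SpecificGroups.ZGroup

set_option autoImplicit false

/-!
Elements of order five in Frobenius complements (helper4): a complement is solvable exactly when it
has at most four of them.
-/

namespace H4

universe u

/-- In a Frobenius complement which is a Z-group, elements of order five commute. -/
theorem zgroup_commute_order_five {Z : Type u} [Group Z] [Finite Z] [IsZGroup Z] (hZ : H28.FCInt Z)
    {x y : Z} (hx : orderOf x = 5) (hy : orderOf y = 5) : x * y = y * x := by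
  classical
  have h5 : Nat.Prime 5 := by norm_num
  haveI hc : IsCyclic (commutator Z) := IsZGroup.isCyclic_commutator _
  have hcop : (Nat.card (commutator Z)).Coprime (commutator Z).index :=
    IsZGroup.coprime_commutator_index _
  by_cases h : 5 ∣ Nat.card (commutator Z)
  · have key : ∀ z : Z, orderOf z = 5 → z ∈ commutator Z := by
      intro z hz
      have h1 : orderOf (QuotientGroup.mk' (commutator Z) z) ∣ 5 := hz ▸ orderOf_map_dvd _ z
      have h2 : orderOf (QuotientGroup.mk' (commutator Z) z) ∣ (commutator Z).index :=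
        orderOf_dvd_natCard _
      have h3 : orderOf (QuotientGroup.mk' (commutator Z) z) = 1 :=
        Nat.eq_one_of_dvd_coprimes (Nat.Coprime.coprime_dvd_left h hcop) h1 h2
      exact (QuotientGroup.eq_one_iff z).mp (orderOf_eq_one_iff.mp h3)
    exact congrArg Subtype.val (hc.commutative.is_comm.comm ⟨x, key x hx⟩ ⟨y, key y hy⟩)
  obtain ⟨g, hg⟩ := hc.exists_generator
  set n := Nat.card (commutator Z) with hn
  have hgn : orderOf (g : Z) = n := by
    rw [Subgroup.orderOf_coe, hn, ← orderOf_eq_card_of_forall_mem_zpowers hg]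
  have hcent : ∀ x : Z, orderOf x = 5 → ∀ a ∈ commutator Z, x * a = a * x := by
    intro x hx
    have hm : x * (g : Z) * x⁻¹ ∈ commutator Z :=
      (inferInstance : (commutator Z).Normal).conj_mem _ g.2 x
    obtain ⟨r, hr'⟩ := Subgroup.mem_zpowers_iff.mp (hg ⟨_, hm⟩)
    have hr : x * (g : Z) * x⁻¹ = (g : Z) ^ r := (congrArg Subtype.val hr').symm.trans (by simp)
    have hpow : ∀ i : ℕ, x ^ i * (g : Z) * (x ^ i)⁻¹ = (g : Z) ^ (r ^ i) := by
      intro i
      induction i with
      | zero => simp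
      | succ i ih =>
        have e : (x * (g : Z) * x⁻¹) ^ (r ^ i) = x * (g : Z) ^ (r ^ i) * x⁻¹ := conj_zpow
        rw [pow_succ r, mul_comm (r ^ i), zpow_mul, ← hr, e, ← ih, pow_succ' x]
        group
    have h1 : (n : ℤ) ∣ r ^ 5 - 1 := by
      rw [← hgn, orderOf_dvd_iff_zpow_eq_one, zpow_sub, ← hpow 5, zpow_one]
      rw [← hx, pow_orderOf_eq_one]
      group
    have h2 : ∀ q : ℕ, q.Prime → q ∣ n → (q : ℤ) ∣ r - 1 := by
      intro q hq hqn
      have ha : orderOf ((g : Z) ^ (n / q)) = q := by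
        rw [orderOf_pow_of_dvd _ (Nat.dvd_of_mod_eq_zero ?_), hgn]
        · exact Nat.div_div_self hqn Nat.card_pos.ne'
        · exact Nat.ne_of_gt (Nat.div_pos (Nat.le_of_dvd Nat.card_pos hqn) hq.pos)
        · rw [hgn]; exact Nat.mod_eq_zero_of_dvd (Nat.div_dvd_of_dvd hqn)
      have hconj : x * (g : Z) ^ (n / q) * x⁻¹ = ((g : Z) ^ (n / q)) ^ r := by
        rw [← conj_pow, hr, ← zpow_natCast, ← zpow_natCast, ← zpow_mul, ← zpow_mul, mul_comm]
      have hne : (5 : ℕ) ≠ q := fun e => h (e ▸ hqn)
      have hcm := H2.fcInt_commute hZ h5 hq hne ha hx (by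
        rw [hconj]; exact Subgroup.zpow_mem _ (Subgroup.mem_zpowers _) _)
      rw [hcm, mul_inv_cancel_right] at hconj
      rw [← ha, orderOf_dvd_iff_zpow_eq_one, zpow_sub, ← hconj, zpow_one, mul_inv_cancel]
    have h3 : IsCoprime (n : ℤ) (1 + r + r ^ 2 + r ^ 3 + r ^ 4) := by
      rw [Int.isCoprime_iff_gcd_eq_one]
      by_contra hne
      obtain ⟨q, hq, hqd⟩ := Nat.exists_prime_and_dvd hne
      have hq' : (q : ℤ) ∣ _ := Int.natCast_dvd_natCast.mpr hqd
      have hqn : q ∣ n := Int.natCast_dvd_natCast.mp (hq'.trans (Int.gcd_dvd_left _ _))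
      have hqS := hq'.trans (Int.gcd_dvd_right (n : ℤ) (1 + r + r ^ 2 + r ^ 3 + r ^ 4))
      obtain ⟨c, hc'⟩ := h2 q hq hqn
      have h5' : (q : ℤ) ∣ 5 := by
        have e : (1 + r + r ^ 2 + r ^ 3 + r ^ 4 : ℤ) = (r - 1) * (r ^ 3 + 2 * r ^ 2 + 3 * r + 4) + 5 := by
          ring
        rw [e, hc', mul_assoc] at hqS
        exact (dvd_add_right (dvd_mul_right _ _)).mp hqS
      exact h ((Nat.prime_dvd_prime_iff_eq hq h5).mp (Int.natCast_dvd_natCast.mp h5') ▸ hqn)
    have h4 : (n : ℤ) ∣ r - 1 := by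
      have e : r ^ 5 - 1 = (r - 1) * (1 + r + r ^ 2 + r ^ 3 + r ^ 4) := by ring
      rw [e] at h1
      exact h3.dvd_of_dvd_mul_right h1
    have hgx : x * (g : Z) * x⁻¹ = g := by
      rw [hr]
      have := (orderOf_dvd_iff_zpow_eq_one (x := (g : Z))).mp (hgn.symm ▸ h4)
      rwa [zpow_sub, zpow_one, mul_inv_eq_one] at this
    intro a ha
    obtain ⟨i, hi⟩ := Subgroup.mem_zpowers_iff.mp (hg ⟨a, ha⟩)
    have hi' : a = (g : Z) ^ i := (congrArg Subtype.val hi).symm.trans (by simp)
    have hcm : Commute x (g : Z) := by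
      show x * (g : Z) = g * x
      exact mul_inv_eq_iff_eq_mul.mp hgx
    rw [hi']
    exact (hcm.zpow_right i).eq
  set c := x * y * x⁻¹ * y⁻¹ with hcdef
  have hcm : c ∈ commutator Z := by
    rw [hcdef, ← commutatorElement_def, commutator_def]
    exact Subgroup.commutator_mem_commutator (Subgroup.mem_top _) (Subgroup.mem_top _)
  have hcy : Commute c y := (hcent y hy c hcm).symm
  have h6 : x * y * x⁻¹ = c * y := by rw [hcdef, inv_mul_cancel_right]
  have h7 : c ^ 5 = 1 := by
    have e := congrArg (· ^ 5) h6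
    simp only [conj_pow, hcy.mul_pow] at e
    rwa [← hy, pow_orderOf_eq_one, mul_one, mul_one, mul_inv_cancel, eq_comm, hy] at e
  have h8 : c = 1 := orderOf_eq_one_iff.mp (Nat.eq_one_of_dvd_coprimes
    ((h5.coprime_iff_not_dvd).mpr h) (orderOf_dvd_of_pow_eq_one h7)
    (Subgroup.orderOf_dvd_natCard _ hcm))
  rw [h8, one_mul, mul_inv_eq_iff_eq_mul] at h6
  exact h6

/-- A solvable Frobenius complement has at most four elements of order five. -/
theorem card_order_five_le {H : Type u} [Group H] [Finite H] [Group.IsSolvable H]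
    (hH : H28.FCInt H) : Nat.card {x : H // orderOf x = 5} ≤ 4 := by
  classical
  by_cases he : ∃ x : H, orderOf x = 5
  swap
  · have : IsEmpty {x : H // orderOf x = 5} := ⟨fun x => he ⟨x.1, x.2⟩⟩
    simp
  obtain ⟨x, hx⟩ := he
  obtain ⟨f, hf⟩ := H2.exists_hom_perm_four hH
  haveI := hf
  haveI : Fact (Nat.Prime 5) := ⟨by norm_num⟩
  have key : ∀ y : H, orderOf y = 5 → y ∈ f.ker := by
    intro y hy
    have h1 : orderOf (f y) ∣ 5 := hy ▸ orderOf_map_dvd f y
    have h2 : orderOf (f y) ∣ 24 := by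
      have := orderOf_dvd_natCard (f y)
      rwa [Nat.card_eq_fintype_card, Fintype.card_perm, Fintype.card_fin] at this
    exact orderOf_eq_one_iff.mp (Nat.eq_one_of_dvd_coprimes (by norm_num) h1 h2)
  have hsub : ∀ y : H, orderOf y = 5 → y ∈ Subgroup.zpowers x := by
    intro y hy
    have hc := congrArg Subtype.val (zgroup_commute_order_five
      (H28.fcInt_of_injective f.ker.subtype f.ker.subtype_injective hH)
      (x := ⟨x, key x hx⟩) (y := ⟨y, key y hy⟩) (by rw [← Subgroup.orderOf_coe]; exact hx)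
      (by rw [← Subgroup.orderOf_coe]; exact hy))
    exact H28.fcInt_mem_zpowers hH hc hx (by rw [← hy, pow_orderOf_eq_one])
  let m : Option {y : H // orderOf y = 5} → Subgroup.zpowers x := fun o =>
    o.elim 1 fun y => ⟨y.1, hsub y.1 y.2⟩
  have hm : Function.Injective m := by
    rintro (_ | a) (_ | b) e
    · rfl
    · exact absurd (congrArg Subtype.val e).symm (fun e' => by
        have := b.2; rw [show b.1 = 1 from e', orderOf_one] at this; omega)
    · exact absurd (congrArg Subtype.val e) (fun e' => by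
        have := a.2; rw [show a.1 = 1 from e', orderOf_one] at this; omega)
    · exact congrArg some (Subtype.ext (congrArg (fun z : Subgroup.zpowers x => (z : H)) e))
  have := Nat.card_le_card_of_injective m hm
  rw [Finite.card_option, Nat.card_zpowers, hx] at this
  omega

/-- With at most four elements of order five a Frobenius complement is solvable. -/
theorem isSolvable_of_card_order_five (hcore : H2.PerfectComplementIsSL25.{u}) {H : Type u}
    [Group H] [Finite H] (hH : H28.FCInt H) (h : Nat.card {x : H // orderOf x = 5} ≤ 4) :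
    Group.IsSolvable H := by
  classical
  by_contra hns
  obtain ⟨P, -, -, ⟨e⟩⟩ := H2.exists_perfect_sl25 hcore hH hns
  let el : Fin 5 → Matrix.SpecialLinearGroup (Fin 2) (ZMod 5) :=
    ![⟨!![1, 1; 0, 1], by decide⟩, ⟨!![1, 2; 0, 1], by decide⟩, ⟨!![1, 3; 0, 1], by decide⟩,
      ⟨!![1, 4; 0, 1], by decide⟩, ⟨!![1, 0; 1, 1], by decide⟩]
  have hinj : Function.Injective el := by decide
  have hel : ∀ i, orderOf (el i) = 5 := by
    intro i
    haveI : Fact (Nat.Prime 5) := ⟨by norm_num⟩
    refine orderOf_eq_prime ?_ ?_ <;> revert i <;> decide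
  let m : Fin 5 → {x : H // orderOf x = 5} := fun i =>
    ⟨(e.symm (el i) : P), by rw [Subgroup.orderOf_coe, e.symm.orderOf_eq, hel i]⟩
  have hm : Function.Injective m := fun i j hij =>
    hinj (e.symm.injective (Subtype.ext (congrArg (fun z : {x : H // orderOf x = 5} => z.1) hij)))
  have := Nat.card_le_card_of_injective m hm
  rw [Nat.card_fin] at this
  omega

end H4
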