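import Cfsg.Agent.H4.AbelianFactor
import Cfsg.Agent.H3.Supersolvable

/-!
A finite product of two cyclic subgroups is supersolvable.
-/

set_option autoImplicit false

namespace H4

universe u

theorem ss_of_cyclic_factors_aux : ∀ (n : ℕ) (G : Type u) [Group G] [Finite G] (A B : Subgroup G),
    Nat.card G = n → IsCyclic A → IsCyclic B → Factorizes A B → Cfsg.IsSupersolvable G := by
  intro n
  induction n using Nat.strong_induction_on with
  | _ n ih =>
  intro G _ _ A B hn hA hB hAB
  rcases subsingleton_or_nontrivial G with hG | hG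
  · exact H3.ss_of_subsingleton
  haveI := hA.isMulCommutative
  haveI := hB.isMulCommutative
  obtain ⟨N, hN, hN1, hle⟩ := exists_normal_le_factor hAB
  haveI := hN
  haveI : IsCyclic N := by
    rcases hle with h | h
    · exact isCyclic_of_injective (Subgroup.inclusion h) (Subgroup.inclusion_injective h)
    · exact isCyclic_of_injective (Subgroup.inclusion h) (Subgroup.inclusion_injective h)
  refine H3.ss_of_quotient_cyclic N ?_
  have hπ : Function.Surjective (QuotientGroup.mk' N) := QuotientGroup.mk'_surjective N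
  refine ih _ (hn ▸ H3.card_quotient_lt N hN1) (G ⧸ N) (A.map (QuotientGroup.mk' N))
    (B.map (QuotientGroup.mk' N)) rfl ?_ ?_ ?_
  · exact isCyclic_of_surjective _ ((QuotientGroup.mk' N).subgroupMap_surjective A)
  · exact isCyclic_of_surjective _ ((QuotientGroup.mk' N).subgroupMap_surjective B)
  · intro g
    obtain ⟨g, rfl⟩ := hπ g
    obtain ⟨a, ha, b, hb, rfl⟩ := hAB g
    exact ⟨_, ⟨a, ha, rfl⟩, _, ⟨b, hb, rfl⟩, map_mul _ _ _⟩

end H4
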