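import Cfsg.Agent.S0143
import Mathlib.GroupTheory.Transfer
import Mathlib.GroupTheory.Solvable

set_option autoImplicit false

/-!
A subgroup of prime power index that is cyclic-by-(cyclic 2-group) forces solvability (helper4).

In a simple such group either the cyclic part contains an element whose class has prime power
size, or the Sylow 2-subgroups are cyclic.
-/

namespace H4

universe u

/-- `A` is cyclic by a cyclic 2-group. -/
def CycTwo (A : Type u) [Group A] : Prop :=
  ∃ (C : Subgroup A) (_ : C.Normal), IsCyclic C ∧ IsCyclic (A ⧸ C) ∧ IsPGroup 2 (A ⧸ C)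

theorem CycTwo.of_injective {A B : Type u} [Group A] [Group B] (f : B →* A)
    (hf : Function.Injective f) (h : CycTwo A) : CycTwo B := by
  obtain ⟨C, hC, hc, hq, h2⟩ := h
  let g := QuotientGroup.map (C.comap f) C f le_rfl
  have hg : Function.Injective g := by
    rw [← MonoidHom.ker_eq_bot_iff, eq_bot_iff]
    intro x hx
    obtain ⟨x, rfl⟩ := QuotientGroup.mk_surjective x
    rw [MonoidHom.mem_ker, QuotientGroup.map_mk, QuotientGroup.eq_one_iff] at hx
    exact Subgroup.mem_bot.mpr ((QuotientGroup.eq_one_iff x).mpr hx)
  let k : C.comap f →* C := (f.comp (C.comap f).subtype).codRestrict C fun x => x.2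
  refine ⟨C.comap f, inferInstance, isCyclic_of_injective k fun x y e =>
    Subtype.ext (hf (congrArg Subtype.val e)), isCyclic_of_injective g hg, h2.of_injective g hg⟩

theorem CycTwo.of_surjective {A B : Type u} [Group A] [Group B] (f : A →* B)
    (hf : Function.Surjective f) (h : CycTwo A) : CycTwo B := by
  obtain ⟨C, hC, hc, hq, h2⟩ := h
  haveI : (C.map f).Normal := hC.map f hf
  let g := QuotientGroup.map C (C.map f) f (Subgroup.le_comap_map f C)
  have hg : Function.Surjective g := by
    intro y
    obtain ⟨y, rfl⟩ := QuotientGroup.mk_surjective y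
    obtain ⟨x, rfl⟩ := hf y
    exact ⟨x, rfl⟩
  exact ⟨C.map f, inferInstance, isCyclic_of_surjective (f.subgroupMap C) (f.subgroupMap_surjective C),
    isCyclic_of_surjective g hg, h2.of_surjective g hg⟩

/-- A simple group with such a subgroup of prime power index has prime order. -/
theorem prime_card_of_cycTwo {G : Type u} [Group G] [Finite G] [IsSimpleGroup G] (A : Subgroup G)
    {p s : ℕ} (hp : p.Prime) (hA : A.index = p ^ s) (h : CycTwo A) : Group.IsSolvable G := by
  classical
  obtain ⟨C, hC, hc, hq, h2⟩ := h
  haveI : Fact (Nat.Prime 2) := ⟨Nat.prime_two⟩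
  obtain ⟨g₀, hg₀⟩ := hc.exists_generator
  have hcomm : ∀ x y : C, x * y = y * x := fun x y => hc.commutative.is_comm.comm x y
  -- a nontrivial element with class of prime power size finishes
  have burn : ∀ (x : G) (q k : ℕ), q.Prime → x ≠ 1 →
      (Subgroup.centralizer ({x} : Set G)).index = q ^ k → Group.IsSolvable G := by
    intro x q k hq' hx hk
    haveI : Fact (Nat.card G).Prime := ⟨Cfsg.Agent.S0143.result q k hq' x hx hk⟩
    exact IsSimpleGroup.comm_iff_isSolvable.mp fun a b => (isCyclic_of_prime_card rfl).commutative.is_comm.comm a b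
  -- the class of an element of `C` has size a divisor of the index of `C` in `G`
  have hdiv : ∀ c : C, (Subgroup.centralizer ({((c : A) : G)} : Set G)).index ∣
      Nat.card (A ⧸ C) * p ^ s := by
    intro c
    have hle : C.map A.subtype ≤ Subgroup.centralizer ({((c : A) : G)} : Set G) := by
      rintro _ ⟨x, hx, rfl⟩
      rw [Subgroup.mem_centralizer_singleton_iff]
      exact congrArg (fun z : C => ((z : A) : G)) (hcomm ⟨x, hx⟩ c)
    refine (Subgroup.index_dvd_of_le hle).trans ?_
    rw [Subgroup.index_map_subtype, hA]
    rfl
  obtain ⟨r, hr⟩ := IsPGroup.iff_card.mp h2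
  by_cases hp2 : p = 2
  · subst hp2
    by_cases hC1 : C = ⊥
    · subst hC1
      have hG : IsPGroup 2 G := by
        refine IsPGroup.of_card (n := r + s) ?_
        rw [← A.card_mul_index, hA, pow_add, ← hr, ← Subgroup.index_bot, Subgroup.index]
      haveI := hG.isNilpotent
      infer_instance
    · obtain ⟨x, hx, hx1⟩ := (C.bot_or_exists_ne_one).resolve_left hC1
      have hd := hdiv ⟨x, hx⟩
      rw [hr, ← pow_add] at hd
      obtain ⟨k, -, hk⟩ := (Nat.dvd_prime_pow Nat.prime_two).mp hd
      exact burn _ 2 k Nat.prime_two (fun e => hx1 (Subtype.ext e)) hk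
  · by_cases h2C : 2 ∣ Nat.card C
    · -- the involution of `C` is central in `A`
      obtain ⟨t, ht⟩ := exists_prime_orderOf_dvd_card' (G := C) 2 h2C
      have htA : ∀ a : A, a * (t : A) * a⁻¹ = (t : A) := by
        intro a
        have hm : a * (t : A) * a⁻¹ ∈ C := hC.conj_mem _ t.2 a
        set u : C := ⟨_, hm⟩ with hu
        have hu2 : orderOf u = 2 := by
          rw [← Subgroup.orderOf_coe]
          show orderOf ((MulAut.conj a).toMonoidHom (t : A)) = 2
          rw [orderOf_injective (MulAut.conj a).toMonoidHom (MulAut.conj a).injective,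
            Subgroup.orderOf_coe, ht]
        haveI : IsCyclic C := hc
        haveI := Fintype.ofFinite C
        have hle2 := IsCyclic.card_pow_eq_one_le (α := C) (n := 2) two_pos
        have hsub : ({1, t, u} : Finset C) ⊆ Finset.univ.filter fun y => y ^ 2 = 1 := by
          intro y hy
          simp only [Finset.mem_insert, Finset.mem_singleton] at hy
          simp only [Finset.mem_filter, Finset.mem_univ, true_and]
          rcases hy with rfl | rfl | rfl
          · exact one_pow 2
          · rw [← ht, pow_orderOf_eq_one]
          · rw [← hu2, pow_orderOf_eq_one]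
        by_contra hne
        have h3 : ({1, t, u} : Finset C).card = 3 := by
          have e1 : (1 : C) ≠ t := fun e => by rw [← e, orderOf_one] at ht; exact absurd ht (by decide)
          have e2 : (1 : C) ≠ u := fun e => by rw [← e, orderOf_one] at hu2; exact absurd hu2 (by decide)
          have e3 : t ≠ u := fun e => hne (congrArg Subtype.val e).symm
          rw [Finset.card_insert_of_notMem (by simp [e1, e2]), Finset.card_insert_of_notMem (by simp [e3]),
            Finset.card_singleton]
        have := (Finset.card_le_card hsub).trans hle2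
        omega
      have hle : A ≤ Subgroup.centralizer ({((t : A) : G)} : Set G) := by
        intro a ha
        rw [Subgroup.mem_centralizer_singleton_iff]
        have := congrArg Subtype.val (htA ⟨a, ha⟩)
        simpa using (mul_inv_eq_iff_eq_mul.mp this)
      have hd := Subgroup.index_dvd_of_le hle
      rw [hA] at hd
      obtain ⟨k, -, hk⟩ := (Nat.dvd_prime_pow hp).mp hd
      refine burn _ p k hp (fun e => ?_) hk
      have ht1 : t = 1 := Subtype.ext (Subtype.ext e)
      rw [ht1, orderOf_one] at ht
      exact absurd ht (by decide)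
    · by_cases h2G : 2 ∣ Nat.card G
      · -- cyclic Sylow 2-subgroups
        let S : Sylow 2 A := default
        let φ : (S : Subgroup A) →* A ⧸ C := (QuotientGroup.mk' C).comp (S : Subgroup A).subtype
        have hφ : Function.Injective φ := by
          rw [injective_iff_map_eq_one]
          intro x hx
          have hxC : (x : A) ∈ C := (QuotientGroup.eq_one_iff (x : A)).mp hx
          obtain ⟨j, hj⟩ := S.2 x
          have h1 : orderOf (x : A) ∣ 2 ^ j :=
            orderOf_dvd_of_pow_eq_one (by simpa using congrArg Subtype.val hj)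
          have h3 : orderOf (x : A) ∣ Nat.card C := Subgroup.orderOf_dvd_natCard C hxC
          have h4 : orderOf (x : A) = 1 := Nat.eq_one_of_dvd_coprimes
            (((Nat.prime_two.coprime_iff_not_dvd).mpr h2C).pow_left j) h1 h3
          exact Subtype.ext (orderOf_eq_one_iff.mp h4)
        haveI : IsCyclic (S : Subgroup A) := isCyclic_of_injective φ hφ
        set P := (S : Subgroup A).map A.subtype with hP
        have hPp : IsPGroup 2 P := S.2.map _
        have hPi : ¬ 2 ∣ P.index := by
          rw [hP, Subgroup.index_map_subtype, hA, Nat.prime_two.dvd_mul, not_or]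
          exact ⟨S.not_dvd_index, fun e =>
            hp2 ((Nat.prime_dvd_prime_iff_eq Nat.prime_two hp).mp (Nat.prime_two.dvd_of_dvd_pow e)).symm⟩
        let Q : Sylow 2 G := hPp.toSylow hPi
        haveI hQc : IsCyclic (Q : Subgroup G) :=
          isCyclic_of_surjective (A.subtype.subgroupMap (S : Subgroup A))
            (A.subtype.subgroupMap_surjective _)
        have hmin : (Nat.card G).minFac = 2 := (Nat.minFac_eq_two_iff _).mpr h2G
        have hN : Subgroup.normalizer ((Q : Subgroup G) : Set G) ≤
            Subgroup.centralizer ((Q : Subgroup G) : Set G) :=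
          IsCyclic.normalizer_le_centralizer hmin hQc
        have hK := MonoidHom.ker_transferSylow_isComplement' Q hN
        rcases (inferInstance : (MonoidHom.transferSylow Q hN).ker.Normal).eq_bot_or_eq_top with e | e
        · have hQ2 : IsPGroup 2 G := by
            obtain ⟨n, hn⟩ := IsPGroup.iff_card.mp Q.2
            refine IsPGroup.of_card (n := n) ?_
            rw [← hK.card_mul, e, Subgroup.card_bot, one_mul, hn]
          haveI := hQ2.isNilpotent
          infer_instance
        · have h1 := hK.card_mul
          rw [e, Subgroup.card_top] at h1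
          have hQ1 : Nat.card (Q : Subgroup G) = 1 := by
            have h3 : 0 < Nat.card G := Nat.card_pos
            exact Nat.eq_of_mul_eq_mul_left h3 (by rw [h1, mul_one])
          exact absurd (Q.dvd_card_of_dvd_card h2G) (by rw [hQ1]; decide)
      · -- odd order: `A` is cyclic
        have hr0 : r = 0 := by
          by_contra hne
          refine h2G (((dvd_pow_self 2 hne).trans (hr.symm.dvd)).trans
            ((Subgroup.card_quotient_dvd_card C).trans (Subgroup.card_subgroup_dvd_card A)))
        by_cases hC1 : C = ⊥
        · have hG : Nat.card G = p ^ s := by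
            rw [← A.card_mul_index, hA, Subgroup.card_eq_card_quotient_mul_card_subgroup C, hr, hr0, hC1,
              Subgroup.card_bot, pow_zero, one_mul, one_mul]
          haveI : Fact p.Prime := ⟨hp⟩
          haveI := (IsPGroup.of_card hG).isNilpotent
          infer_instance
        · obtain ⟨x, hx, hx1⟩ := (C.bot_or_exists_ne_one).resolve_left hC1
          have hd := hdiv ⟨x, hx⟩
          rw [hr, hr0, pow_zero, one_mul] at hd
          obtain ⟨k, -, hk⟩ := (Nat.dvd_prime_pow hp).mp hd
          exact burn _ p k hp (fun e => hx1 (Subtype.ext e)) hk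

theorem isSolvable_of_cycTwo_index (n : ℕ) :
    ∀ (G : Type u) [Group G] [Finite G] (A : Subgroup G) (p s : ℕ), Nat.card G ≤ n → p.Prime →
      A.index = p ^ s → CycTwo A → Group.IsSolvable G := by
  induction n with
  | zero => intro G _ _ A p s hn; exact absurd hn (not_le.mpr Nat.card_pos)
  | succ n ih =>
  intro G _ _ A p s hn hp hA hcy
  by_cases htriv : Subsingleton G
  · infer_instance
  haveI : Nontrivial G := not_subsingleton_iff_nontrivial.mp htriv
  by_cases hs : IsSimpleGroup G
  · exact prime_card_of_cycTwo A hp hA hcy
  obtain ⟨N, hN, hN0, hN1⟩ : ∃ N : Subgroup G, N.Normal ∧ N ≠ ⊥ ∧ N ≠ ⊤ := by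
    by_contra hcon
    exact hs ⟨fun N hN => or_iff_not_imp_left.mpr fun h0 => by_contra fun h1 => hcon ⟨N, hN, h0, h1⟩⟩
  haveI := hN
  have hNn : Nat.card N ≤ n := by
    have := lt_of_le_of_ne (Subgroup.card_le_card_group N) fun e => hN1 (Subgroup.eq_top_of_card_eq N e)
    omega
  have hQn : Nat.card (G ⧸ N) ≤ n := by
    have h1 := Subgroup.card_eq_card_quotient_mul_card_subgroup N
    have h2 : 1 < Nat.card N := N.one_lt_card_iff_ne_bot.mpr hN0
    have h3 : 0 < Nat.card (G ⧸ N) := Nat.card_pos
    nlinarith
  haveI : Group.IsSolvable N := by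
    have hd : (A.subgroupOf N).index ∣ p ^ s := by
      rw [← hA]
      have h1 : A.relIndex N * N.index = N.relIndex A * A.index := by
        rw [← Subgroup.inf_relIndex_right A N, Subgroup.relIndex_mul_index (inf_le_right : A ⊓ N ≤ N),
          ← Subgroup.inf_relIndex_right N A, Subgroup.relIndex_mul_index (inf_le_right : N ⊓ A ≤ A),
          inf_comm]
      obtain ⟨c, hc⟩ := Subgroup.relIndex_dvd_index_of_normal N A
      refine ⟨c, ?_⟩
      rw [hc] at h1
      have hpos : 0 < N.relIndex A := Nat.pos_of_ne_zero Subgroup.FiniteIndex.index_ne_zero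
      show A.index = A.relIndex N * c
      exact Nat.eq_of_mul_eq_mul_left hpos (by rw [← h1]; ring)
    obtain ⟨k, -, hk⟩ := (Nat.dvd_prime_pow hp).mp hd
    refine ih N (A.subgroupOf N) p k hNn hp hk (hcy.of_injective
      ((N.subtype.comp (A.subgroupOf N).subtype).codRestrict A fun x => x.2) ?_)
    intro x y e
    exact Subtype.ext (Subtype.ext (congrArg (fun z : A => (z : G)) e))
  haveI : Group.IsSolvable (G ⧸ N) := by
    have hd := A.index_map_dvd (f := QuotientGroup.mk' N) (QuotientGroup.mk'_surjective N)
    rw [hA] at hd
    obtain ⟨k, -, hk⟩ := (Nat.dvd_prime_pow hp).mp hd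
    exact ih (G ⧸ N) (A.map (QuotientGroup.mk' N)) p k hQn hp hk
      (hcy.of_surjective ((QuotientGroup.mk' N).subgroupMap A) ((QuotientGroup.mk' N).subgroupMap_surjective A))
  exact solvable_of_ker_le_range N.subtype (QuotientGroup.mk' N)
    (by rw [QuotientGroup.ker_mk', Subgroup.range_subtype])

end H4
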