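import Cfsg.Agent.H3.SystemNormalizer
import Cfsg.Agent.H3.MinNormal

/-!
System normalizers cover central chief factors and avoid the others.
-/

set_option autoImplicit false

namespace H4

open Subgroup
open scoped Pointwise

variable {G : Type*} [Group G] [Finite G]

/-- A `p`-group normalizing a nontrivial `p`-group centralizes a nontrivial element of it. -/
theorem exists_fixed_of_pgroups {p : ℕ} [Fact p.Prime] {P B : Subgroup G} [B.Normal]
    (hP : IsPGroup p P) (hB : IsPGroup p B) (hne : B ≠ ⊥) :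
    B ⊓ centralizer (P : Set G) ≠ ⊥ := by
  letI : MulAction P B :=
    MulAction.compHom B ((MulAut.conjNormal (H := B)).comp P.subtype)
  have hsmul : ∀ (x : P) (b : B), ((x • b : B) : G) = x * b * (x : G)⁻¹ := fun x b =>
    MulAut.conjNormal_apply (x : G) b
  have hmod := hP.card_modEq_card_fixedPoints (α := B)
  have hdvd : p ∣ Nat.card B := by
    obtain ⟨k, hk⟩ := IsPGroup.iff_card.mp hB
    rw [hk]
    refine dvd_pow_self p fun h0 => hne ?_
    rw [h0, pow_zero, Subgroup.card_eq_one] at hk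
    exact hk
  have hd : p ∣ Nat.card (MulAction.fixedPoints P B) := Nat.modEq_zero_iff_dvd.mp
    (hmod.symm.trans (Nat.modEq_zero_iff_dvd.mpr hdvd))
  have h1 : (1 : B) ∈ MulAction.fixedPoints P B := fun x => Subtype.ext (by simp [hsmul])
  haveI : Nonempty (MulAction.fixedPoints P B) := ⟨⟨1, h1⟩⟩
  have hgt : 1 < Nat.card (MulAction.fixedPoints P B) :=
    (Fact.out : p.Prime).one_lt.trans_le (Nat.le_of_dvd Nat.card_pos hd)
  haveI : Nontrivial (MulAction.fixedPoints P B) := Finite.one_lt_card_iff_nontrivial.mp hgt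
  obtain ⟨⟨b, hb⟩, hb1⟩ := exists_ne (⟨1, h1⟩ : MulAction.fixedPoints P B)
  intro hbot
  have hmem : (b : G) ∈ B ⊓ centralizer (P : Set G) := by
    refine ⟨b.2, Subgroup.mem_centralizer_iff.mpr fun x hx => ?_⟩
    have := congrArg Subtype.val (hb ⟨x, hx⟩)
    rw [hsmul] at this
    exact mul_inv_eq_iff_eq_mul.mp this
  rw [hbot, Subgroup.mem_bot] at hmem
  exact hb1 (Subtype.ext (Subtype.ext hmem))

variable [Group.IsSolvable G]

/-- The system normalizer meets a non-central minimal normal subgroup trivially. -/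
theorem inf_systemNormalizer_eq_bot {K : Nat.Primes → Subgroup G}
    (hK : Cfsg.IsComplementSystem K) (B : Subgroup G) [B.Normal] (hne : B ≠ ⊥)
    (hmin : ∀ N : Subgroup G, N.Normal → N ≤ B → N = ⊥ ∨ N = B)
    (hnc : ¬ ⁅B, (⊤ : Subgroup G)⁆ ≤ ⊥) :
    B ⊓ Cfsg.systemNormalizer K = ⊥ := by
  classical
  obtain ⟨-, p, hp, -, hBp, -⟩ := H3.minNormal_elementary B hne hmin
  haveI := Fact.mk hp
  set P : Nat.Primes := ⟨p, hp⟩ with hPdef
  have hdisj : B ⊓ K P = ⊥ := by
    refine (Subgroup.disjoint_of_coprime_natCard ?_).eq_bot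
    obtain ⟨k, hk⟩ := IsPGroup.iff_card.mp hBp
    rw [hk]
    exact ((hp.coprime_iff_not_dvd).mpr (H3.cs_not_dvd hK P)).pow_left k
  -- an element of `B ∩ D` centralizes `K P`
  have hstep : B ⊓ Cfsg.systemNormalizer K ≤ B ⊓ centralizer ((K P : Subgroup G) : Set G) := by
    intro b hb
    refine ⟨hb.1, Subgroup.mem_centralizer_iff.mpr fun k hk => ?_⟩
    have hn := (H3.mem_systemNormalizer K b).mp hb.2 P
    have h1 : b * k * b⁻¹ * k⁻¹ ∈ K P :=
      mul_mem ((Subgroup.mem_normalizer_iff.mp hn k).mp hk) (inv_mem hk)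
    have h2 : b * k * b⁻¹ * k⁻¹ ∈ B := by
      have h3 : k * b⁻¹ * k⁻¹ ∈ B := (inferInstance : B.Normal).conj_mem _ (inv_mem hb.1) k
      have := mul_mem hb.1 h3
      rwa [show b * (k * b⁻¹ * k⁻¹) = b * k * b⁻¹ * k⁻¹ by group] at this
    have h4 : b * k * b⁻¹ * k⁻¹ ∈ B ⊓ K P := ⟨h2, h1⟩
    rw [hdisj, Subgroup.mem_bot] at h4
    rw [mul_inv_eq_one, mul_inv_eq_iff_eq_mul] at h4
    exact h4.symm
  set C := centralizer (B : Set G) with hC
  haveI : C.Normal := inferInstance
  have hCtop : C ≠ ⊤ := by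
    intro h
    refine hnc (le_of_eq ?_)
    rw [Subgroup.commutator_eq_bot_iff_le_centralizer]
    intro b hb
    rw [Subgroup.mem_centralizer_iff]
    intro x _
    have hx : x ∈ C := h ▸ Subgroup.mem_top x
    exact (Subgroup.mem_centralizer_iff.mp hx b hb).symm
  haveI : Nontrivial (G ⧸ C) := by
    rw [← Finite.one_lt_card_iff_nontrivial]
    exact Subgroup.one_lt_index_of_ne_top hCtop
  obtain ⟨M, hMn, hMne, hMmin⟩ := H3.exists_minNormal (G := G ⧸ C)
  haveI := hMn
  obtain ⟨-, r, hr, -, -, d, -, hMcard⟩ := H3.minNormal_elementary M hMne hMmin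
  haveI := Fact.mk hr
  set L := M.comap (QuotientGroup.mk' C) with hL
  haveI : L.Normal := inferInstance
  have hCL : C ≤ L := by
    intro x hx
    show QuotientGroup.mk' C x ∈ M
    rw [show QuotientGroup.mk' C x = 1 from (QuotientGroup.eq_one_iff x).mpr hx]
    exact one_mem M
  have hrel : C.relIndex L = r ^ d := by
    have h := Subgroup.relIndex_comap (H := (⊥ : Subgroup (G ⧸ C))) (QuotientGroup.mk' C) L
    rw [MonoidHom.comap_bot, QuotientGroup.ker_mk', hL,
      Subgroup.map_comap_eq_self_of_surjective (QuotientGroup.mk'_surjective C),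
      Subgroup.relIndex_bot_left] at h
    rw [hL, h, hMcard]
  have hfix : B ⊓ centralizer (L : Set G) = ⊥ := by
    rcases hmin _ inferInstance (inf_le_left (b := centralizer (L : Set G))) with h | h
    · exact h
    · exfalso
      refine hMne ?_
      rw [← Subgroup.map_comap_eq_self_of_surjective (QuotientGroup.mk'_surjective C) M,
        Subgroup.map_eq_bot_iff, QuotientGroup.ker_mk']
      intro x hx
      rw [hC, Subgroup.mem_centralizer_iff]
      intro b hb
      have hb' : b ∈ centralizer (L : Set G) := (h.symm.le hb).2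
      exact (Subgroup.mem_centralizer_iff.mp hb' x hx).symm
  -- if `T ≤ L` covers `L/C`, then the fixed points of `T` in `B` are those of `L`
  have hcov : ∀ T : Subgroup G, L ≤ C ⊔ T → B ⊓ centralizer (T : Set G) ≤ ⊥ := by
    intro T hT b hb
    rw [← hfix]
    refine ⟨hb.1, Subgroup.mem_centralizer_iff.mpr fun x hx => ?_⟩
    have hb2 : C ⊔ T ≤ centralizer ({b} : Set G) := by
      refine sup_le (fun c hc => ?_) (fun t ht => ?_)
      · exact Subgroup.mem_centralizer_iff.mpr fun y hy => by
          rw [Set.mem_singleton_iff.mp hy]; exact Subgroup.mem_centralizer_iff.mp hc b hb.1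
      · exact Subgroup.mem_centralizer_iff.mpr fun y hy => by
          rw [Set.mem_singleton_iff.mp hy]; exact (Subgroup.mem_centralizer_iff.mp hb.2 t ht).symm
    exact (Subgroup.mem_centralizer_iff.mp (hb2 (hT hx)) b rfl).symm
  by_cases hrp : r = p
  · exfalso
    subst hrp
    obtain ⟨S⟩ := (inferInstance : Nonempty (Sylow r L))
    set T := (S : Subgroup L).map L.subtype with hT
    have hTp : IsPGroup r T := S.2.map L.subtype
    have h1 : (C.subgroupOf L ⊔ (S : Subgroup L)).index ∣ r ^ d := by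
      rw [← hrel]; exact Subgroup.index_dvd_of_le le_sup_left
    have h2 : ¬ r ∣ (C.subgroupOf L ⊔ (S : Subgroup L)).index := fun h =>
      S.not_dvd_index (h.trans (Subgroup.index_dvd_of_le le_sup_right))
    have h3 : (C.subgroupOf L ⊔ (S : Subgroup L)) = ⊤ := by
      rw [← Subgroup.index_eq_one]
      exact Nat.eq_one_of_dvd_coprimes (((hr.coprime_iff_not_dvd).mpr h2).pow_left d) h1 dvd_rfl
    have h4 : L ≤ C ⊔ T := by
      have := congrArg (Subgroup.map L.subtype) h3
      rw [Subgroup.map_sup, Subgroup.map_subgroupOf_eq_of_le hCL, ← MonoidHom.range_eq_map,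
        Subgroup.range_subtype] at this
      exact this.ge
    exact exists_fixed_of_pgroups hTp hBp hne (le_bot_iff.mp (hcov T h4))
  · refine le_bot_iff.mp (hstep.trans (le_trans ?_ (hcov (L ⊓ K P) ?_)))
    · exact inf_le_inf_left B (Subgroup.centralizer_le (fun x hx => hx.2))
    · have h1 : (C ⊔ (L ⊓ K P)).relIndex L ∣ r ^ d := by
        rw [← hrel]; exact Subgroup.relIndex_dvd_of_le_left L le_sup_left
      have h2 : (C ⊔ (L ⊓ K P)).relIndex L ∣ (K P).index := by
        refine (Subgroup.relIndex_dvd_of_le_left L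
          (le_sup_right : L ⊓ K P ≤ C ⊔ (L ⊓ K P))).trans ?_
        rw [Subgroup.inf_relIndex_left]
        exact H3.relIndex_normal_dvd_index _ _
      rw [hK P] at h2
      rw [← Subgroup.relIndex_eq_one]
      exact Nat.eq_one_of_dvd_coprimes
        (((Nat.coprime_primes hr hp).mpr hrp).pow d _) h1 h2

end H4
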