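import Cfsg.Agent.H4.Factor

/-!
Itô: a product of two abelian subgroups is metabelian.
-/

set_option autoImplicit false

namespace H4

open commutatorElement

variable {G : Type*} [Group G] {A B : Subgroup G}

theorem ito_conj_comm [IsMulCommutative A] [IsMulCommutative B] (hAB : Factorizes A B)
    {a c b d : G} (ha : a ∈ A) (hc : c ∈ A) (hb : b ∈ B) (hd : d ∈ B) :
    (c * d) * ⁅a, b⁆ * (c * d)⁻¹ = (d * c) * ⁅a, b⁆ * (d * c)⁻¹ := by
  obtain ⟨a₂, ha₂, b₂, hb₂, e₂⟩ := hAB (d * a * d⁻¹)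
  obtain ⟨b₁, hb₁, a₁, ha₁, e₁⟩ := hAB.symm (c * b * c⁻¹)
  have cA : ∀ {x y : G}, x ∈ A → y ∈ A → x * y = y * x := fun {x y} hx hy =>
    congrArg Subtype.val (mul_comm' (⟨x, hx⟩ : A) ⟨y, hy⟩)
  have cB : ∀ {x y : G}, x ∈ B → y ∈ B → x * y = y * x := fun {x y} hx hy =>
    congrArg Subtype.val (mul_comm' (⟨x, hx⟩ : B) ⟨y, hy⟩)
  have stepd : ∀ y ∈ B, d * ⁅a, y⁆ * d⁻¹ = ⁅a₂, y⁆ := by
    intro y hy
    rw [conjugate_commutatorElement, e₂, cB hd hy, mul_inv_cancel_right,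
      commutatorElement_def, commutatorElement_def]
    rw [show a₂ * b₂ * y * (a₂ * b₂)⁻¹ * y⁻¹ = a₂ * (b₂ * y) * b₂⁻¹ * a₂⁻¹ * y⁻¹ by group,
      cB hb₂ hy]
    group
  have stepc : ∀ x ∈ A, c * ⁅x, b⁆ * c⁻¹ = ⁅x, b₁⁆ := by
    intro x hx
    rw [conjugate_commutatorElement, e₁, cA hc hx, mul_inv_cancel_right,
      commutatorElement_def, commutatorElement_def]
    rw [show x * (b₁ * a₁) * x⁻¹ * (b₁ * a₁)⁻¹ = x * b₁ * (a₁ * x⁻¹) * a₁⁻¹ * b₁⁻¹ by group,
      cA ha₁ (A.inv_mem hx)]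
    group
  calc (c * d) * ⁅a, b⁆ * (c * d)⁻¹ = c * (d * ⁅a, b⁆ * d⁻¹) * c⁻¹ := by group
    _ = ⁅a₂, b₁⁆ := by rw [stepd b hb, stepc a₂ ha₂]
    _ = d * (c * ⁅a, b⁆ * c⁻¹) * d⁻¹ := by rw [stepc a ha, stepd b₁ hb₁]
    _ = (d * c) * ⁅a, b⁆ * (d * c)⁻¹ := by group

theorem ito_commutator_commutative [IsMulCommutative A] [IsMulCommutative B]
    (hAB : Factorizes A B) : ⁅A, B⁆ ≤ Subgroup.centralizer ((⁅A, B⁆ : Subgroup G) : Set G) := by
  rw [Subgroup.commutator_le]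
  intro c hc d hd
  have key : ⁅A, B⁆ ≤ Subgroup.centralizer ({⁅c, d⁆} : Set G) := by
    rw [Subgroup.commutator_le]
    intro a ha b hb
    rw [Subgroup.mem_centralizer_singleton_iff]
    have h := ito_conj_comm hAB ha (A.inv_mem hc) hb (B.inv_mem hd)
    generalize ⁅a, b⁆ = u at h ⊢
    have e : ⁅c, d⁆ = (d⁻¹ * c⁻¹)⁻¹ * (c⁻¹ * d⁻¹) := by rw [commutatorElement_def]; group
    rw [e]
    generalize c⁻¹ * d⁻¹ = P at h ⊢
    generalize d⁻¹ * c⁻¹ = Q at h ⊢
    calc u * (Q⁻¹ * P) = Q⁻¹ * (Q * u * Q⁻¹) * P := by group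
      _ = Q⁻¹ * (P * u * P⁻¹) * P := by rw [h]
      _ = Q⁻¹ * P * u := by group
  rw [Subgroup.mem_centralizer_iff]
  exact fun x hx => Subgroup.mem_centralizer_singleton_iff.mp (key hx)

theorem commutator_le_of_factorizes [IsMulCommutative A] [IsMulCommutative B]
    (hAB : Factorizes A B) : commutator G ≤ ⁅A, B⁆ := by
  have htop : A ⊔ B = ⊤ := by
    rw [eq_top_iff]
    intro g _
    obtain ⟨a, ha, b, hb, rfl⟩ := hAB g
    exact Subgroup.mul_mem_sup ha hb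
  haveI : (⁅A, B⁆).Normal := by
    rw [← Subgroup.normalizer_eq_top_iff, eq_top_iff, ← htop]
    exact sup_le (Subgroup.normalizer_commutator_ge_left A B)
      (Subgroup.normalizer_commutator_ge_right A B)
  set π := QuotientGroup.mk' ⁅A, B⁆
  haveI : IsMulCommutative (G ⧸ ⁅A, B⁆) := by
    refine ⟨⟨fun x y => ?_⟩⟩
    obtain ⟨g, rfl⟩ := QuotientGroup.mk'_surjective _ x
    obtain ⟨h, rfl⟩ := QuotientGroup.mk'_surjective _ y
    obtain ⟨a, ha, b, hb, rfl⟩ := hAB g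
    obtain ⟨c, hc, d, hd, rfl⟩ := hAB h
    have hc1 : ∀ {u v : G}, u ∈ A → v ∈ B → Commute (π u) (π v) := fun {u v} hu hv => by
      rw [← commutatorElement_eq_one_iff_commute, ← map_commutatorElement]
      exact (QuotientGroup.eq_one_iff _).mpr (Subgroup.commutator_mem_commutator hu hv)
    have hA : Commute (π a) (π c) := by
      have := congrArg (fun u : A => π (u : G)) (mul_comm' (⟨a, ha⟩ : A) ⟨c, hc⟩)
      simpa [Commute, SemiconjBy] using this
    have hB : Commute (π b) (π d) := by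
      have := congrArg (fun u : B => π (u : G)) (mul_comm' (⟨b, hb⟩ : B) ⟨d, hd⟩)
      simpa [Commute, SemiconjBy] using this
    simp only [map_mul]
    exact (((hA.mul_right (hc1 ha hd))).mul_left ((hc1 hc hb).symm.mul_right hB)).eq
  exact Subgroup.Normal.quotient_commutative_iff_commutator_le.mp inferInstance

/-- Itô's theorem. -/
theorem ito_derivedSeries_two [IsMulCommutative A] [IsMulCommutative B]
    (hAB : Factorizes A B) : derivedSeries G 2 = ⊥ := by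
  show ⁅commutator G, commutator G⁆ = ⊥
  rw [Subgroup.commutator_eq_bot_iff_le_centralizer]
  exact (commutator_le_of_factorizes hAB).trans
    ((ito_commutator_commutative hAB).trans (Subgroup.centralizer_le (commutator_le_of_factorizes hAB)))

end H4
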