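import Cfsg.Agent.H4.KegelWielandt
import Cfsg.Agent.H4.SystemCover
import Cfsg.Agent.S0572

/-!
The derived length of a product of an abelian and a nilpotent subgroup.
-/

set_option autoImplicit false

namespace H4

open Subgroup
open scoped Pointwise commutatorElement

universe u

variable {G : Type u} [Group G]

/-- If `G = A B` is solvable, `A` abelian, `B` nilpotent and `G = ⟨A, B'⟩`, then `B` is abelian. -/
theorem commutator_eq_bot_of_sup_eq_top [Finite G] [Group.IsSolvable G] {A B : Subgroup G}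
    [IsMulCommutative A] (hB : Group.IsNilpotent B) (htop : A ⊔ ⁅B, B⁆ = ⊤) : ⁅B, B⁆ = ⊥ := by
  by_contra hne
  set L := normalClosure ((⁅B, B⁆ : Subgroup G) : Set G) with hL
  haveI : L.Normal := normalClosure_normal
  have hBL : ⁅B, B⁆ ≤ L := le_normalClosure
  obtain ⟨R, hR⟩ := (Set.toFinite {R : Subgroup G | R.Normal ∧ R < L}).exists_maximal
    ⟨⊥, inferInstance, bot_lt_iff_ne_bot.mpr fun h => hne (le_bot_iff.mp (h ▸ hBL))⟩
  obtain ⟨hRn, hRL⟩ := hR.1
  haveI := hRn
  set q := QuotientGroup.mk' R with hq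
  have hsurj := QuotientGroup.mk'_surjective R
  set L' := L.map q with hL'
  haveI : L'.Normal := Subgroup.Normal.map inferInstance q hsurj
  set A' := A.map q with hA'
  set B' := B.map q with hB'
  have hcomapL : L'.comap q = L := by
    rw [hL', Subgroup.comap_map_eq, QuotientGroup.ker_mk', sup_eq_left.mpr hRL.le]
  have hne' : L' ≠ ⊥ := by
    intro h
    rw [hL', Subgroup.map_eq_bot_iff, QuotientGroup.ker_mk'] at h
    exact hRL.not_ge h
  have hmin : ∀ N : Subgroup (G ⧸ R), N.Normal → N ≤ L' → N = ⊥ ∨ N = L' := by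
    intro N hN hle
    haveI := hN
    rw [← Subgroup.map_comap_eq_self_of_surjective hsurj N]
    rcases (hcomapL ▸ Subgroup.comap_mono hle : N.comap q ≤ L).eq_or_lt with h | h
    · right; rw [h]
    · left
      have : N.comap q ≤ R := hR.2 ⟨inferInstance, h⟩ (QuotientGroup.le_comap_mk' R N)
      rw [Subgroup.map_eq_bot_iff, QuotientGroup.ker_mk']
      exact this
  have hBne : ⁅B', B'⁆ ≠ ⊥ := by
    intro h
    rw [← Subgroup.map_commutator, Subgroup.map_eq_bot_iff, QuotientGroup.ker_mk'] at h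
    exact hRL.not_ge (normalClosure_le_normal h)
  have hBL' : ⁅B', B'⁆ ≤ L' := by
    rw [← Subgroup.map_commutator]; exact Subgroup.map_mono hBL
  haveI : IsMulCommutative A' := ⟨⟨by
    rintro ⟨_, a, ha, rfl⟩ ⟨_, b, hb, rfl⟩
    refine Subtype.ext ?_
    show q a * q b = q b * q a
    rw [← map_mul, ← map_mul]
    congr 1
    exact setLike_mul_comm ha hb⟩⟩
  have hAL : A' ⊔ L' = ⊤ := by
    rw [← Subgroup.map_sup, eq_top_iff, ← Subgroup.map_top_of_surjective q hsurj, ← htop]
    exact Subgroup.map_mono (sup_le_sup_left hBL _)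
  obtain ⟨hLc, p, hp, -, hLp, -⟩ := H3.minNormal_elementary L' hne' hmin
  haveI := Fact.mk hp
  haveI := hLc
  set C := centralizer (L' : Set (G ⧸ R)) with hC
  haveI : C.Normal := inferInstance
  have hLC : L' ≤ C := fun x hx => Subgroup.mem_centralizer_iff.mpr fun y hy =>
    setLike_mul_comm hy hx
  have hdec : ∀ g : G ⧸ R, ∃ a ∈ A', ∃ l ∈ L', a * l = g := fun g =>
    Subgroup.mem_sup_of_normal_right.mp (hAL ▸ Subgroup.mem_top g)
  have hCab : ∀ x ∈ C, ∀ y ∈ C, x * y = y * x := by
    have hmem : ∀ a ∈ A', ∀ l ∈ L', a * l ∈ C → a ∈ C := fun a _ l hl h => by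
      have := mul_mem h (inv_mem (hLC hl))
      rwa [mul_inv_cancel_right] at this
    intro x hx y hy
    obtain ⟨a, ha, l, hl, rfl⟩ := hdec x
    obtain ⟨c, hc, m, hm, rfl⟩ := hdec y
    have haC := hmem a ha l hl hx
    have hcC := hmem c hc m hm hy
    have e1 : Commute l c := Subgroup.mem_centralizer_iff.mp hcC l hl
    have e2 : Commute a c := setLike_mul_comm ha hc
    have e3 : Commute l m := setLike_mul_comm hl hm
    have e4 : Commute a m := (Subgroup.mem_centralizer_iff.mp haC m hm).symm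
    exact ((e2.mul_right e4).mul_left (e1.mul_right e3)).eq
  have hquotab : ∀ x g : G ⧸ R, g * x * g⁻¹ * x⁻¹ ∈ C := by
    intro x g
    have hcomm : ∀ u v : (G ⧸ R) ⧸ C, u * v = v * u := by
      intro u v
      obtain ⟨u, rfl⟩ := QuotientGroup.mk'_surjective C u
      obtain ⟨v, rfl⟩ := QuotientGroup.mk'_surjective C v
      obtain ⟨a, ha, l, hl, rfl⟩ := hdec u
      obtain ⟨c, hc, m, hm, rfl⟩ := hdec v
      have h1 : ∀ w ∈ L', QuotientGroup.mk' C w = 1 := fun w hw =>
        (QuotientGroup.eq_one_iff w).mpr (hLC hw)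
      rw [map_mul, map_mul, h1 l hl, h1 m hm, mul_one, mul_one, ← map_mul, ← map_mul,
        setLike_mul_comm ha hc]
    apply (QuotientGroup.eq_one_iff _).mp
    show QuotientGroup.mk' C (g * x * g⁻¹ * x⁻¹) = 1
    rw [map_mul, map_mul, map_mul, map_inv, map_inv,
      hcomm (QuotientGroup.mk' C g) (QuotientGroup.mk' C x), mul_inv_cancel_right, mul_inv_cancel]
  -- an element with a nontrivial fixed point in `L'` centralises `L'`
  have hfix : ∀ x : G ⧸ R, L' ⊓ centralizer ({x} : Set (G ⧸ R)) ≠ ⊥ → x ∈ C := by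
    intro x hx
    have hn : (L' ⊓ centralizer ({x} : Set (G ⧸ R))).Normal := by
      refine ⟨fun u hu g => ⟨(inferInstance : L'.Normal).conj_mem u hu.1 g,
        Subgroup.mem_centralizer_iff.mpr fun y hy => ?_⟩⟩
      rw [Set.mem_singleton_iff.mp hy]
      have h2 := (inferInstance : L'.Normal).conj_mem u hu.1 g
      have h3 := Subgroup.mem_centralizer_iff.mp (hquotab x g) _ h2
      have h4 := Subgroup.mem_centralizer_iff.mp hu.2 x rfl
      -- `x = c⁻¹ (g x g⁻¹)` with `c ∈ C`
      have e : x = (g * x * g⁻¹ * x⁻¹)⁻¹ * (g * x * g⁻¹) := by group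
      have h5 : g * x * g⁻¹ * (g * u * g⁻¹) = g * u * g⁻¹ * (g * x * g⁻¹) := by
        calc g * x * g⁻¹ * (g * u * g⁻¹) = g * (x * u) * g⁻¹ := by group
          _ = g * (u * x) * g⁻¹ := by rw [h4]
          _ = g * u * g⁻¹ * (g * x * g⁻¹) := by group
      have h6 : Commute ((g * x * g⁻¹ * x⁻¹)⁻¹ * (g * x * g⁻¹)) (g * u * g⁻¹) :=
        (Commute.inv_left (Commute.symm h3)).mul_left h5
      rw [← e] at h6
      exact h6.eq
    rcases hmin _ hn inf_le_left with h | h
    · exact absurd h hx
    · rw [hC, Subgroup.mem_centralizer_iff]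
      exact fun u hu => (Subgroup.mem_centralizer_iff.mp (h.symm.le hu).2 x rfl).symm
  have hpelt : ∀ x : G ⧸ R, (∃ k, orderOf x = p ^ k) → x ∈ C := by
    intro x ⟨k, hk⟩
    refine hfix x fun h => exists_fixed_of_pgroups (isPGroup_zpowers hk) hLp hne' ?_
    rw [← le_bot_iff, ← h]
    exact inf_le_inf_left _ (Subgroup.centralizer_le (Set.singleton_subset_iff.mpr (mem_zpowers x)))
  obtain ⟨y, hy, hy1⟩ := ((⁅B', B'⁆).bot_or_exists_ne_one).resolve_left hBne
  have hyB : y ∈ B' := Subgroup.commutator_le_self B' hy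
  have hBnil : Group.IsNilpotent B' := nilpotent_map_subgroup hB q
  obtain ⟨k, hk⟩ := exists_orderOf_eq_pow hLp (hBL' hy)
  have hBC : B' ≤ C := by
    intro b hb
    obtain ⟨e, m, hm, hbo⟩ := Nat.exists_eq_pow_mul_and_not_dvd (orderOf_pos b).ne' p hp.ne_one
    have hm1 : b ^ (p ^ e) ∈ C := by
      refine hfix _ fun h => hy1 ?_
      rw [← Subgroup.mem_bot, ← h]
      refine ⟨hBL' hy, Subgroup.mem_centralizer_iff.mpr fun u hu => ?_⟩
      rw [Set.mem_singleton_iff.mp hu]
      refine (commute_of_mem_nilpotent hBnil hyB (pow_mem hb _) ⟨k, hk⟩ ?_).symm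
      rw [orderOf_pow_of_dvd (pow_ne_zero e hp.ne_zero) (hbo ▸ dvd_mul_right _ _), hbo,
        Nat.mul_div_cancel_left _ (pow_pos hp.pos e)]
      exact hm
    have hm2 : b ^ m ∈ C := by
      refine hpelt _ ⟨e, ?_⟩
      rw [orderOf_pow_of_dvd (fun h0 => hm (by rw [h0]; exact dvd_zero p)) (hbo ▸ dvd_mul_left _ _), hbo,
        Nat.mul_div_cancel _ (Nat.pos_of_ne_zero fun h0 => hm (by rw [h0]; exact dvd_zero p))]
    have hcop : (p ^ e).Coprime m := ((hp.coprime_iff_not_dvd).mpr hm).pow_left e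
    have hb1 : b = (b ^ (p ^ e)) ^ (Nat.gcdA (p ^ e) m) * (b ^ m) ^ (Nat.gcdB (p ^ e) m) := by
      rw [← zpow_natCast b (p ^ e), ← zpow_natCast b m, ← zpow_mul, ← zpow_mul, ← zpow_add,
        ← Nat.gcd_eq_gcd_ab, hcop.gcd_eq_one, Nat.cast_one, zpow_one]
    rw [hb1]
    exact mul_mem (zpow_mem hm1 _) (zpow_mem hm2 _)
  refine hBne ?_
  rw [Subgroup.commutator_eq_bot_iff_le_centralizer]
  exact fun b hb => Subgroup.mem_centralizer_iff.mpr fun c hc => hCab c (hBC hc) b (hBC hb)

theorem primeFactorsList_length_lt {a b : ℕ} (hb : b ≠ 0) (hab : a ∣ b) (hne : a ≠ b) :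
    a.primeFactorsList.length < b.primeFactorsList.length := by
  obtain ⟨k, rfl⟩ := hab
  have ha : a ≠ 0 := left_ne_zero_of_mul hb
  have hk : k ≠ 0 := right_ne_zero_of_mul hb
  have hk1 : k ≠ 1 := fun h => hne (by rw [h, mul_one])
  rw [(Nat.perm_primeFactorsList_mul ha hk).length_eq, List.length_append]
  have : k.primeFactorsList ≠ [] := fun h => by
    rcases (Nat.primeFactorsList_eq_nil k).mp h with h | h
    exacts [hk h, hk1 h]
  exact Nat.lt_add_of_pos_right (List.length_pos_iff.mpr this)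

theorem derivedSeries_product_aux (n : ℕ) : ∀ (G : Type u) [Group G] [Finite G],
    Nat.card G = n → ∀ A B : Subgroup G, IsMulCommutative A → Group.IsNilpotent B →
    Factorizes A B →
    derivedSeries G (2 * (1 + (Nat.card ↥⁅B, B⁆).primeFactorsList.length)) = ⊥ := by
  induction n using Nat.strong_induction_on with
  | _ n ih =>
  intro G _ _ hn A B hAc hB hf
  haveI := hAc
  by_cases hB0 : ⁅B, B⁆ = ⊥
  · haveI : IsMulCommutative B := ⟨⟨fun x y => Subtype.ext (by
      have := Subgroup.commutator_mem_commutator x.2 y.2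
      rw [hB0, Subgroup.mem_bot, commutatorElement_eq_one_iff_mul_comm] at this
      exact this)⟩⟩
    exact le_bot_iff.mp ((derivedSeries_antitone G (Nat.le_mul_of_pos_right 2 (by omega))).trans
      (Cfsg.Agent.S0572.result A B hf).le)
  haveI : Group.IsSolvable G := isSolvable_of_nilpotent_factors A B
    ((Subgroup.isNilpotent_iff_lowerCentralSeries A).mpr ⟨1, by
      rw [Subgroup.lowerCentralSeries_succ, Subgroup.lowerCentralSeries_zero,
        Subgroup.commutator_eq_bot_iff_le_centralizer]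
      exact fun x hx => Subgroup.mem_centralizer_iff.mpr fun y hy => setLike_mul_comm hy hx⟩) hB hf
  set X := A ⊔ ⁅B, B⁆ with hX
  set D := X ⊓ B with hD
  set L := normalClosure ((⁅B, B⁆ : Subgroup G) : Set G) with hL
  haveI : L.Normal := normalClosure_normal
  have hBB : B ≤ normalizer ((⁅B, B⁆ : Subgroup G) : Set G) :=
    Subgroup.normalizer_commutator_ge_right B B
  have hLX : L ≤ X := by
    rw [hL, normalClosure, closure_le]
    intro y hy
    obtain ⟨x, hx, hxy⟩ := Group.mem_conjugatesOfSet_iff.mp hy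
    obtain ⟨g, rfl⟩ := isConj_iff.mp hxy
    obtain ⟨a, ha, b, hb, rfl⟩ := hf g
    rw [show a * b * x * (a * b)⁻¹ = a * (b * x * b⁻¹) * a⁻¹ by group]
    exact X.mul_mem (X.mul_mem (Subgroup.mem_sup_left ha) (Subgroup.mem_sup_right
      ((Subgroup.mem_normalizer_iff.mp (hBB hb) x).mp hx))) (X.inv_mem (Subgroup.mem_sup_left ha))
  have hXne : X ≠ ⊤ := fun h => hB0 (commutator_eq_bot_of_sup_eq_top hB h)
  have hlt : Nat.card X < n := hn ▸ lt_of_le_of_ne (Subgroup.card_le_card_group X)
    (fun e => hXne (X.eq_top_of_card_eq e))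
  have hfX : Factorizes (A.subgroupOf X) (B.subgroupOf X) := by
    intro g
    obtain ⟨a, ha, b, hb, e⟩ := hf g
    have haX : a ∈ X := Subgroup.mem_sup_left ha
    have hbX : b ∈ X := by
      have := X.mul_mem (X.inv_mem haX) g.2
      rwa [e, inv_mul_cancel_left] at this
    exact ⟨⟨a, haX⟩, ha, ⟨b, hbX⟩, hb, Subtype.ext e⟩
  haveI : IsMulCommutative (A.subgroupOf X) :=
    ⟨⟨fun x y => Subtype.ext (Subtype.ext (setLike_mul_comm (S := Subgroup G) (s := A) x.2 y.2))⟩⟩
  have hnilD := H1.isNilpotent_comap_subtype hB X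
  have hIH := ih _ hlt X rfl (A.subgroupOf X) (B.subgroupOf X) inferInstance hnilD hfX
  -- `D' < B'`
  set E := (⁅B.subgroupOf X, B.subgroupOf X⁆).map X.subtype with hE
  have hEle : E ≤ ⁅B, B⁆ := by
    rw [hE, Subgroup.map_commutator]
    exact Subgroup.commutator_mono
      (by rw [Subgroup.subgroupOf_map_subtype]; exact inf_le_left)
      (by rw [Subgroup.subgroupOf_map_subtype]; exact inf_le_left)
  have hEne : E ≠ ⁅B, B⁆ := by
    intro h
    refine hB0 ?_
    have htop : A.subgroupOf X ⊔ ⁅B.subgroupOf X, B.subgroupOf X⁆ = ⊤ := by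
      apply Subgroup.map_injective X.subtype_injective
      rw [Subgroup.map_sup, Subgroup.map_subgroupOf_eq_of_le (le_sup_left : A ≤ X),
        ← MonoidHom.range_eq_map, Subgroup.range_subtype, ← hE, h]
    rw [← h, hE, commutator_eq_bot_of_sup_eq_top hnilD htop, Subgroup.map_bot]
  have hlen : (Nat.card ↥⁅B.subgroupOf X, B.subgroupOf X⁆).primeFactorsList.length <
      (Nat.card ↥⁅B, B⁆).primeFactorsList.length := by
    rw [show Nat.card ↥⁅B.subgroupOf X, B.subgroupOf X⁆ = Nat.card E from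
      (Subgroup.card_map_of_injective X.subtype_injective).symm]
    exact primeFactorsList_length_lt Nat.card_pos.ne' (Subgroup.card_dvd_of_le hEle)
      fun h => hEne (Subgroup.eq_of_le_of_card_ge hEle h.ge)
  -- the second derived subgroup lies in `L`
  have h2 : derivedSeries G 2 ≤ L := by
    set q := QuotientGroup.mk' L with hq
    haveI : IsMulCommutative (A.map q) := ⟨⟨by
      rintro ⟨_, a, ha, rfl⟩ ⟨_, b, hb, rfl⟩
      refine Subtype.ext ?_
      show q a * q b = q b * q a
      rw [← map_mul, ← map_mul, setLike_mul_comm ha hb]⟩⟩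
    haveI : IsMulCommutative (B.map q) := ⟨⟨by
      rintro ⟨_, a, ha, rfl⟩ ⟨_, b, hb, rfl⟩
      refine Subtype.ext ?_
      show q a * q b = q b * q a
      rw [← commutatorElement_eq_one_iff_mul_comm, ← map_commutatorElement]
      exact (QuotientGroup.eq_one_iff _).mpr
        (le_normalClosure (Subgroup.commutator_mem_commutator ha hb))⟩⟩
    have h := Cfsg.Agent.S0572.result (A.map q) (B.map q)
      (factorizes_map hf q (QuotientGroup.mk'_surjective L))
    rw [← map_derivedSeries_eq (QuotientGroup.mk'_surjective L), Subgroup.map_eq_bot_iff,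
      QuotientGroup.ker_mk'] at h
    exact h
  have hstep : ∀ k, derivedSeries G (2 + k) ≤ (derivedSeries X k).map X.subtype := by
    intro k
    induction k with
    | zero =>
      rw [derivedSeries_zero, ← MonoidHom.range_eq_map, Subgroup.range_subtype]
      exact h2.trans hLX
    | succ k ihk =>
      rw [← add_assoc, derivedSeries_succ, derivedSeries_succ, Subgroup.map_commutator]
      exact Subgroup.commutator_mono ihk ihk
  have h3 := hstep (2 * (1 + (Nat.card ↥⁅B.subgroupOf X, B.subgroupOf X⁆).primeFactorsList.length))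
  rw [hIH, Subgroup.map_bot, le_bot_iff] at h3
  exact le_bot_iff.mp ((derivedSeries_antitone G (by omega)).trans h3.le)

/-- The derived length of a finite product of an abelian and a nilpotent subgroup. -/
theorem derivedSeries_product_eq_bot [Finite G] (A B : Subgroup G) [hA : IsMulCommutative A]
    (hB : Group.IsNilpotent B) (hf : Factorizes A B) :
    derivedSeries G (2 * (1 + (Nat.card ↥⁅B, B⁆).primeFactorsList.length)) = ⊥ :=
  derivedSeries_product_aux _ G rfl A B hA hB hf

end H4
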