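import Cfsg.Agent.H2.FrobeniusBasic

/-!
In a Frobenius group every subgroup whose order divides that of the complement is conjugate into
the complement.
-/

set_option autoImplicit false

namespace H4

open Pointwise

variable {G : Type*} [Group G] [Finite G] {H : Subgroup G}

theorem exists_conj_mem_of_orderOf_dvd (hH : Cfsg.IsFrobeniusComplement H) {x : G}
    (hx : orderOf x ∣ Nat.card H) : ∃ g : G, x ∈ MulAut.conj g • H := by
  by_cases hx1 : x = 1
  · exact ⟨1, by rw [hx1]; exact Subgroup.one_mem _⟩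
  obtain ⟨p, hp, hpd⟩ := Nat.exists_prime_and_dvd (mt orderOf_eq_one_iff.mp hx1)
  haveI := Fact.mk hp
  set y := x ^ (orderOf x / p)
  have hy : orderOf y = p := orderOf_pow_orderOf_div (orderOf_pos x).ne' hpd
  -- a Sylow `p`-subgroup of `H` is one of `G`
  obtain ⟨P⟩ := (inferInstance : Nonempty (Sylow p H))
  have hyg : IsPGroup p (Subgroup.zpowers y) := by
    refine IsPGroup.of_card_dvd_pow (n := 1) ?_
    rw [Nat.card_zpowers, hy, pow_one]
  obtain ⟨S, hS⟩ := hyg.exists_le_sylow
  obtain ⟨T, hT⟩ := (P.2.map H.subtype).exists_le_sylow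
  have hTH : (T : Subgroup G) = (P : Subgroup H).map H.subtype := by
    refine (Subgroup.eq_of_le_of_card_ge hT ?_).symm
    rw [Subgroup.card_map_of_injective H.subtype_injective]
    refine Nat.le_of_dvd Nat.card_pos ?_
    have h1 : Nat.card (T : Subgroup G) ∣ Nat.card H * H.index :=
      H.card_mul_index.symm ▸ Subgroup.card_subgroup_dvd_card _
    have h2 : Nat.Coprime (Nat.card (T : Subgroup G)) H.index := by
      rw [T.card_eq_multiplicity]
      exact ((H2.coprime_card_index hH).coprime_dvd_left (hpd.trans hx)).pow_left _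
    obtain ⟨k, hk⟩ := IsPGroup.iff_card.mp T.2
    rw [hk] at h1 h2 ⊢
    exact P.pow_dvd_card_of_pow_dvd_card (h2.dvd_of_dvd_mul_right h1)
  obtain ⟨g, hg⟩ := MulAction.exists_smul_eq G T S
  refine ⟨g, ?_⟩
  have hyH : g⁻¹ * y * g ∈ H := by
    have : y ∈ (S : Subgroup G) := hS (Subgroup.mem_zpowers y)
    rw [← hg, Sylow.coe_subgroup_smul, H2.mem_conj_smul, hTH] at this
    exact Subgroup.map_subtype_le _ this
  rw [H2.mem_conj_smul]
  refine H2.mem_of_commute hH hyH ?_ ?_
  · intro h1
    have : y = 1 := by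
      have := congrArg (fun z => g * z * g⁻¹) h1
      simpa [mul_assoc] using this
    rw [this, orderOf_one] at hy
    exact hp.ne_one hy.symm
  · show g⁻¹ * x * g * (g⁻¹ * y * g) = g⁻¹ * y * g * (g⁻¹ * x * g)
    have : x * y = y * x := (Commute.self_pow x _).eq
    calc g⁻¹ * x * g * (g⁻¹ * y * g) = g⁻¹ * (x * y) * g := by group
      _ = g⁻¹ * (y * x) * g := by rw [this]
      _ = _ := by group

theorem exists_conj_le_of_card_dvd (hH : Cfsg.IsFrobeniusComplement H) (L : Subgroup G)
    (hL : Nat.card L ∣ Nat.card H) : ∃ x : G, L ≤ MulAut.conj x • H := by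
  classical
  by_contra hcon
  push Not at hcon
  have hcov : ∀ x : L, ∃ g : G, (x : G) ∈ MulAut.conj g • H := fun x =>
    exists_conj_mem_of_orderOf_dvd hH ((Subgroup.orderOf_coe x).dvd.trans
      ((orderOf_dvd_natCard x).trans hL))
  -- the traces of the conjugates on `L` are Frobenius complements of `L`
  have hfro : ∀ g : G, (MulAut.conj g • H).subgroupOf L ≠ ⊥ →
      Cfsg.IsFrobeniusComplement ((MulAut.conj g • H).subgroupOf L) := by
    intro g hne
    refine ⟨hne, fun ht => hcon g (Subgroup.subgroupOf_eq_top.mp ht), fun l hl => ?_⟩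
    rw [Subgroup.eq_bot_iff_forall]
    intro x hx
    by_contra hx1
    apply hl
    rw [Subgroup.mem_inf, H2.mem_conj_smul, Subgroup.mem_subgroupOf, Subgroup.mem_subgroupOf] at hx
    obtain ⟨hxa, hxb⟩ := hx
    rw [H2.mem_conj_smul] at hxa hxb
    rw [Subgroup.mem_subgroupOf, H2.mem_conj_smul]
    simp only [Subgroup.coe_mul, Subgroup.coe_inv] at hxb
    refine H2.mem_of_conj_mem' hH hxb ?_ ?_
    · intro h1
      apply hx1
      apply Subtype.ext
      have := congrArg (fun z => (l : G) * g * z * g⁻¹ * (l : G)⁻¹) h1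
      simpa [mul_assoc] using this
    · convert hxa using 1
      group
  haveI : Nontrivial L := by
    by_contra hs
    rw [not_nontrivial_iff_subsingleton] at hs
    exact hcon 1 (fun x hx => by
      have : (⟨x, hx⟩ : L) = 1 := Subsingleton.elim _ _
      rw [show x = 1 from congrArg Subtype.val this]; exact Subgroup.one_mem _)
  obtain ⟨x₁, hx₁⟩ := exists_ne (1 : L)
  obtain ⟨g₁, hg₁⟩ := hcov x₁
  set L₁ := (MulAut.conj g₁ • H).subgroupOf L
  have hL₁ : L₁ ≠ ⊥ := fun h => hx₁ (Subgroup.mem_bot.mp (h ▸ (hg₁ : x₁ ∈ L₁)))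
  -- something is left outside the conjugates of `L₁`
  have hk₁ : Nat.card (Cfsg.frobeniusKernel L₁) = L₁.index := H2.card_frobeniusKernel (hfro g₁ hL₁)
  have hker : (Cfsg.frobeniusKernel L₁ \ {1}).Nonempty := by
    by_contra hne
    rw [Set.not_nonempty_iff_eq_empty, Set.sdiff_eq_empty] at hne
    have h1 : Nat.card (Cfsg.frobeniusKernel L₁) ≤ 1 := by
      refine (Nat.card_mono (Set.finite_singleton _) hne).trans ?_
      simp
    have h2 : 1 < L₁.index := H2.one_lt_index_of_ne_top (hfro g₁ hL₁).2.1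
    omega
  obtain ⟨x₂, hx₂, hx₂1⟩ := hker
  rcases hx₂ with h1 | hx₂
  · exact hx₂1 h1
  obtain ⟨g₂, hg₂⟩ := hcov x₂
  set L₂ := (MulAut.conj g₂ • H).subgroupOf L
  have hL₂ : L₂ ≠ ⊥ := fun h => hx₂1 (Subgroup.mem_bot.mp (h ▸ (hg₂ : x₂ ∈ L₂)))
  have hk₂ : Nat.card (Cfsg.frobeniusKernel L₂) = L₂.index := H2.card_frobeniusKernel (hfro g₂ hL₂)
  -- the two families of conjugates have only the identity in common
  have hunion : Cfsg.frobeniusKernel L₁ ∪ Cfsg.frobeniusKernel L₂ = Set.univ := by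
    rw [Set.eq_univ_iff_forall]
    intro z
    by_contra hz
    simp only [Set.mem_union, Cfsg.frobeniusKernel, Set.mem_setOf_eq, not_or, not_forall,
      not_not] at hz
    obtain ⟨⟨hz1, a, ha⟩, -, b, hb⟩ := hz
    rw [H2.mem_conj_smul, Subgroup.mem_subgroupOf] at ha hb
    simp only [Subgroup.coe_mul, Subgroup.coe_inv] at ha hb
    have hza : (z : G) ∈ MulAut.conj ((a : G) * g₁) • H := by
      rw [H2.mem_conj_smul] at ha ⊢; convert ha using 1; group
    have hzb : (z : G) ∈ MulAut.conj ((b : G) * g₂) • H := by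
      rw [H2.mem_conj_smul] at hb ⊢; convert hb using 1; group
    have heq := H2.conj_smul_eq_of_mem hH (fun h => hz1 (Subtype.ext h)) hza hzb
    apply hx₂ (b⁻¹ * a)
    rw [H2.mem_conj_smul, Subgroup.mem_subgroupOf]
    simp only [Subgroup.coe_mul, Subgroup.coe_inv]
    rw [H2.mem_conj_smul] at hg₂ ⊢
    set k := ((a : G) * g₁)⁻¹ * ((b : G) * g₂) with hk
    have := H.mul_mem (H.mul_mem heq hg₂) (H.inv_mem heq)
    convert this using 1
    simp only [hk]
    group
  have hlt : L₁.index + L₂.index < Nat.card L + 1 := by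
    have a1 := L₁.card_mul_index
    have a2 := L₂.card_mul_index
    have b1 := (Subgroup.one_lt_card_iff_ne_bot L₁).mpr hL₁
    have b2 := (Subgroup.one_lt_card_iff_ne_bot L₂).mpr hL₂
    nlinarith [Nat.zero_le L₁.index, Nat.zero_le L₂.index]
  -- the common identity makes the bound strict
  have hinter : 1 ∈ Cfsg.frobeniusKernel L₁ ∩ Cfsg.frobeniusKernel L₂ := ⟨Or.inl rfl, Or.inl rfl⟩
  have hstrict : Nat.card L + 1 ≤ L₁.index + L₂.index := by
    rw [← hk₁, ← hk₂, ← Nat.card_univ (α := L), ← hunion,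
      Nat.card_coe_set_eq, Nat.card_coe_set_eq, Nat.card_coe_set_eq,
      ← Set.ncard_union_add_ncard_inter _ _]
    have : 0 < (Cfsg.frobeniusKernel L₁ ∩ Cfsg.frobeniusKernel L₂).ncard :=
      (Set.ncard_pos).mpr ⟨1, hinter⟩
    omega
  omega

end H4
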