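import Cfsg.Agent.H62.CyclicBlock
import Cfsg.Agent.H62.InvertCount
import Cfsg.Agent.H62.Basic
import Cfsg.Agent.H65.InvolutionThird

/-!
Character tools for the groups of order `6048` and `12096`: values at elements of order three and
divisibility of class algebra constants.
-/

set_option autoImplicit false
set_option linter.unusedSectionVars false

open Cfsg
open scoped ComplexConjugate

namespace H4.G2Order

universe u

variable {G : Type u} [Group G] [Fintype G]

/-- The value of a nontrivial irreducible character of a simple group at an element of order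
three. -/
theorem exists_three_counts [IsSimpleGroup G] (hna : Subgroup.center G ≠ ⊤) {χ : IrrCharacter G}
    (hχ : χ ≠ H12.oneIrr G) {g : G} (hg : orderOf g = 3) {ω : ℂ} (hω : IsPrimitiveRoot ω 3) :
    ∃ a b c : ℕ, a + b + c = H12.degree (χ : G → ℂ) ∧ 3 ∣ b + 2 * c ∧
      a ≠ H12.degree (χ : G → ℂ) ∧ b ≠ H12.degree (χ : G → ℂ) ∧ c ≠ H12.degree (χ : G → ℂ) ∧
      (χ : G → ℂ) g = a + b * ω + c * ω ^ 2 := by
  classical
  obtain ⟨n, ρ, hirr, hρ⟩ := χ.2
  have hg1 : g ≠ 1 := fun h => by rw [h, orderOf_one] at hg; omega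
  have hdeg : H12.degree (χ : G → ℂ) = n := by
    rw [← hρ, H12.degree_character, Module.finrank_fin_fun]
  have hker : ρ.ker = ⊥ := by
    refine ((MonoidHom.normal_ker ρ).eq_bot_or_eq_top).resolve_right fun htop => hχ ?_
    refine H62.irr_eq_one_of_apply_eq_degree χ hg1 ?_
    rw [← hρ, H12.degree_character, H12.character_eq_finrank_iff]
    exact MonoidHom.mem_ker.1 (htop ▸ Subgroup.mem_top g)
  have htt : (ρ g) ^ 3 = 1 := by rw [← map_pow, ← hg, pow_orderOf_eq_one, map_one]
  obtain ⟨v, μ, hμ⟩ := H12.exists_eigenbasis (n := 3) (by norm_num) htt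
  have hk : ∀ i, ∃ k : Fin 3, μ i = ω ^ (k : ℕ) := fun i => by
    obtain ⟨k, hk, e⟩ := hω.eq_pow_of_pow_eq_one (hμ i).2
    exact ⟨⟨k, hk⟩, e.symm⟩
  choose k hk using hk
  have hnconst : ∀ j : Fin 3, ∃ i, k i ≠ j := by
    intro j
    by_contra hall
    push Not at hall
    have hscal : ρ g = ω ^ (j : ℕ) • (LinearMap.id : (Fin n → ℂ) →ₗ[ℂ] (Fin n → ℂ)) := by
      refine v.ext fun i => ?_
      rw [(hμ i).1, hk i, hall i, LinearMap.smul_apply, LinearMap.id_apply]
    have hcen : g ∈ Subgroup.center G := by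
      rw [Subgroup.mem_center_iff]
      intro h
      apply (MonoidHom.ker_eq_bot_iff ρ).1 hker
      rw [map_mul, map_mul, hscal]
      refine LinearMap.ext fun x => ?_
      simp [Module.End.mul_apply]
    rcases (inferInstance : (Subgroup.center G).Normal).eq_bot_or_eq_top with h | h
    · exact hg1 (Subgroup.mem_bot.1 (h ▸ hcen))
    · exact hna h
  set A : Fin 3 → ℕ := fun j => (Finset.univ.filter fun i => k i = j).card with hA
  have hsum : ∀ f : Fin 3 → ℂ, ∑ i, f (k i) = A 0 * f 0 + A 1 * f 1 + A 2 * f 2 := by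
    intro f
    rw [← Finset.sum_fiberwise Finset.univ k, Fin.sum_univ_three]
    simp only [hA]
    congr 1
    · congr 1
      all_goals
        rw [Finset.sum_congr rfl (fun i hi => by rw [(Finset.mem_filter.1 hi).2]),
          Finset.sum_const, nsmul_eq_mul]
    · rw [Finset.sum_congr rfl (fun i hi => by rw [(Finset.mem_filter.1 hi).2]),
        Finset.sum_const, nsmul_eq_mul]
  have htot : A 0 + A 1 + A 2 = H12.degree (χ : G → ℂ) := by
    have h1 := hsum (fun _ => 1)
    simp only [Finset.sum_const, Finset.card_univ, Fintype.card_fin, nsmul_eq_mul, mul_one] at h1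
    rw [Module.finrank_fin_fun] at h1
    rw [hdeg]
    exact_mod_cast h1.symm
  have hne : ∀ j, A j ≠ H12.degree (χ : G → ℂ) := by
    intro j h
    obtain ⟨i, hi⟩ := hnconst j
    have hlt : A j < Fintype.card (Fin (Module.finrank ℂ (Fin n → ℂ))) :=
      Finset.card_lt_univ_of_notMem (x := i) (by simp [hi])
    rw [Fintype.card_fin, Module.finrank_fin_fun, h, hdeg] at hlt
    exact lt_irrefl _ hlt
  have hmat : LinearMap.toMatrix v v (ρ g) = Matrix.diagonal μ := by
    ext i j
    rw [LinearMap.toMatrix_apply, (hμ j).1, map_smul, Module.Basis.repr_self]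
    by_cases hij : i = j
    · subst hij; simp
    · simp [hij]
  have hdet : LinearMap.det (ρ g) = 1 :=
    H65.hom_comm_eq_one hna ((LinearMap.det (M := Fin n → ℂ) (A := ℂ)).comp ρ) g
  rw [← LinearMap.det_toMatrix v, hmat, Matrix.det_diagonal,
    Finset.prod_congr rfl (fun i _ => hk i), Finset.prod_pow_eq_pow_sum] at hdet
  have hd3 : 3 ∣ A 1 + 2 * A 2 := by
    have h1 : ∑ i, ((k i : ℕ) : ℂ) = ((A 1 + 2 * A 2 : ℕ) : ℂ) := by
      rw [hsum (fun j => ((j : ℕ) : ℂ))]
      push_cast
      simp only [Fin.val_zero, Fin.val_one, Fin.val_two, Nat.cast_zero, Nat.cast_one,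
        Nat.cast_ofNat]
      ring
    have h2 : ∑ i, (k i : ℕ) = A 1 + 2 * A 2 := by exact_mod_cast h1
    exact h2 ▸ hω.dvd_of_pow_eq_one _ hdet
  refine ⟨A 0, A 1, A 2, htot, hd3, hne 0, hne 1, hne 2, ?_⟩
  rw [← hρ, Representation.character, LinearMap.trace_eq_matrix_trace ℂ v, hmat,
    Matrix.trace_diagonal, Finset.sum_congr rfl (fun i _ => hk i), hsum (fun j => ω ^ (j : ℕ))]
  simp

variable {p : ℕ} [hp : Fact p.Prime] {P : Sylow p G}

/-- The count behind a class algebra constant at an element of order `p`. -/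
theorem mul_dvd_card_product (hP : Nat.card (P : Subgroup G) = p)
    (hC : Subgroup.centralizer ((P : Subgroup G) : Set G) = (P : Subgroup G)) {x : G}
    (hx : x ∈ (P : Subgroup G)) {y z : G}
    (hy : ¬ p ∣ Nat.card (Subgroup.centralizer ({y} : Set G))) :
    p * Nat.card (Subgroup.centralizer ({y} : Set G)) ∣
      Nat.card {a : G // IsConj (x * (a * y * a⁻¹)) z} := by
  classical
  set C := Subgroup.centralizer ({y} : Set G)
  let K := ↥(P : Subgroup G) × ↥C
  let X := {a : G // IsConj (x * (a * y * a⁻¹)) z}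
  have hcomm : ∀ k ∈ (P : Subgroup G), k * x = x * k := fun k hk =>
    (Subgroup.mem_centralizer_iff.1 (hC.ge hx : x ∈ Subgroup.centralizer _) k hk)
  let act : MulAction K X :=
    { smul := fun kl a => ⟨(kl.1 : G) * a.1 * (kl.2 : G)⁻¹, by
        have e : x * ((kl.1 : G) * a.1 * (kl.2 : G)⁻¹ * y * ((kl.1 : G) * a.1 * (kl.2 : G)⁻¹)⁻¹) =
            (kl.1 : G) * (x * (a.1 * y * a.1⁻¹)) * (kl.1 : G)⁻¹ := by
          have h1 : (kl.2 : G)⁻¹ * y * (kl.2 : G) = y := by
            rw [mul_assoc, ← Subgroup.mem_centralizer_singleton_iff.1 kl.2.2, inv_mul_cancel_left]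
          calc _ = x * (kl.1 : G) * (a.1 * ((kl.2 : G)⁻¹ * y * (kl.2 : G)) * a.1⁻¹) *
                (kl.1 : G)⁻¹ := by group
            _ = _ := by rw [h1, ← hcomm _ kl.1.2]; group
        rw [e]
        exact (isConj_iff.2 ⟨(kl.1 : G), rfl⟩ : IsConj (x * (a.1 * y * a.1⁻¹)) _).symm.trans a.2⟩
      one_smul := fun a => Subtype.ext (show (1 : G) * a.1 * (1 : G)⁻¹ = a.1 by group)
      mul_smul := fun k l a => Subtype.ext
        (show ((k.1 : G) * (l.1 : G)) * a.1 * ((k.2 : G) * (l.2 : G))⁻¹ =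
          (k.1 : G) * ((l.1 : G) * a.1 * (l.2 : G)⁻¹) * (k.2 : G)⁻¹ by group) }
  letI := act
  have hfree : ∀ b : X, MulAction.stabilizer K b = ⊥ := by
    intro b
    rw [Subgroup.eq_bot_iff_forall]
    rintro ⟨k, l⟩ hkl
    have e : (k : G) * b.1 * (l : G)⁻¹ = b.1 := congrArg Subtype.val hkl
    have e' : b.1⁻¹ * (k : G) * b.1 = (l : G) := by
      calc b.1⁻¹ * (k : G) * b.1 = b.1⁻¹ * ((k : G) * b.1 * (l : G)⁻¹) * (l : G) := by group
        _ = _ := by rw [e, inv_mul_cancel, one_mul]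
    have hk1 : (k : G) = 1 := by
      by_contra hne
      refine hy ?_
      have ho : orderOf (l : G) = p := by
        rw [← e', show b.1⁻¹ * (k : G) * b.1 = b.1⁻¹ * (k : G) * b.1⁻¹⁻¹ by rw [inv_inv]]
        rw [(SemiconjBy.conj_mk b.1⁻¹ (k : G)).orderOf_eq.symm]
        exact orderOf_eq_prime (H62.pow_card_of_mem hP k.2) hne
      exact ho ▸ Subgroup.orderOf_dvd_natCard C l.2
    refine Prod.ext (Subtype.ext hk1) (Subtype.ext ?_)
    rw [← e', hk1, mul_one, inv_mul_cancel]
    rfl
  have h := Nat.card_congr (MulAction.selfEquivOrbitsQuotientProd hfree)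
  rw [Nat.card_prod, Nat.card_prod, hP] at h
  exact ⟨_, h.trans (mul_comm _ _)⟩

end H4.G2Order
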