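import Cfsg.Agent.H4.G2OrderUnique
import Cfsg.Agent.H52.G2Two
import Cfsg.Agent.H64.SU3Three
import Cfsg.Agent.H17.U33Model
import Cfsg.Agent.S1059

/-!
The element orders of `G₂(2)` used in its recognition.
-/

set_option autoImplicit false
set_option linter.unusedSectionVars false

namespace H4.G2Order

open Cfsg Cfsg.Lie Matrix

/-- Unit vectors as sums of vectors of the orbit. -/
def spanTab : List (List (Fin 63)) := [
  [0, 1, 12], [1, 2, 9, 15], [12], [0, 1, 2, 6], [0, 1, 3, 7], [0, 1, 4, 8],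
  [1, 2, 3, 4, 7, 12, 14], [0, 1, 5, 9], [0, 2], [0, 1, 2, 6, 7, 9, 12, 14, 16],
  [4, 6, 7, 12, 14], [0, 2, 4, 5, 6, 7, 12, 14, 16], [0, 5], [0]]

/-- The combination for a bit. -/
def spanOf (b : ℕ) : List (Fin 63) := spanTab.getD b []

set_option backward.isDefEq.respectTransparency false in
theorem span_inl : ∀ (a : Fin 2) (i : chevG2.Idx),
    ((spanOf a.val).map fun k => H52.g2Vec k i).sum = if i = Sum.inl a then 1 else 0 := by
  decide +kernel

set_option backward.isDefEq.respectTransparency false in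
theorem span_inr : ∀ (r : Fin 12) (i : chevG2.Idx),
    ((spanOf (2 + r.val)).map fun k => H52.g2Vec k i).sum = if i = Sum.inr r then 1 else 0 := by
  decide +kernel

/-- A word for an element of order seven. -/
def seven : Equiv.Perm (Fin 63) := (([0, 4, 9] : List (Fin 12)).map H52.g2Perm).prod

/-- A word for an element inducing the automorphism of order six on it. -/
def six : Equiv.Perm (Fin 63) := (([2, 4, 7, 10] : List (Fin 12)).map H52.g2Perm).prod

set_option backward.isDefEq.respectTransparency false in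
theorem seven_six : seven ≠ 1 ∧ seven ^ 7 = 1 ∧ six * seven = seven ^ 3 * six := by
  decide +kernel

theorem mulVec_list_sum {m : Type*} [Fintype m] {R : Type*} [CommRing R] (A : Matrix m m R)
    (l : List (m → R)) : A *ᵥ l.sum = (l.map fun v => A *ᵥ v).sum := by
  induction l with
  | nil => simp
  | cons a l ih => rw [List.sum_cons, mulVec_add, ih, List.map_cons, List.sum_cons]

theorem list_sum_apply {ι m : Type*} {R : Type*} [CommRing R] (l : List ι) (f : ι → m → R) (i : m) :
    (l.map f).sum i = (l.map fun k => f k i).sum := by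
  induction l with
  | nil => simp
  | cons a l ih => simp [List.sum_cons, ih]

/-- An element fixing the orbit is trivial. -/
theorem eq_one_of_fix (g : GL chevG2.Idx (ZMod 2))
    (h : ∀ k, (g : Matrix chevG2.Idx chevG2.Idx (ZMod 2)) *ᵥ H52.g2Vec k = H52.g2Vec k) : g = 1 := by
  have key : ∀ (l : List (Fin 63)) (j : chevG2.Idx),
      (∀ i, (l.map fun k => H52.g2Vec k i).sum = if i = j then 1 else 0) →
      ∀ i, (g : Matrix chevG2.Idx chevG2.Idx (ZMod 2)) i j = if i = j then 1 else 0 := by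
    intro l j hl i
    have hv : (l.map H52.g2Vec).sum = Pi.single j 1 := by
      funext i
      rw [list_sum_apply, hl i, Pi.single_apply]
    have h1 := mulVec_list_sum (g : Matrix chevG2.Idx chevG2.Idx (ZMod 2)) (l.map H52.g2Vec)
    rw [List.map_map,
      show l.map ((fun v => (g : Matrix chevG2.Idx chevG2.Idx (ZMod 2)) *ᵥ v) ∘ H52.g2Vec) =
        l.map H52.g2Vec from List.map_congr_left fun k _ => h k, hv,
      Matrix.mulVec_single_one] at h1
    have := congrFun h1 i
    rwa [Matrix.col_apply, Pi.single_apply] at this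
  refine Units.ext (Matrix.ext fun i j => ?_)
  rw [Units.val_one, Matrix.one_apply]
  cases j with
  | inl a => exact key (spanOf a.val) (Sum.inl a) (span_inl a) i
  | inr r => exact key (spanOf (2 + r.val)) (Sum.inr r) (span_inr r) i

/-- The faithful action on `63` points. -/
theorem exists_action : ∃ ψ : ↥(chevG2.group (ZMod 2)) →* Equiv.Perm (Fin 63),
    Function.Injective ψ ∧ ∀ r : Fin 12, H52.g2Perm r ∈ ψ.range := by
  choose f hf using fun g : ↥(chevG2.group (ZMod 2)) => H52.g2_exists_acts g.2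
  let ψ : ↥(chevG2.group (ZMod 2)) →* Equiv.Perm (Fin 63) := MonoidHom.mk' f fun a b =>
    H52.g2Acts_unique (hf (a * b)) (fun k => by
      rw [Subgroup.coe_mul, Units.val_mul, ← mulVec_mulVec, hf b, hf a]; rfl)
  refine ⟨ψ, ?_, fun r => ?_⟩
  · rw [← MonoidHom.ker_eq_bot_iff, Subgroup.eq_bot_iff_forall]
    intro g hg
    refine Subtype.ext (eq_one_of_fix _ fun k => ?_)
    rw [hf g k, show f g = 1 from hg]
    rfl
  obtain ⟨T, hC⟩ := H52.checked_of_mem (D := chevG2) (by simp)
  refine ⟨⟨H52.rt chevG2 r.val 1, H53.rt_mem_group _ _⟩, H52.g2Acts_unique (hf _) fun k => ?_⟩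
  show ((H52.rt chevG2 r.val (1 : ZMod 2) : GL chevG2.Idx (ZMod 2)) :
      Matrix chevG2.Idx chevG2.Idx (ZMod 2)) *ᵥ H52.g2Vec k = _
  rw [hC.coe_rt, ChevalleyDatum.x, dif_pos (show r.val < chevG2.nroots from r.isLt), H52.g2_mulVec,
    if_neg one_ne_zero]
  rfl

/-- A group of order `12096` with a simple subgroup of index two with the spectrum of `PSU₃(3)` and
the automorphism of order six on a Sylow `7`-subgroup satisfies the hypotheses. -/
theorem hyp_of_index_two {A : Type*} [Group A] [Finite A] (hcard : Nat.card A = 12096)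
    (C : Subgroup A) [C.Normal] [IsSimpleGroup C] (hC : Nat.card C = 6048)
    (hspec : ∀ c : ↥C, ∃ n ∈ ([7, 8, 12] : List ℕ), orderOf c ∣ n)
    {x₀ g₀ : A} (hx7 : x₀ ^ 7 = 1) (hx1 : x₀ ≠ 1) (hconj : g₀ * x₀ = x₀ ^ 3 * g₀) : Hyp A := by
  classical
  haveI : Fact (Nat.Prime 7) := ⟨by norm_num⟩
  have hidx : C.index = 2 := by
    have := C.card_mul_index
    rw [hC, hcard] at this; omega
  have hsq : ∀ g : A, ∃ n ∈ ([7, 8, 12] : List ℕ), orderOf (g ^ 2) ∣ n := by
    intro g
    obtain ⟨n, hn, hd⟩ := hspec ⟨g ^ 2, Subgroup.sq_mem_of_index_two hidx g⟩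
    exact ⟨n, hn, by rwa [← Subgroup.orderOf_coe] at hd⟩
  have hxo : orderOf x₀ = 7 := orderOf_eq_prime hx7 hx1
  have hno : ∀ g : A, orderOf g ≠ 9 ∧ orderOf g ≠ 14 ∧ orderOf g ≠ 21 := by
    intro g
    refine ⟨fun hg => ?_, fun hg => ?_, fun hg => ?_⟩
    · obtain ⟨n, hn, hd⟩ := hsq g
      rw [orderOf_pow' g (by norm_num : (2 : ℕ) ≠ 0), hg] at hd
      simp only [List.mem_cons, List.not_mem_nil, or_false] at hn
      rcases hn with rfl | rfl | rfl <;> norm_num at hd
    · -- an involution centralising a Sylow `7`-subgroup would lie outside `C`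
      have hgx : orderOf (g ^ 2) = 7 := by
        rw [orderOf_pow' g (by norm_num : (2 : ℕ) ≠ 0), hg]; norm_num
      have hsyl : ∀ u : A, orderOf u = 7 →
          ∃ R : Sylow 7 A, (R : Subgroup _) = Subgroup.zpowers u := by
        intro u hu
        obtain ⟨R, hR⟩ := (IsPGroup.of_card (p := 7) (n := 1)
          (by rw [Nat.card_zpowers, hu, pow_one] :
            Nat.card (Subgroup.zpowers u) = 7 ^ 1)).exists_le_sylow
        refine ⟨R, (Subgroup.eq_of_le_of_card_ge hR ?_).symm⟩
        rw [H62.card_sylow_coe (a := 1) (m := 1728) (by rw [hcard]; norm_num) (by norm_num) R,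
          Nat.card_zpowers, hu]
        norm_num
      obtain ⟨R₀, hR₀⟩ := hsyl x₀ hxo
      obtain ⟨R, hR⟩ := hsyl _ hgx
      obtain ⟨a, ha⟩ := MulAction.exists_smul_eq A R R₀
      set τ := a * g ^ 7 * a⁻¹
      have hτx : τ * x₀ = x₀ * τ := by
        have hmem : x₀ ∈ (R₀ : Subgroup _) := hR₀ ▸ Subgroup.mem_zpowers x₀
        rw [← ha, Sylow.coe_subgroup_smul, hR] at hmem
        obtain ⟨w, hw, e⟩ := hmem
        obtain ⟨n, rfl⟩ := Subgroup.mem_zpowers_iff.1 hw
        have e' : a * (g ^ 2) ^ n * a⁻¹ = x₀ := e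
        rw [← e']
        have hcm : Commute (g ^ 7) ((g ^ 2) ^ n) := ((Commute.refl g).pow_pow 7 2).zpow_right n
        calc τ * (a * (g ^ 2) ^ n * a⁻¹) = a * (g ^ 7 * (g ^ 2) ^ n) * a⁻¹ := by
              simp only [τ]; group
          _ = a * ((g ^ 2) ^ n * g ^ 7) * a⁻¹ := by rw [hcm.eq]
          _ = _ := by simp only [τ]; group
      have hτC : τ ∉ C := by
        intro hτ
        have hgC : g ∈ C := by
          have h7' : g ^ 7 ∈ C := by
            have := (inferInstance : C.Normal).conj_mem τ hτ a⁻¹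
            simpa [τ, mul_assoc] using this
          have e : g = g ^ 7 * (g ^ 2) ^ 4 := by
            calc g = g ^ 1 * g ^ 14 := by rw [← hg, pow_orderOf_eq_one, mul_one, pow_one]
              _ = _ := by rw [← pow_add, ← pow_mul, ← pow_add]
          rw [e]; exact mul_mem h7' (pow_mem (Subgroup.sq_mem_of_index_two hidx g) 4)
        obtain ⟨n, hn, hd⟩ := hspec ⟨g, hgC⟩
        rw [Subgroup.orderOf_mk, hg] at hd
        simp only [List.mem_cons, List.not_mem_nil, or_false] at hn
        rcases hn with rfl | rfl | rfl <;> norm_num at hd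
      -- an element of `C` inducing the automorphism of order six
      obtain ⟨m, hmC, hm⟩ : ∃ m ∈ C, m * x₀ = x₀ ^ 3 * m := by
        by_cases hg₀C : g₀ ∈ C
        · exact ⟨g₀, hg₀C, hconj⟩
        · refine ⟨g₀ * τ, (Subgroup.mul_mem_iff_of_index_two hidx).2
            (iff_of_false hg₀C hτC), ?_⟩
          rw [mul_assoc, hτx, ← mul_assoc, hconj, mul_assoc]
      have hxC : x₀ ∈ C := by
        have e : x₀ = (x₀ ^ 2) ^ 4 := by
          calc x₀ = x₀ * x₀ ^ 7 := by rw [hx7, mul_one]
            _ = _ := by rw [← pow_succ', ← pow_mul]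
        rw [e]; exact pow_mem (Subgroup.sq_mem_of_index_two hidx x₀) 4
      haveI := Fintype.ofFinite C
      obtain ⟨u, hu⟩ : ∃ u : C, (u : A) = x₀ := ⟨⟨x₀, hxC⟩, rfl⟩
      obtain ⟨mm, hmm⟩ : ∃ mm : C, (mm : A) = m := ⟨⟨m, hmC⟩, rfl⟩
      have huo : orderOf u = 7 := by rw [← Subgroup.orderOf_coe, hu, hxo]
      have hm' : mm * u = u ^ 3 * mm := Subtype.ext (by
        rw [Subgroup.coe_mul, Subgroup.coe_mul, SubgroupClass.coe_pow, hu, hmm]; exact hm)
      obtain ⟨P, hP⟩ := (IsPGroup.of_card (p := 7) (n := 1)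
        (by rw [Nat.card_zpowers, huo, pow_one] :
          Nat.card (Subgroup.zpowers u) = 7 ^ 1)).exists_le_sylow
      obtain ⟨hPc, -, e, he, hN⟩ := H62.normalizer_threePrimes (p := 2) (q := 3) (r := 7) (a := 5)
        (b := 3) Nat.prime_two Nat.prime_three (by decide) (by decide) (by decide)
        (hC.trans (by norm_num)) (by norm_num) P
      rw [show H62.selfCentralIndices (2 ^ 5 * 3 ^ 3 * 7) 7 = {3} by decide +kernel,
        Finset.mem_singleton] at he
      subst he
      have hPu : Subgroup.zpowers u = (P : Subgroup C) := Subgroup.eq_of_le_of_card_ge hP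
        (by rw [hPc, Nat.card_zpowers, huo])
      have hu7 : u ^ 7 = 1 := by rw [← huo]; exact pow_orderOf_eq_one u
      have hcu : mm * u * mm⁻¹ = u ^ 3 := by rw [hm', mul_inv_cancel_right]
      have hmN : mm ∈ Subgroup.normalizer ((P : Subgroup C) : Set C) := by
        have hinv : mm⁻¹ * u * mm = u ^ 5 := by
          have h1 : mm⁻¹ * (u ^ 3) ^ 5 * mm = u ^ 5 := by
            rw [← hcu, conj_pow]; group
          rw [← pow_mul, show 3 * 5 = 7 * 2 + 1 by norm_num, pow_add, pow_mul, hu7, one_pow,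
            one_mul, pow_one] at h1
          exact h1
        rw [Subgroup.mem_normalizer_iff]
        intro w
        rw [← hPu]
        constructor <;> intro hw <;> obtain ⟨n, hn⟩ := Subgroup.mem_zpowers_iff.1 hw
        · rw [← hn, ← conj_zpow, hcu]
          exact zpow_mem (pow_mem (Subgroup.mem_zpowers u) 3) n
        · have e' : w = mm⁻¹ * (u ^ n) * mm⁻¹⁻¹ := by rw [hn]; group
          rw [e', ← conj_zpow, inv_inv, hinv]
          exact zpow_mem (pow_mem (Subgroup.mem_zpowers u) 5) n
      have hord : orderOf mm ∣ 21 := by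
        have := Subgroup.orderOf_dvd_natCard _ hmN
        rwa [hN] at this
      have hpow : ∀ k : ℕ, mm ^ k * u = u ^ 3 ^ k * mm ^ k := by
        intro k
        induction k with
        | zero => simp
        | succ k ih =>
          rw [pow_succ', mul_assoc, ih, ← mul_assoc]
          have e1 : mm * u ^ 3 ^ k = u ^ 3 ^ (k + 1) * mm := by
            have := (show SemiconjBy mm u (u ^ 3) from hm').pow_right (3 ^ k)
            rw [← pow_mul, ← pow_succ'] at this
            exact this
          rw [e1, mul_assoc]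
      have hfix := hpow 21
      rw [orderOf_dvd_iff_pow_eq_one.1 hord, one_mul, mul_one] at hfix
      have hu6 : u ^ (3 ^ 21 - 1) = 1 := by
        have : u ^ (3 ^ 21 - 1) * u = u := by
          rw [← pow_succ, Nat.sub_add_cancel (Nat.one_le_pow _ _ (by norm_num))]
          exact hfix.symm
        exact mul_eq_right.1 this
      have hd := orderOf_dvd_of_pow_eq_one hu6
      rw [huo] at hd
      norm_num at hd
    · obtain ⟨n, hn, hd⟩ := hsq g
      rw [orderOf_pow' g (by norm_num : (2 : ℕ) ≠ 0), hg] at hd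
      simp only [List.mem_cons, List.not_mem_nil, or_false] at hn
      rcases hn with rfl | rfl | rfl <;> norm_num at hd
  exact ⟨hcard, fun g => (hno g).1, fun g => (hno g).2.1, fun g => (hno g).2.2⟩

set_option maxHeartbeats 1000000 in
/-- `G₂(2)` satisfies the hypotheses. -/
theorem hyp_chevG2 {F : Type*} [Field F] [Fintype F] (hF : Fintype.card F = 2) :
    Hyp ↥(chevG2.group F) := by
  classical
  haveI : Fact (Nat.Prime 7) := ⟨by norm_num⟩
  obtain ⟨fe⟩ : Nonempty (↥(chevG2.group F) ≃* ↥(chevG2.group (ZMod 2))) :=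
    H52.exists_group_congr chevG2 (ZMod.ringEquivOfPrime F Nat.prime_two hF).symm
  have hcard : Nat.card ↥(chevG2.group (ZMod 2)) = 12096 := by
    rw [Cfsg.Agent.S1059.result (F := ZMod 2) (q := 2) (ZMod.card 2)]; norm_num
  set C := commutator ↥(chevG2.group (ZMod 2))
  obtain ⟨i⟩ := H52.g2_two_iso
  obtain ⟨j⟩ := H17.U33.exists_equiv (F := H37.K9) H17.U33.card_K
  have hC : Nat.card C = 6048 := by
    rw [Nat.card_congr (i.trans j).toEquiv, H17.U33.card_GJ]
  haveI : IsSimpleGroup C := by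
    haveI := H17.U33.isSimple_GJ
    exact (i.trans j).isSimpleGroup
  have hspec : ∀ c : ↥C, ∃ n ∈ ([7, 8, 12] : List ℕ), orderOf c ∣ n := by
    intro c
    have hmem : orderOf (i c) ∈ Set.range (orderOf : Cfsg.PSU 3 H37.K9 3 → ℕ) := ⟨i c, rfl⟩
    rw [H64.psu3_three_spectrum H17.U33.card_K, Set.mem_setOf_eq, MulEquiv.orderOf_eq] at hmem
    exact hmem
  obtain ⟨ψ, hψ, hr⟩ := exists_action
  have hword : ∀ l : List (Fin 12), (l.map H52.g2Perm).prod ∈ ψ.range := fun l =>
    list_prod_mem fun x hx => by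
      obtain ⟨r, -, rfl⟩ := List.mem_map.1 hx
      exact hr r
  obtain ⟨x₀, hx₀⟩ : ∃ x₀, ψ x₀ = seven := hword _
  obtain ⟨g₀, hg₀⟩ : ∃ g₀, ψ g₀ = six := hword _
  obtain ⟨hne, h7, hrel⟩ := seven_six
  have hx7 : x₀ ^ 7 = 1 := hψ (by rw [map_pow, hx₀, h7, map_one])
  have hx1 : x₀ ≠ 1 := fun h => hne (by rw [← hx₀, h, map_one])
  have hconj : g₀ * x₀ = x₀ ^ 3 * g₀ := hψ (by rw [map_mul, map_mul, map_pow, hx₀, hg₀, hrel])
  have h := hyp_of_index_two hcard C hC hspec hx7 hx1 hconj
  exact ⟨(Nat.card_congr fe.toEquiv).trans hcard, fun g => fe.orderOf_eq g ▸ h.no9 (fe g),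
    fun g => fe.orderOf_eq g ▸ h.no14 (fe g), fun g => fe.orderOf_eq g ▸ h.no21 (fe g)⟩

end H4.G2Order
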