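import Mathlib

/-!
The extraspecial group of order `27` and exponent three, and the order of its automorphism group.
-/

set_option autoImplicit false
set_option linter.unusedSectionVars false

namespace H4.G2Order

/-- The Heisenberg group over three elements, coded by `9 a + 3 b + c`. -/
structure Heis where
  code : Fin 27
deriving DecidableEq

namespace Heis

/-- The product of two codes. -/
def mulN (i j : Fin 27) : Fin 27 :=
  ⟨(i.val / 9 + j.val / 9) % 3 * 9 + (i.val / 3 + j.val / 3) % 3 * 3 +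
    (i.val + j.val + i.val / 9 * (j.val / 3)) % 3, by omega⟩

/-- The inverse of a code. -/
def invN (i : Fin 27) : Fin 27 :=
  ⟨(3 - i.val / 9) % 3 * 9 + (9 - i.val / 3) % 3 * 3 + (30 - i.val + i.val / 9 * (i.val / 3)) % 3,
    by omega⟩

instance : Fintype Heis :=
  Fintype.ofEquiv (Fin 27) ⟨Heis.mk, Heis.code, fun _ => rfl, fun _ => rfl⟩

instance : Mul Heis := ⟨fun p q => ⟨mulN p.code q.code⟩⟩
instance : One Heis := ⟨⟨0⟩⟩
instance : Inv Heis := ⟨fun p => ⟨invN p.code⟩⟩

theorem mulN_assoc : ∀ i j k : Fin 27, mulN (mulN i j) k = mulN i (mulN j k) := by decide +kernel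

theorem mulN_zero : ∀ i : Fin 27, mulN i 0 = i ∧ mulN 0 i = i ∧ mulN (invN i) i = 0 := by
  decide +kernel

instance : Group Heis where
  mul_assoc p q r := congrArg Heis.mk (mulN_assoc p.code q.code r.code)
  one_mul p := congrArg Heis.mk (mulN_zero p.code).2.1
  mul_one p := congrArg Heis.mk (mulN_zero p.code).1
  inv_mul_cancel p := congrArg Heis.mk (mulN_zero p.code).2.2

theorem card : Nat.card Heis = 27 := by
  rw [Nat.card_eq_fintype_card]; rfl

/-- The first generator. -/
def x : Heis := ⟨9⟩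
/-- The second generator. -/
def y : Heis := ⟨3⟩

/-- The image of `p` under the endomorphism sending the generators to `u` and `v`. -/
def ext (u v p : Heis) : Heis :=
  v ^ (p.code.val / 3 % 3) * u ^ (p.code.val / 9) * (u * v * u⁻¹ * v⁻¹) ^ (p.code.val % 3)

theorem gen_induction : ∀ p : Heis,
    p = y ^ (p.code.val / 3 % 3) * x ^ (p.code.val / 9) * (x * y * x⁻¹ * y⁻¹) ^ (p.code.val % 3) := by
  decide +kernel

theorem closure_xy : Submonoid.closure ({x, y} : Set Heis) = ⊤ := by
  rw [eq_top_iff]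
  intro p _
  have hx : x ∈ Submonoid.closure ({x, y} : Set Heis) := Submonoid.subset_closure (by simp)
  have hy : y ∈ Submonoid.closure ({x, y} : Set Heis) := Submonoid.subset_closure (by simp)
  have e : x⁻¹ = x * x ∧ y⁻¹ = y * y := by decide +kernel
  rw [gen_induction p, e.1, e.2]
  exact mul_mem (mul_mem (pow_mem hy _) (pow_mem hx _))
    (pow_mem (mul_mem (mul_mem (mul_mem hx hy) (mul_mem hx hx)) (mul_mem hy hy)) _)

theorem ext_check : ∀ u v : Heis, u * v ≠ v * u → ext u v x = u ∧ ext u v y = v ∧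
    ∀ p, (ext u v (p * x) = ext u v p * u ∧ ext u v (p * y) = ext u v p * v) ∧
      (ext u v p = 1 → p = 1) := by
  decide +kernel

/-- The automorphism sending the generators to two elements that do not commute. -/
noncomputable def extAut (u v : Heis) (h : u * v ≠ v * u) : MulAut Heis :=
  MulEquiv.ofBijective (MonoidHom.mk' (ext u v) (by
    intro p q
    induction (closure_xy ▸ Submonoid.mem_top q : q ∈ Submonoid.closure ({x, y} : Set Heis))
      using Submonoid.closure_induction generalizing p with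
    | mem w hw =>
      simp only [Set.mem_insert_iff, Set.mem_singleton_iff] at hw
      rcases hw with rfl | rfl
      · rw [((ext_check u v h).2.2 p).1.1, (ext_check u v h).1]
      · rw [((ext_check u v h).2.2 p).1.2, (ext_check u v h).2.1]
    | one =>
      have h1 : ext u v 1 = 1 := by
        show v ^ (0 : ℕ) * u ^ (0 : ℕ) * _ ^ (0 : ℕ) = 1
        simp
      rw [mul_one, h1, mul_one]
    | mul a b _ _ iha ihb =>
      rw [← mul_assoc, ihb (p * a), iha p, mul_assoc, ihb a]))
    ((Fintype.bijective_iff_injective_and_card _).2 ⟨(injective_iff_map_eq_one _).2 fun p hp =>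
      ((ext_check u v h).2.2 p).2 hp, rfl⟩)

theorem card_mulAut : Nat.card (MulAut Heis) = 432 := by
  have hxy : ∀ α : MulAut Heis, α x * α y ≠ α y * α x := fun α h => by
    rw [← map_mul, ← map_mul] at h
    exact (show x * y ≠ y * x by decide +kernel) (α.injective h)
  let e : MulAut Heis ≃ {w : Heis × Heis // w.1 * w.2 ≠ w.2 * w.1} :=
    { toFun := fun α => ⟨(α x, α y), hxy α⟩
      invFun := fun w => extAut w.1.1 w.1.2 w.2
      left_inv := fun α => by
        refine MulEquiv.ext fun p => ?_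
        show ext (α x) (α y) p = α p
        conv_rhs => rw [gen_induction p]
        simp [ext, map_mul, map_pow, map_inv]
      right_inv := fun w => Subtype.ext (Prod.ext (ext_check _ _ w.2).1 (ext_check _ _ w.2).2.1) }
  rw [Nat.card_congr e, Nat.card_eq_fintype_card]
  decide +kernel

/-- A nonabelian group of order `27` and exponent three is isomorphic to `Heis`. -/
theorem nonempty_mulEquiv {P : Type*} [Group P] [Finite P] (hc : Nat.card P = 27)
    (he : ∀ w : P, w ^ 3 = 1) (hn : ∃ a b : P, a * b ≠ b * a) : Nonempty (P ≃* Heis) := by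
  classical
  haveI : Fact (Nat.Prime 3) := ⟨Nat.prime_three⟩
  obtain ⟨a, b, hab⟩ := hn
  have hp : IsPGroup 3 P := IsPGroup.of_card (n := 3) (by rw [hc]; norm_num)
  haveI : Nontrivial P := Finite.one_lt_card_iff_nontrivial.1 (by rw [hc]; norm_num)
  have hq : Nat.card (P ⧸ Subgroup.center P) = 3 ^ 2 := by
    obtain ⟨k, hk⟩ := IsPGroup.iff_card.1 (hp.to_subgroup (Subgroup.center P))
    have h1 := Subgroup.card_eq_card_quotient_mul_card_subgroup (Subgroup.center P)
    haveI := hp.center_nontrivial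
    have h2 : 1 < Nat.card (Subgroup.center P) := Finite.one_lt_card
    have hd : Nat.card (Subgroup.center P) ∣ 27 := hc ▸ Subgroup.card_subgroup_dvd_card _
    rw [hk] at h1 h2 hd
    rw [hc] at h1
    have hk3 : k < 4 := by
      by_contra hlt
      have := (pow_dvd_pow 3 (show 4 ≤ k by omega)).trans hd
      norm_num at this
    interval_cases k
    · norm_num at h2
    · omega
    · exfalso
      haveI : IsCyclic (P ⧸ Subgroup.center P) := isCyclic_of_prime_card (p := 3) (by omega)
      exact hab (commutative_of_cyclic_center_quotient (QuotientGroup.mk' (Subgroup.center P))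
        (QuotientGroup.ker_mk' _).le a b)
    · exfalso
      have htop : Subgroup.center P = ⊤ := Subgroup.eq_top_of_card_eq _ (by rw [hk, hc]; norm_num)
      exact hab (Subgroup.mem_center_iff.1 (htop ▸ Subgroup.mem_top b) a)
  set z := a * b * a⁻¹ * b⁻¹ with hz
  have hzc : z ∈ Subgroup.center P := by
    rw [← QuotientGroup.eq_one_iff, hz]
    have hcomm := IsPGroup.commutative_of_card_eq_prime_sq hq (QuotientGroup.mk a)
      (QuotientGroup.mk b : P ⧸ Subgroup.center P)
    simp only [QuotientGroup.mk_mul, QuotientGroup.mk_inv]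
    rw [hcomm]; group
  have hzcomm : ∀ w : P, Commute z w := fun w => (Subgroup.mem_center_iff.1 hzc w).symm
  have hba : a * b = z * (b * a) := by rw [hz]; group
  have hswap1 : ∀ j : ℕ, a * b ^ j = z ^ j * (b ^ j * a) := by
    intro j
    induction j with
    | zero => simp
    | succ j ih =>
      rw [pow_succ, ← mul_assoc, ih, pow_succ z j, mul_assoc, mul_assoc, hba]
      calc z ^ j * (b ^ j * (z * (b * a))) = z ^ j * ((b ^ j * z) * (b * a)) := by group
        _ = _ := by rw [((hzcomm (b ^ j)).eq).symm]; group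
  have hswap : ∀ i j : ℕ, a ^ i * b ^ j = z ^ (i * j) * (b ^ j * a ^ i) := by
    intro i j
    induction i with
    | zero => simp
    | succ i ih =>
      rw [pow_succ', mul_assoc, ih]
      calc a * (z ^ (i * j) * (b ^ j * a ^ i)) = (a * z ^ (i * j)) * b ^ j * a ^ i := by group
        _ = z ^ (i * j) * (a * b ^ j) * a ^ i := by rw [← ((hzcomm a).pow_left _).eq]; group
        _ = _ := by
          rw [hswap1]
          simp only [mul_assoc, pow_succ' a i, Nat.succ_mul, pow_add]
  let g : Heis → P := fun p =>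
    b ^ (p.code.val / 3 % 3) * a ^ (p.code.val / 9) * z ^ (p.code.val % 3)
  have hmod : ∀ (w : P) {m n : ℕ}, m % 3 = n % 3 → w ^ m = w ^ n := fun w m n h => by
    rw [pow_eq_pow_mod m (he w), pow_eq_pow_mod n (he w), h]
  have hmul : ∀ p q, g (p * q) = g p * g q := by
    intro p q
    obtain ⟨⟨i, hi⟩⟩ := p
    obtain ⟨⟨j, hj⟩⟩ := q
    show b ^ ((Heis.mulN ⟨i, hi⟩ ⟨j, hj⟩).val / 3 % 3) * a ^ ((Heis.mulN ⟨i, hi⟩ ⟨j, hj⟩).val / 9) *
        z ^ ((Heis.mulN ⟨i, hi⟩ ⟨j, hj⟩).val % 3) =
      (b ^ (i / 3 % 3) * a ^ (i / 9) * z ^ (i % 3)) * (b ^ (j / 3 % 3) * a ^ (j / 9) * z ^ (j % 3))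
    rw [hmod b (m := (Heis.mulN ⟨i, hi⟩ ⟨j, hj⟩).val / 3 % 3) (n := i / 3 % 3 + j / 3 % 3)
        (by simp only [Heis.mulN]; omega),
      hmod a (m := (Heis.mulN ⟨i, hi⟩ ⟨j, hj⟩).val / 9) (n := i / 9 + j / 9)
        (by simp only [Heis.mulN]; omega),
      hmod z (m := (Heis.mulN ⟨i, hi⟩ ⟨j, hj⟩).val % 3)
        (n := i % 3 + j % 3 + i / 9 * (j / 3 % 3))
        (by simp only [Heis.mulN]; rcases (show i / 9 = 0 ∨ i / 9 = 1 ∨ i / 9 = 2 by omega) with
              h | h | h <;> rw [h] <;> omega)]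
    set A := i / 9
    set B' := j / 3 % 3
    symm
    calc b ^ (i / 3 % 3) * a ^ A * z ^ (i % 3) * (b ^ B' * a ^ (j / 9) * z ^ (j % 3))
        = b ^ (i / 3 % 3) * a ^ A * (z ^ (i % 3) * b ^ B') * a ^ (j / 9) * z ^ (j % 3) := by group
      _ = b ^ (i / 3 % 3) * (a ^ A * b ^ B') * (z ^ (i % 3) * a ^ (j / 9)) * z ^ (j % 3) := by
        rw [((hzcomm (b ^ B')).pow_left _).eq]; group
      _ = b ^ (i / 3 % 3) * (a ^ A * b ^ B') * a ^ (j / 9) * (z ^ (i % 3) * z ^ (j % 3)) := by
        rw [((hzcomm (a ^ (j / 9))).pow_left _).eq]; group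
      _ = b ^ (i / 3 % 3) * ((z ^ (A * B') * (b ^ B' * a ^ A)) * a ^ (j / 9)) *
            (z ^ (i % 3) * z ^ (j % 3)) := by rw [hswap]; group
      _ = b ^ (i / 3 % 3) * ((b ^ B' * a ^ A) * a ^ (j / 9) * z ^ (A * B')) *
            (z ^ (i % 3) * z ^ (j % 3)) := by
        rw [mul_assoc (z ^ (A * B')), ((hzcomm (b ^ B' * a ^ A * a ^ (j / 9))).pow_left _).eq]
      _ = b ^ (i / 3 % 3 + B') * a ^ (A + j / 9) * (z ^ (A * B') * (z ^ (i % 3) * z ^ (j % 3))) := by
        simp only [pow_add, mul_assoc]
      _ = _ := by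
        rw [← pow_add z (i % 3), ← pow_add z (A * B'), add_comm (A * B')]
  let G' : Heis →* P := MonoidHom.mk' g hmul
  have hx : g x = a := by simp [g, x]
  have hy : g y = b := by simp [g, y]
  have hsurj : Function.Surjective G' := by
    rw [← MonoidHom.range_eq_top]
    by_contra hne
    have hd : Nat.card G'.range ∣ 27 := hc ▸ Subgroup.card_subgroup_dvd_card _
    obtain ⟨k, hk, hke⟩ := (Nat.dvd_prime_pow Nat.prime_three).1
      (show Nat.card G'.range ∣ 3 ^ 3 from hd.trans (by norm_num))
    have hcm : ∀ u v : G'.range, u * v = v * u := by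
      interval_cases k
      · intro u v
        haveI := (Nat.card_eq_one_iff_unique.1 (hke.trans (pow_zero 3))).1
        exact Subsingleton.elim _ _
      · haveI : IsCyclic G'.range := isCyclic_of_prime_card (p := 3) (hke.trans (pow_one 3))
        exact fun u v => IsCyclic.commGroup.mul_comm u v
      · exact IsPGroup.commutative_of_card_eq_prime_sq (p := 3) hke
      · exact absurd (Subgroup.eq_top_of_card_eq _ (by rw [hke, hc]; norm_num)) hne
    exact hab (congrArg Subtype.val (hcm ⟨a, x, hx⟩ ⟨b, y, hy⟩))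
  exact ⟨(MulEquiv.ofBijective G'
    (hsurj.bijective_of_nat_card_le (by rw [card, hc]))).symm⟩

end Heis

end H4.G2Order
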