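import Cfsg.Agent.H4.G2OrderSimple
import Cfsg.Agent.S0976

/-!
A group of order `12096` without elements of order `14` or `21` has a simple subgroup of index two.
-/

set_option autoImplicit false
set_option linter.unusedSectionVars false

namespace H4.G2Order

open Subgroup
open scoped Pointwise

variable {G : Type*} [Group G] [Finite G]

/-- The hypotheses on element orders. -/
structure Hyp (G : Type*) [Group G] [Finite G] : Prop where
  card : Nat.card G = 12096
  no9 : ∀ g : G, orderOf g ≠ 9
  no14 : ∀ g : G, orderOf g ≠ 14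
  no21 : ∀ g : G, orderOf g ≠ 21

variable (h : Hyp G)

include h in
theorem centralizer_seven {x : G} (hx : orderOf x = 7) :
    centralizer ({x} : Set G) = zpowers x := by
  refine le_antisymm ?_ (zpowers_le.2 (mem_centralizer_singleton_iff.2 rfl))
  intro y hy
  have hcomm : Commute y x := mem_centralizer_singleton_iff.1 hy
  set C := centralizer ({x} : Set G)
  have hq : ∀ q : ℕ, q.Prime → q ≠ 7 → ¬ q ∣ Nat.card C := by
    intro q hq hq7 hd
    haveI := Fact.mk hq
    obtain ⟨w, hw⟩ := exists_prime_orderOf_dvd_card' q hd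
    have hw' : orderOf (w : G) = q := by rw [Subgroup.orderOf_coe, hw]
    have hc : Commute (w : G) x := mem_centralizer_singleton_iff.1 w.2
    have ho := hc.orderOf_mul_eq_mul_orderOf_of_coprime (by
      rw [hw', hx]; exact (Nat.coprime_primes hq (by norm_num)).2 hq7)
    rw [hw', hx] at ho
    have hdG : q ∣ 12096 := h.card ▸ hd.trans (card_subgroup_dvd_card _)
    have hq23 : q = 2 ∨ q = 3 := by
      have h' : q ∣ 2 ^ 6 * 3 ^ 3 * 7 := by norm_num at hdG ⊢; exact hdG
      rcases hq.dvd_mul.1 h' with h1 | h1
      · rcases hq.dvd_mul.1 h1 with h2 | h2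
        · exact Or.inl ((Nat.prime_dvd_prime_iff_eq hq Nat.prime_two).1 (hq.dvd_of_dvd_pow h2))
        · exact Or.inr ((Nat.prime_dvd_prime_iff_eq hq Nat.prime_three).1 (hq.dvd_of_dvd_pow h2))
      · exact absurd ((Nat.prime_dvd_prime_iff_eq hq (by norm_num)).1 h1) hq7
    rcases hq23 with rfl | rfl
    · exact h.no14 _ ho
    · exact h.no21 _ ho
  have hcard : Nat.card C = 7 := by
    have hd : Nat.card C ∣ 12096 := h.card ▸ card_subgroup_dvd_card _
    have h7 : 7 ∣ Nat.card C := hx ▸ Subgroup.orderOf_dvd_natCard C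
      (mem_centralizer_singleton_iff.2 rfl)
    have h2 := hq 2 Nat.prime_two (by norm_num)
    have h3 := hq 3 Nat.prime_three (by norm_num)
    have hdec : ∀ d ∈ Nat.divisors 12096, 7 ∣ d → ¬ 2 ∣ d → ¬ 3 ∣ d → d = 7 := by decide +kernel
    exact hdec _ (Nat.mem_divisors.2 ⟨hd, by norm_num⟩) h7 h2 h3
  have hle : zpowers x ≤ C := zpowers_le.2 (mem_centralizer_singleton_iff.2 rfl)
  rw [Subgroup.eq_of_le_of_card_ge hle (by rw [hcard, Nat.card_zpowers, hx])]
  exact hy

include h in
theorem card_sylow_seven [Fact (Nat.Prime 7)] : Nat.card (Sylow 7 G) = 288 := by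
  obtain ⟨P⟩ := (inferInstance : Nonempty (Sylow 7 G))
  have hP : Nat.card (P : Subgroup G) = 7 := by
    rw [H62.card_sylow_coe (a := 1) (m := 1728) (by rw [h.card]; norm_num) (by norm_num) P]
    norm_num
  obtain ⟨x, hx, hx1⟩ := (P : Subgroup G).bot_or_exists_ne_one.resolve_left fun h' => by
    rw [h', Subgroup.card_bot] at hP; omega
  have hxo : orderOf x = 7 := orderOf_eq_prime (H62.pow_card_of_mem hP hx) hx1
  have hPx : zpowers x = (P : Subgroup G) :=
    eq_of_le_of_card_ge (zpowers_le.2 hx) (by rw [hP, Nat.card_zpowers, hxo])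
  -- the normaliser has order at most 42
  set N := normalizer ((P : Subgroup G) : Set G)
  have hN : Nat.card N ≤ 42 := by
    classical
    have hf : ∀ n : N, ((n : G) * x * (n : G)⁻¹) ∈ (P : Subgroup G) := fun n =>
      (mem_normalizer_iff.1 n.2 x).1 hx
    let F : N → {u : (P : Subgroup G) // u ≠ 1} := fun n =>
      ⟨⟨_, hf n⟩, fun he => hx1 (conj_eq_one_iff.1 (congrArg Subtype.val he))⟩
    haveI := Fintype.ofFinite G
    have hfib : ∀ u, Nat.card {n : N // F n = u} ≤ 7 := by
      intro u
      by_cases hu : Nonempty {n : N // F n = u}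
      · obtain ⟨⟨n₀, hn₀⟩⟩ := hu
        refine (Nat.card_le_card_of_injective (β := ↥(centralizer ({x} : Set G)))
          (fun n => ⟨(n₀ : G)⁻¹ * (n.1 : G), ?_⟩) ?_).trans_eq
          (by rw [centralizer_seven h hxo, Nat.card_zpowers, hxo])
        · have e : ((n.1 : G) * x * (n.1 : G)⁻¹) = (n₀ : G) * x * (n₀ : G)⁻¹ :=
            congrArg (fun v : {u : (P : Subgroup G) // u ≠ 1} => ((v.1 : (P : Subgroup G)) : G))
              (n.2.trans hn₀.symm)
          rw [mem_centralizer_singleton_iff]
          calc (n₀ : G)⁻¹ * (n.1 : G) * x =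
                (n₀ : G)⁻¹ * ((n.1 : G) * x * (n.1 : G)⁻¹) * (n.1 : G) := by group
            _ = x * ((n₀ : G)⁻¹ * (n.1 : G)) := by rw [e]; group
        · intro a b e
          exact Subtype.ext (Subtype.ext (mul_left_cancel (congrArg Subtype.val e)))
      · rw [Nat.card_eq_zero.2 (Or.inl (not_nonempty_iff.1 hu))]; omega
    haveI : Fintype {u : (P : Subgroup G) // u ≠ 1} := Fintype.ofFinite _
    calc Nat.card N = Nat.card (Σ u, {n : N // F n = u}) :=
          (Nat.card_congr (Equiv.sigmaFiberEquiv F)).symm
      _ = ∑ u, Nat.card {n : N // F n = u} := Nat.card_sigma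
      _ ≤ ∑ _u : {u : (P : Subgroup G) // u ≠ 1}, 7 := Finset.sum_le_sum fun u _ => hfib u
      _ = 42 := by
        rw [Finset.sum_const, smul_eq_mul, Finset.card_univ, ← Nat.card_eq_fintype_card]
        have : Nat.card {u : (P : Subgroup G) // u ≠ 1} = 6 := by
          haveI := Fintype.ofFinite (P : Subgroup G)
          rw [Nat.card_eq_fintype_card, Fintype.card_subtype_compl, Fintype.card_subtype_eq,
            ← Nat.card_eq_fintype_card, hP]
        rw [this]
  have hm := H62.card_normalizer_mul P
  rw [h.card] at hm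
  have h1 : Nat.card (Sylow 7 G) % 7 = 1 := H62.card_sylow_mod
  have h7N : 7 ∣ Nat.card N := hP ▸ card_dvd_of_le le_normalizer
  have hdec : ∀ n < 43, 7 ∣ n → n ∣ 12096 → 12096 / n % 7 = 1 → 12096 / n = 288 := by
    decide +kernel
  have hk : 12096 / Nat.card N = Nat.card (Sylow 7 G) := by
    rw [← hm]; exact Nat.mul_div_cancel_left _ Nat.card_pos
  have hres := hdec _ (by omega) h7N ⟨_, hm.symm⟩ (by rw [hk]; exact h1)
  omega

include h in
/-- The only normal subgroup of order prime to `7` is trivial. -/
theorem normal_eq_bot {K : Subgroup G} [K.Normal] (hK : ¬ 7 ∣ Nat.card K) : K = ⊥ := by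
  classical
  haveI : Fact (Nat.Prime 7) := ⟨by norm_num⟩
  obtain ⟨x, hx⟩ := exists_prime_orderOf_dvd_card' (G := G) 7 (by rw [h.card]; norm_num)
  -- an invariant set with no fixed point but the identity
  have hfix : ∀ (L : Subgroup G), (∀ w ∈ L, x * w * x⁻¹ ∈ L) → ¬ 7 ∣ Nat.card L →
      Nat.card L % 7 = 1 := by
    intro L hL h7
    let act : MulAction (zpowers x) L :=
      { smul := fun k w => ⟨(k : G) * w * (k : G)⁻¹, by
          have hmem : ∀ k : G, k ∈ zpowers x → ∀ w ∈ L, k * w * k⁻¹ ∈ L := by
            intro k hk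
            obtain ⟨n, rfl⟩ := (isOfFinOrder_of_finite x).mem_powers_iff_mem_zpowers.2 hk
            induction n with
            | zero => simp
            | succ n ih =>
              intro w hw
              have := ih (pow_mem (mem_zpowers x) n) _ (hL w hw)
              simp only [pow_succ, mul_inv_rev]
              simpa [mul_assoc] using this
          exact hmem k k.2 w w.2⟩
        one_smul := fun w => Subtype.ext (show (1 : G) * w * (1 : G)⁻¹ = w by group)
        mul_smul := fun a b w => Subtype.ext
          (show ((a : G) * (b : G)) * w * ((a : G) * (b : G))⁻¹ =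
            (a : G) * ((b : G) * w * (b : G)⁻¹) * (a : G)⁻¹ by group) }
    letI := act
    have hp : IsPGroup 7 (zpowers x) :=
      IsPGroup.of_card (n := 1) (by rw [Nat.card_zpowers, hx, pow_one])
    have h1 := hp.card_modEq_card_fixedPoints L
    have h2 : Nat.card (MulAction.fixedPoints (zpowers x) L) = 1 := by
      rw [Nat.card_eq_one_iff_unique]
      refine ⟨⟨fun a b => ?_⟩, ⟨⟨1, fun k => Subtype.ext
        (show (k : G) * 1 * (k : G)⁻¹ = 1 by group)⟩⟩⟩
      have hone : ∀ a : MulAction.fixedPoints (zpowers x) L, (a.1 : G) = 1 := by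
        intro a
        have e : x * (a.1 : G) * x⁻¹ = a.1 :=
          congrArg Subtype.val (a.2 ⟨x, mem_zpowers x⟩)
        have hc : (a.1 : G) ∈ centralizer ({x} : Set G) :=
          mem_centralizer_singleton_iff.2 (mul_inv_eq_iff_eq_mul.1 e).symm
        rw [centralizer_seven h hx] at hc
        by_contra hne
        have ho : orderOf (a.1 : G) = 7 := by
          have hd := Subgroup.orderOf_dvd_natCard (zpowers x) hc
          rw [Nat.card_zpowers, hx] at hd
          exact ((Nat.dvd_prime (by norm_num)).1 hd).resolve_left (mt orderOf_eq_one_iff.1 hne)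
        exact h7 (ho ▸ Subgroup.orderOf_dvd_natCard L a.1.2)
      exact Subtype.ext (Subtype.ext ((hone a).trans (hone b).symm))
    rw [h2] at h1
    exact h1
  -- the order is at most `64`
  have hK23 : ∀ (K : Subgroup G) [K.Normal], ¬ 7 ∣ Nat.card K →
      Nat.card K = 1 ∨ Nat.card K = 8 ∨ Nat.card K = 64 := by
    intro K _ h7
    haveI : Fact (Nat.Prime 3) := ⟨Nat.prime_three⟩
    have h1 := hfix K (fun w hw => Normal.conj_mem inferInstance w hw x) h7
    have hd : Nat.card K ∣ 12096 := h.card ▸ card_subgroup_dvd_card K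
    have hdec : ∀ d ∈ Nat.divisors 12096, d % 7 = 1 →
        d = 1 ∨ d = 8 ∨ d = 64 ∨ 3 ∣ d := by decide +kernel
    rcases hdec _ (Nat.mem_divisors.2 ⟨hd, by norm_num⟩) h1 with h2 | h2 | h2 | h3
    · exact Or.inl h2
    · exact Or.inr (Or.inl h2)
    · exact Or.inr (Or.inr h2)
    exfalso
    let act : MulAction (zpowers x) (Sylow 3 K) :=
      MulAction.compHom _ ((MulAut.conjNormal (H := K)).comp (zpowers x).subtype)
    letI := act
    have hp : IsPGroup 7 (zpowers x) :=
      IsPGroup.of_card (n := 1) (by rw [Nat.card_zpowers, hx, pow_one])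
    obtain ⟨Q, hQ⟩ := hp.nonempty_fixed_point_of_prime_not_dvd_card (Sylow 3 K) (fun hd' => h7 (by
      obtain ⟨Q⟩ := (inferInstance : Nonempty (Sylow 3 K))
      exact hd'.trans (Q.card_dvd_index.trans (Subgroup.index_dvd_card _))))
    have hQd : 3 ∣ Nat.card (Q : Subgroup K) := Q.dvd_card_of_dvd_card h3
    have hQ27 : Nat.card (Q : Subgroup K) ∣ 27 := by
      obtain ⟨n, hn⟩ := IsPGroup.iff_card.1 Q.isPGroup'
      have h12 : Nat.card (Q : Subgroup K) ∣ 12096 :=
        (card_subgroup_dvd_card _).trans hd
      rw [hn] at h12 ⊢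
      have hn4 : n ≤ 3 := by
        by_contra hlt
        have := (pow_dvd_pow 3 (show 4 ≤ n by omega)).trans h12
        norm_num at this
      exact pow_dvd_pow 3 hn4
    have hmap : ∀ w ∈ (Q : Subgroup K).map K.subtype, x * w * x⁻¹ ∈
        (Q : Subgroup K).map K.subtype := by
      rintro _ ⟨w, hw, rfl⟩
      refine ⟨MulAut.conjNormal x w, ?_, rfl⟩
      have h2 := hQ ⟨x, mem_zpowers x⟩
      have h3' : ((MulAut.conjNormal x : MulAut K) • Q : Sylow 3 K) = Q := h2
      rw [← h3']
      show _ ∈ (MulAut.conjNormal x : MulAut K) • (Q : Subgroup K)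
      exact Subgroup.smul_mem_pointwise_smul w (MulAut.conjNormal x : MulAut K) _ hw
    have hQc : Nat.card ((Q : Subgroup K).map K.subtype) = Nat.card (Q : Subgroup K) :=
      card_map_of_injective K.subtype_injective
    have h4 := hfix _ hmap (fun h7' => by
      rw [hQc] at h7'
      have := h7'.trans hQ27
      norm_num at this)
    rw [hQc] at h4
    have hdec2 : ∀ d < 28, d ∣ 27 → 3 ∣ d → d % 7 ≠ 1 := by decide +kernel
    exact hdec2 _ (Nat.lt_succ_of_le (Nat.le_of_dvd (by norm_num) hQ27)) hQ27 hQd h4
  -- order 64 is impossible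
  have h64 : ∀ (K : Subgroup G) [K.Normal], Nat.card K ≠ 64 := by
    intro K _ hc
    have hcq : Nat.card (G ⧸ K) = 189 := by
      have := card_eq_card_quotient_mul_card_subgroup K
      rw [h.card, hc] at this; omega
    obtain ⟨R⟩ := (inferInstance : Nonempty (Sylow 7 (G ⧸ K)))
    have hR1 : Nat.card (Sylow 7 (G ⧸ K)) = 1 := by
      have h1 : Nat.card (Sylow 7 (G ⧸ K)) ∣ 27 :=
        H62.card_sylow_dvd (a := 1) (by rw [hcq]; norm_num) (by norm_num)
      have h2 : Nat.card (Sylow 7 (G ⧸ K)) % 7 = 1 := H62.card_sylow_mod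
      have hdec : ∀ d < 28, d ∣ 27 → d % 7 = 1 → d = 1 := by decide +kernel
      exact hdec _ (Nat.lt_succ_of_le (Nat.le_of_dvd (by norm_num) h1)) h1 h2
    haveI : (R : Subgroup (G ⧸ K)).Normal :=
      normalizer_eq_top_iff.1 ((H62.card_sylow_eq_one_iff R).1 hR1)
    set L := (R : Subgroup (G ⧸ K)).comap (QuotientGroup.mk' K)
    have hLn : L.Normal := inferInstance
    have hR7 : Nat.card (R : Subgroup (G ⧸ K)) = 7 := by
      rw [H62.card_sylow_coe (a := 1) (m := 27) (by rw [hcq]; norm_num) (by norm_num) R]; norm_num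
    have hLc : Nat.card L = 448 := by
      have h1 := card_eq_card_quotient_mul_card_subgroup K
      have h2 := L.card_mul_index
      rw [index_comap_of_surjective _ (QuotientGroup.mk'_surjective K)] at h2
      have h3 := (R : Subgroup (G ⧸ K)).card_mul_index
      rw [hR7, hcq] at h3
      rw [h.card, show (R : Subgroup (G ⧸ K)).index = 27 by omega] at h2
      omega
    -- all Sylow 7-subgroups lie in `L`
    have hall : ∀ P : Sylow 7 G, (P : Subgroup G) ≤ L := by
      intro P w hw
      show QuotientGroup.mk' K w ∈ (R : Subgroup (G ⧸ K))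
      have hp : IsPGroup 7 ((P : Subgroup G).map (QuotientGroup.mk' K)) := P.isPGroup'.map _
      obtain ⟨R', hR'⟩ := hp.exists_le_sylow
      haveI := (Nat.card_eq_one_iff_unique.1 hR1).1
      rw [← Subsingleton.elim R' R]
      exact hR' ⟨w, hw, rfl⟩
    have hle : Nat.card (Sylow 7 G) ≤ Nat.card (Sylow 7 L) :=
      Nat.card_le_card_of_injective (fun P => P.subtype (hall P)) fun P Q e =>
        Sylow.subtype_injective e
    have h7L : Nat.card (Sylow 7 L) ≤ 64 :=
      Nat.le_of_dvd (by norm_num) (H62.card_sylow_dvd (a := 1) (by rw [hLc]; norm_num) (by norm_num))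
    rw [card_sylow_seven h] at hle
    omega
  rcases hK23 K hK with h1 | h8 | h6
  · exact K.eq_bot_of_card_eq h1
  · exfalso
    haveI := Fintype.ofFinite G
    set C := centralizer (K : Set G)
    haveI : C.Normal := inferInstance
    have h7C : ¬ 7 ∣ Nat.card C := by
      intro hd
      obtain ⟨y, hy⟩ := exists_prime_orderOf_dvd_card' 7 hd
      have hy' : orderOf (y : G) = 7 := by rw [Subgroup.orderOf_coe, hy]
      have hKc : K ≤ centralizer ({(y : G)} : Set G) := fun k hk =>
        mem_centralizer_singleton_iff.2 ((mem_centralizer_iff.1 y.2) k hk)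
      have := card_dvd_of_le hKc
      rw [centralizer_seven h hy', h8, Nat.card_zpowers, hy'] at this
      norm_num at this
    -- generators of `K`
    haveI : Fintype K := Fintype.ofFinite K
    have hsmall : ∀ S : Subgroup K, S ≠ ⊤ → Nat.card S ∣ 4 := by
      intro S hS
      have hd : Nat.card S ∣ 8 := h8 ▸ card_subgroup_dvd_card S
      obtain ⟨k, hk, e⟩ := (Nat.dvd_prime_pow Nat.prime_two).1 (show Nat.card S ∣ 2 ^ 3 from hd.trans (by norm_num))
      have : k ≠ 3 := fun h3 => hS (eq_top_of_card_eq S (by rw [e, h8, h3]; norm_num))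
      rw [e]
      exact pow_dvd_pow 2 (show k ≤ 2 by omega)
    obtain ⟨a, b, c, hgen⟩ : ∃ a b c : K, closure ({a, b, c} : Set K) = ⊤ := by
      by_contra hne
      push Not at hne
      have step : ∀ (s : Set K), closure s ≠ ⊤ → ∃ w, w ∉ closure s := fun s hs => by
        by_contra hall
        push Not at hall
        exact hs ((eq_top_iff' _).2 hall)
      obtain ⟨a, ha⟩ := step ∅ (by
        rw [Subgroup.closure_empty]
        intro h'
        have := congrArg (fun S : Subgroup K => Nat.card S) h'
        simp only [Subgroup.card_bot, Subgroup.card_top, h8] at this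
        omega)
      obtain ⟨b, hb⟩ := step {a} (fun h' => hne a a a (by simpa using h'))
      obtain ⟨c, hc⟩ := step {a, b} (fun h' => hne a b b (by simpa using h'))
      have hlt : ∀ S T : Subgroup K, S ≤ T → ∀ w, w ∈ T → w ∉ S → 2 * Nat.card S ≤ Nat.card T := by
        intro S T hST w hwT hwS
        obtain ⟨k, hk⟩ := card_dvd_of_le hST
        have hk2 : 2 ≤ k := by
          by_contra hk1
          interval_cases k
          · simp at hk
          · exact hwS ((eq_of_le_of_card_ge hST (by rw [hk, mul_one])) ▸ hwT)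
        rw [hk, mul_comm 2]
        exact Nat.mul_le_mul_left _ hk2
      have h0 := hlt _ _ (closure_mono (Set.empty_subset {a})) a
        (subset_closure rfl) ha
      have h1 := hlt _ _ (closure_mono (show ({a} : Set K) ⊆ {a, b} by simp)) b
        (subset_closure (by simp)) hb
      have h2 := hlt _ _ (closure_mono (show ({a, b} : Set K) ⊆ {a, b, c} by
        intro u hu; simp at hu ⊢; tauto)) c (subset_closure (by simp)) hc
      have h3 := Nat.le_of_dvd (by norm_num) (hsmall _ (hne a b c))
      rw [Subgroup.closure_empty, Subgroup.card_bot] at h0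
      omega
    -- conjugation is determined by three images
    have hidx : C.index ≤ 512 := by
      let F : G ⧸ C → K × K × K := Quotient.lift
        (fun g => (MulAut.conjNormal g a, MulAut.conjNormal g b, MulAut.conjNormal g c)) (by
          intro g g' hgg
          have hgC : g⁻¹ * g' ∈ C := QuotientGroup.leftRel_apply.1 hgg
          have e : ∀ w : K, MulAut.conjNormal g w = MulAut.conjNormal g' w := fun w => by
            apply Subtype.ext
            rw [MulAut.conjNormal_apply, MulAut.conjNormal_apply]
            have := mem_centralizer_iff.1 hgC (w : G) w.2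
            calc g * (w : G) * g⁻¹ = g * ((w : G) * (g⁻¹ * g')) * g'⁻¹ := by group
              _ = g' * (w : G) * g'⁻¹ := by rw [this]; group
          simp only [e])
      have hinj : Function.Injective F := by
        intro p q
        induction p using QuotientGroup.induction_on with
        | H g =>
        induction q using QuotientGroup.induction_on with
        | H g' =>
        intro e
        refine QuotientGroup.eq.2 (mem_centralizer_iff.2 fun w hw => ?_)
        have e1 : MulAut.conjNormal g a = MulAut.conjNormal g' a := (Prod.mk.inj e).1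
        have e2 : MulAut.conjNormal g b = MulAut.conjNormal g' b :=
          (Prod.mk.inj (Prod.mk.inj e).2).1
        have e3 : MulAut.conjNormal g c = MulAut.conjNormal g' c :=
          (Prod.mk.inj (Prod.mk.inj e).2).2
        have heq : (MulAut.conjNormal g : MulAut K).toMonoidHom =
            (MulAut.conjNormal g' : MulAut K).toMonoidHom :=
          MonoidHom.eq_of_eqOn_dense hgen (by
            intro u hu
            simp only [Set.mem_insert_iff, Set.mem_singleton_iff] at hu
            rcases hu with rfl | rfl | rfl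
            exacts [e1, e2, e3])
        have := congrArg Subtype.val (DFunLike.congr_fun heq ⟨w, hw⟩)
        simp only [MulEquiv.toMonoidHom_eq_coe, MonoidHom.coe_coe, MulAut.conjNormal_apply] at this
        calc w * (g⁻¹ * g') = g⁻¹ * (g * w * g⁻¹) * g' := by group
          _ = g⁻¹ * g' * w := by rw [this]; group
      have := Nat.card_le_card_of_injective F hinj
      rw [Nat.card_prod, Nat.card_prod, h8] at this
      exact this
    have hCi := C.card_mul_index
    rw [h.card] at hCi
    rcases hK23 C h7C with h1 | h1 | h1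
    · rw [h1] at hCi; omega
    · rw [h1] at hCi; omega
    · exact h64 C h1
  · exact absurd h6 (h64 K)

include h in
/-- There is a simple normal subgroup of order `6048`. -/
theorem exists_simple_index_two :
    ∃ M : Subgroup G, M.Normal ∧ Nat.card M = 6048 ∧ IsSimpleGroup M := by
  classical
  haveI : Fact (Nat.Prime 7) := ⟨by norm_num⟩
  have htop : (⊤ : Subgroup G) ≠ ⊥ := fun h' => by
    have := congrArg (fun H : Subgroup G => Nat.card H) h'
    simp [h.card] at this
  obtain ⟨M, ⟨hMn, hMb⟩, hmin⟩ := (Set.toFinite {N : Subgroup G | N.Normal ∧ N ≠ ⊥}).exists_minimal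
    ⟨⊤, inferInstance, htop⟩
  have h7M : 7 ∣ Nat.card M := by
    by_contra h7; exact hMb (normal_eq_bot h h7)
  -- a normal subgroup of order divisible by `7` contains all Sylow subgroups
  have hin : ∀ L : Subgroup G, L.Normal → 7 ∣ Nat.card L →
      ∀ P : Sylow 7 G, (P : Subgroup G) ≤ L := by
    intro L hL hd P
    obtain ⟨y, hy⟩ := exists_prime_orderOf_dvd_card' 7 hd
    have hy' : orderOf (y : G) = 7 := by rw [Subgroup.orderOf_coe, hy]
    obtain ⟨R, hR⟩ := (IsPGroup.of_card (p := 7) (n := 1)
      (by rw [Nat.card_zpowers, hy', pow_one] : Nat.card (zpowers (y : G)) = 7 ^ 1)).exists_le_sylow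
    obtain ⟨g, hg⟩ := MulAction.exists_smul_eq G R P
    have hR7 : Nat.card (R : Subgroup G) = 7 := by
      rw [H62.card_sylow_coe (a := 1) (m := 1728) (by rw [h.card]; norm_num) (by norm_num) R]
      norm_num
    have hRy : zpowers (y : G) = (R : Subgroup G) :=
      eq_of_le_of_card_ge hR (by rw [hR7, Nat.card_zpowers, hy'])
    rw [← hg, Sylow.coe_subgroup_smul]
    intro w hw
    obtain ⟨v, hv, rfl⟩ := hw
    have hvL : v ∈ L := by
      rw [← hRy] at hv
      exact (zpowers_le.2 y.2 : zpowers (y : G) ≤ L) hv
    exact hL.conj_mem v hvL g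
  -- simplicity
  haveI := hMn
  have hsimple : IsSimpleGroup M := by
    haveI : Nontrivial M := (Subgroup.nontrivial_iff_ne_bot M).2 hMb
    refine ⟨fun L hL => ?_⟩
    by_cases h7L : 7 ∣ Nat.card L
    · right
      set K := ⨅ g : G, (L.map M.subtype).map (MulAut.conj g).toMonoidHom
      have hKn : K = (L.map M.subtype).normalCore := by
        ext w
        simp only [K, mem_iInf, mem_map_equiv]
        constructor
        · intro hw g
          have := hw g⁻¹
          simpa [MulAut.conj_symm_apply] using this
        · intro hw g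
          have := hw g⁻¹
          simpa [MulAut.conj_symm_apply] using this
      have hall : ∀ P : Sylow 7 G, (P : Subgroup G) ≤ L.map M.subtype := by
        intro P
        have hPM := hin M hMn h7M P
        obtain ⟨y, hy⟩ := exists_prime_orderOf_dvd_card' 7 h7L
        -- the Sylow subgroup of `L` is one of `M`
        obtain ⟨R⟩ := (inferInstance : Nonempty (Sylow 7 L))
        have hMc : Nat.card M ∣ 12096 := h.card ▸ card_subgroup_dvd_card M
        obtain ⟨R', hR'⟩ := (IsPGroup.of_card (p := 7) (n := 1)
          (by rw [Nat.card_zpowers, Subgroup.orderOf_coe, hy, pow_one] :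
            Nat.card (zpowers ((y : M))) = 7 ^ 1)).exists_le_sylow
        obtain ⟨g, hg⟩ := MulAction.exists_smul_eq M R' (P.subtype hPM)
        have hR7 : Nat.card (R' : Subgroup M) = 7 := by
          obtain ⟨n, hn⟩ := IsPGroup.iff_card.1 R'.isPGroup'
          have h1 : 7 ^ n ∣ 12096 := hn ▸ (card_subgroup_dvd_card _).trans hMc
          have h2 : 7 ∣ Nat.card (R' : Subgroup M) := R'.dvd_card_of_dvd_card h7M
          have hn1 : n < 2 := by
            by_contra hlt
            have := (pow_dvd_pow 7 (show 2 ≤ n by omega)).trans h1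
            norm_num at this
          interval_cases n
          · rw [hn] at h2; norm_num at h2
          · rw [hn]; norm_num
        have hRy : zpowers (y : M) = (R' : Subgroup M) := eq_of_le_of_card_ge hR'
          (by rw [hR7, Nat.card_zpowers, Subgroup.orderOf_coe, hy])
        intro w hw
        have hwS : (⟨w, hPM hw⟩ : M) ∈ ((P.subtype hPM : Sylow 7 M) : Subgroup M) := hw
        rw [← hg, Sylow.coe_subgroup_smul] at hwS
        obtain ⟨v, hv, e⟩ := hwS
        have hvL : v ∈ L := by
          rw [← hRy] at hv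
          exact (zpowers_le.2 y.2 : zpowers (y : M) ≤ L) hv
        have e' : g * v * g⁻¹ = ⟨w, hPM hw⟩ := e
        exact ⟨_, e' ▸ hL.conj_mem v hvL g, rfl⟩
      have hcore : ∀ P : Sylow 7 G, (P : Subgroup G) ≤ (L.map M.subtype).normalCore := by
        intro P w hw g
        have := hall (g • P) (show g * w * g⁻¹ ∈ ((g • P : Sylow 7 G) : Subgroup G) by
          rw [Sylow.coe_subgroup_smul]; exact ⟨w, hw, rfl⟩)
        exact this
      obtain ⟨P⟩ := (inferInstance : Nonempty (Sylow 7 G))
      have hne : (L.map M.subtype).normalCore ≠ ⊥ := fun h' => by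
        have := P.dvd_card_of_dvd_card (show 7 ∣ Nat.card G by rw [h.card]; norm_num)
        rw [le_bot_iff.1 ((hcore P).trans h'.le), Subgroup.card_bot] at this
        norm_num at this
      have hle : (L.map M.subtype).normalCore ≤ M :=
        (normalCore_le _).trans (map_subtype_le L)
      have hM := hmin ⟨normalCore_normal _, hne⟩ hle
      rw [eq_top_iff']
      intro w
      obtain ⟨v, hv, e⟩ := normalCore_le _ (hM w.2)
      exact Subtype.ext e ▸ hv
    · left
      -- the largest normal subgroup of order prime to `7`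
      obtain ⟨K, hK, hKmax⟩ := (Set.toFinite {K : Subgroup M | K.Normal ∧ ¬ 7 ∣ Nat.card K}).exists_maximal
        ⟨L, hL, h7L⟩
      have hjoin : ∀ K' : Subgroup M, K'.Normal → ¬ 7 ∣ Nat.card K' → K' ≤ K := by
        intro K' hn h7'
        haveI := hn
        haveI := hK.1
        have hsup : ¬ 7 ∣ Nat.card (K ⊔ K' : Subgroup M) := by
          intro hd
          obtain ⟨w, hw⟩ := exists_prime_orderOf_dvd_card' 7 hd
          have ho : orderOf ((QuotientGroup.mk' K) (w : M)) ∣ Nat.card K' := by
            have hmem : (QuotientGroup.mk' K) (w : M) ∈ K'.map (QuotientGroup.mk' K) := by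
              obtain ⟨k, hk, k', hk', e⟩ := mem_sup_of_normal_left.1 w.2
              refine ⟨k', hk', ?_⟩
              rw [← e, map_mul, (QuotientGroup.eq_one_iff k).2 hk |> fun h : (QuotientGroup.mk' K) k = 1 => h,
                one_mul]
            exact (orderOf_dvd_natCard _ hmem).trans (card_map_dvd _ _)
          have hd7 : orderOf ((QuotientGroup.mk' K) (w : M)) ∣ 7 := by
            rw [← hw, ← Subgroup.orderOf_coe]; exact orderOf_map_dvd _ _
          rcases (Nat.dvd_prime (by norm_num)).1 hd7 with h1 | h1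
          · have : (w : M) ∈ K := (QuotientGroup.eq_one_iff _).1 (orderOf_eq_one_iff.1 h1)
            exact hK.2 (hw ▸ Subgroup.orderOf_coe w ▸ orderOf_dvd_natCard K this)
          · exact h7' (h1 ▸ ho)
        exact le_sup_right.trans (hKmax ⟨inferInstance, hsup⟩ le_sup_left)
      haveI : (K.map M.subtype).Normal := by
        refine ⟨fun w hw g => ?_⟩
        obtain ⟨v, hv, rfl⟩ := hw
        have hle : K.map (MulAut.conjNormal g : MulAut M).toMonoidHom ≤ K :=
          hjoin _ (hK.1.map _ (MulEquiv.surjective _)) (by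
            rw [card_map_of_injective (MulEquiv.injective _)]; exact hK.2)
        exact ⟨_, hle ⟨v, hv, rfl⟩, MulAut.conjNormal_apply g v⟩
      have hb := normal_eq_bot h (K := K.map M.subtype)
        (by rw [card_map_of_injective M.subtype_injective]; exact hK.2)
      rw [map_eq_bot_iff_of_injective K M.subtype_injective] at hb
      exact le_bot_iff.1 (hb ▸ hjoin L hL h7L)
  -- the order
  haveI := hsimple
  have hs : Nat.card (Sylow 7 M) = 288 := by
    rw [← card_sylow_seven h]
    refine (Nat.card_eq_of_bijective (fun P : Sylow 7 G => P.subtype (hin M hMn h7M P))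
      ⟨fun P Q e => Sylow.subtype_injective e, fun R => ?_⟩).symm
    obtain ⟨P, hP⟩ := (R.isPGroup'.map M.subtype).exists_le_sylow
    refine ⟨P, Sylow.ext (R.is_maximal' (P.subtype (hin M hMn h7M P)).isPGroup' ?_)⟩
    intro w hw
    exact hP ⟨w, hw, rfl⟩
  have hMd : Nat.card M ∣ 12096 := h.card ▸ card_subgroup_dvd_card M
  have h288 : 288 ∣ Nat.card M := hs ▸ (Sylow.card_dvd_index default).trans (index_dvd_card _)
  have hdec : ∀ d ∈ Nat.divisors 12096, 7 ∣ d → 288 ∣ d →
      d = 2016 ∨ d = 4032 ∨ d = 6048 ∨ d = 12096 := by decide +kernel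
  haveI := Fintype.ofFinite M
  rcases hdec _ (Nat.mem_divisors.2 ⟨hMd, by norm_num⟩) h7M h288 with h1 | h1 | h1 | h1
  · exfalso
    obtain ⟨P⟩ := (inferInstance : Nonempty (Sylow 7 M))
    obtain ⟨-, -, e, he, -⟩ := H62.normalizer_threePrimes (p := 2) (q := 3) (r := 7) (a := 5)
      (b := 2) Nat.prime_two Nat.prime_three (by decide) (by decide) (by decide)
      (h1.trans (by norm_num)) (by norm_num) P
    rw [show H62.selfCentralIndices (2 ^ 5 * 3 ^ 2 * 7) 7 = ∅ by decide +kernel] at he
    simp at he
  · exact absurd h1 Cfsg.Agent.S0976.result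
  · exact ⟨M, hMn, h1, hsimple⟩
  · exact absurd h1 card_ne_12096

end H4.G2Order
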