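import Cfsg.Agent.H4.G2OrderHeis

/-!
The permutation group of degree `28` with the order and element orders of `G₂(2)`: data and search.
-/

set_option autoImplicit false
set_option linter.unusedSectionVars false

namespace H4.G2Order

open Heis

/-- Sixteen automorphisms, five bits for each value. -/
def tCodes : List ℕ := [
  36485634846548906633991799739614356408352,
  25335987427603047256499941464859107066944,
  30951542901490131644205516949620224623680,
  8516791309183360469048153631022954383392,
  12731516026848605056873402726742211692576,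
  36443655721915019987311182793817093506112,
  4260734415196872033553212836916811596864,
  30869178913494559224061947845605484431392,
  19625449674153336999180297029247544002592,
  12690784225915937986436667576281189155904,
  22521964841421447006690245168782372570176,
  4302195219823136196281110692402385324064,
  25376590566090064848445151119117689489440,
  19583856466197257225645329494955475338304,
  8476230906146170781331177325280707773504,
  22439729492318476877595225868602697123872]

/-- For each code a word `a ^ i b ^ j` and the code of a representative. -/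
def wTab : List (ℕ × ℕ × ℕ) := [
  (0, 0, 0), (0, 0, 1), (0, 1, 1), (0, 0, 3), (0, 0, 4), (4, 1, 4),
  (0, 1, 3), (4, 0, 4), (0, 1, 4), (3, 1, 3), (3, 1, 4), (7, 0, 4),
  (5, 1, 4), (1, 0, 4), (1, 0, 3), (6, 1, 4), (2, 0, 3), (2, 0, 4),
  (3, 0, 3), (7, 1, 4), (3, 0, 4), (2, 1, 4), (2, 1, 3), (6, 0, 4),
  (1, 1, 4), (5, 0, 4), (1, 1, 3)]

/-- The automorphisms of the two-point stabiliser. -/
def tFun (k : Fin 16) (p : Heis) : Heis :=
  ⟨Fin.ofNat 27 ((tCodes.getD k.val 0 >>> (5 * p.code.val)) &&& 31)⟩

theorem tFun_check : ∀ k : Fin 16, (∀ p q : Heis, tFun k (p * q) = tFun k p * tFun k q) ∧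
    ∀ p : Heis, tFun k p = 1 → p = 1 := by
  decide +kernel

theorem tFun_closed : (∀ i j : Fin 16, ∃ k : Fin 16, ∀ p, tFun i (tFun j p) = tFun k p) ∧
    (∀ i : Fin 16, ∃ k : Fin 16, ∀ p, tFun k (tFun i p) = p) ∧
    (∀ i j : Fin 16, i ≠ j → ∃ p, tFun i p ≠ tFun j p) ∧ ∀ p, tFun 0 p = p := by
  decide +kernel

/-- The automorphism with index `k`. -/
noncomputable def tAut (k : Fin 16) : MulAut Heis :=
  MulEquiv.ofBijective (MonoidHom.mk' (tFun k) (tFun_check k).1)
    ((Fintype.bijective_iff_injective_and_card _).2
      ⟨(injective_iff_map_eq_one _).2 (tFun_check k).2, rfl⟩)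

@[simp] theorem tAut_apply (k : Fin 16) (p : Heis) : tAut k p = tFun k p := rfl

/-- The two-point stabiliser. -/
noncomputable def tGroup : Subgroup (MulAut Heis) where
  carrier := Set.range tAut
  one_mem' := ⟨0, MulEquiv.ext tFun_closed.2.2.2⟩
  mul_mem' := by
    rintro _ _ ⟨i, rfl⟩ ⟨j, rfl⟩
    obtain ⟨k, hk⟩ := tFun_closed.1 i j
    exact ⟨k, MulEquiv.ext fun p => (hk p).symm⟩
  inv_mem' := by
    rintro _ ⟨i, rfl⟩
    obtain ⟨k, hk⟩ := tFun_closed.2.1 i
    exact ⟨k, eq_inv_of_mul_eq_one_left (MulEquiv.ext hk)⟩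

theorem card_tGroup : Nat.card tGroup = 16 := by
  have hinj : Function.Injective tAut := fun i j h => by
    by_contra hne
    obtain ⟨p, hp⟩ := tFun_closed.2.2.1 i j hne
    exact hp (DFunLike.congr_fun h p)
  exact ((Nat.card_congr (Equiv.ofInjective tAut hinj)).symm.trans (Nat.card_fin 16))

/-- Apply the word `a ^ i b ^ j` in the given images of the two generators. -/
def applyW (A B : Fin 16) (w : ℕ × ℕ × ℕ) (q : Heis) : Heis :=
  (tFun A)^[w.1] ((tFun B)^[w.2.1] q)

/-- The word and representative of an element. -/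
def wOf (q : Heis) : ℕ × ℕ × ℕ := wTab.getD q.code.val (0, 0, 0)

theorem wOf_spec : ∀ q : Heis, q ≠ 1 →
    applyW 2 1 (wOf q) ⟨Fin.ofNat 27 (wOf q).2.2⟩ = q ∧
      ((wOf q).2.2 = 1 ∨ (wOf q).2.2 = 3 ∨ (wOf q).2.2 = 4) := by
  decide +kernel

/-- The elements of the orbit of length eight. -/
def orbEight : List Heis := ([3, 6, 9, 14, 16, 18, 22, 26] : List (Fin 27)).map Heis.mk

/-- The elements of the orbit of length two. -/
def orbTwo : List Heis := ([1, 2] : List (Fin 27)).map Heis.mk

/-- The size of the stabiliser of an element. -/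
def stabSize (q : Heis) : ℕ := ((List.finRange 16).filter fun k => tFun k q == q).length

theorem stab_rep : stabSize ⟨1⟩ = 8 ∧ stabSize ⟨3⟩ = 2 ∧ stabSize ⟨4⟩ = 1 := by decide +kernel

theorem stab_spec : ∀ q : Heis, q ≠ 1 → (stabSize q = 8 → q ∈ orbTwo) ∧
    (stabSize q = 2 → q ∈ orbEight) ∧ (stabSize q = 1 → ∃ k, tFun k q = ⟨4⟩) := by
  decide +kernel

/-- A candidate for the element interchanging the two points. -/
def cand (A B : Fin 16) (y₂ y₈ : Heis) : Option Heis → Option Heis
  | none => some 1
  | some q => if q = 1 then none else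
      some (applyW A B (wOf q)
        (if (wOf q).2.2 = 1 then y₂ else if (wOf q).2.2 = 3 then y₈ else ⟨4⟩))

/-- Left translation. -/
def shift (p : Heis) (o : Option Heis) : Option Heis := o.map (p * ·)

/-- The product `g u g r g` for `u` the inverse of the image of `r`. -/
def triple (g : Option Heis → Option Heis) (r : Heis) (o : Option Heis) : Option Heis :=
  g (shift ((g (some r)).getD 1)⁻¹ (g (shift r (g o))))

/-- The product lies in the point stabiliser. -/
def tripleOK (g : Option Heis → Option Heis) (r : Heis) : Bool :=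
  match triple g r (some 1) with
  | none => false
  | some p => (List.finRange 16).any fun k =>
      (List.finRange 27).all fun q => triple g r (some ⟨q⟩) == some (p * tFun k ⟨q⟩)

/-- All candidates passing the test are equal to one. -/
def searchTwo : Bool :=
  (List.finRange 16).all fun A => (List.finRange 16).all fun B =>
    orbTwo.all fun y₂ => orbEight.all fun y₈ =>
      ! (tripleOK (cand A B y₂ y₈) ⟨4⟩ && tripleOK (cand A B y₂ y₈) ⟨3⟩ &&
          tripleOK (cand A B y₂ y₈) ⟨1⟩) ||
        (A == 14 && B == 5 && y₂ == ⟨2⟩ && y₈ == ⟨9⟩)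

theorem searchTwo_eq : searchTwo = true := by decide +kernel

/-- The element interchanging the two points. -/
def swap₀ : Option Heis → Option Heis := cand 14 5 ⟨2⟩ ⟨9⟩

/-- The permutation group of degree `28`. -/
def model : Subgroup (Equiv.Perm (Option Heis)) :=
  Subgroup.closure {σ | (∃ p : Heis, ∀ o, σ o = shift p o) ∨
    (∃ k : Fin 16, ∀ o, σ o = o.map (tFun k)) ∨ ∀ o, σ o = swap₀ o}

end H4.G2Order
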