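import Mathlib

/-!
Finite searches over character degrees and values for the order `12096`.
-/

set_option autoImplicit false

namespace H4.G2Order

/-- The admissible pairs of a value at an element of order seven and a degree. -/
def pairs : List (ℤ × ℕ) :=
  ((List.range 110).filter fun d => (3 ≤ d) && (12096 % d == 0)).flatMap fun d : ℕ =>
    (([1, -1, 2, -2] : List ℤ).filter fun r => ((d : ℤ) - r) % 7 == 0).map fun r => (r, d)

/-- The sublists with repetition of total weight `R`, the weight of a pair being the square of its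
first entry. -/
def combos : List (ℤ × ℕ) → ℕ → List (List (ℤ × ℕ))
  | [], R => if R = 0 then [[]] else []
  | a :: as, R => (List.range (R + 1)).flatMap fun k =>
      if k * a.1.natAbs ^ 2 ≤ R then
        (combos as (R - k * a.1.natAbs ^ 2)).map (List.replicate k a ++ ·)
      else []

theorem exists_combo {ι : Type*} [DecidableEq ι] (f : ι → ℤ × ℕ) : ∀ (C : List (ℤ × ℕ)) (R : ℕ)
    (T : Finset ι), (∀ χ ∈ T, f χ ∈ C ∧ (f χ).1 ≠ 0) → ∑ χ ∈ T, (f χ).1.natAbs ^ 2 = R →
    ∃ l : List ι, l.Nodup ∧ l.toFinset = T ∧ l.map f ∈ combos C R := by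
  intro C
  induction C with
  | nil =>
    intro R T hT hR
    have hT0 : T = ∅ := Finset.eq_empty_of_forall_notMem fun χ hχ => by simpa using (hT χ hχ).1
    subst hT0
    rw [Finset.sum_empty] at hR
    subst hR
    exact ⟨[], List.nodup_nil, rfl, by simp [combos]⟩
  | cons a as ih =>
    intro R T hT hR
    set A := T.filter (fun χ => f χ = a) with hA
    have hsplit := Finset.sum_filter_add_sum_filter_not T (fun χ => f χ = a)
      (fun χ => (f χ).1.natAbs ^ 2)
    rw [hR, Finset.sum_congr rfl (fun χ hχ => by rw [(Finset.mem_filter.1 hχ).2]),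
      Finset.sum_const, smul_eq_mul, ← hA] at hsplit
    obtain ⟨l, hl, hlT, hlm⟩ := ih (R - A.card * a.1.natAbs ^ 2) (T.filter fun χ => ¬ f χ = a)
      (fun χ hχ => ⟨(List.mem_cons.1 (hT χ (Finset.mem_filter.1 hχ).1).1).resolve_left
        (Finset.mem_filter.1 hχ).2, (hT χ (Finset.mem_filter.1 hχ).1).2⟩) (by omega)
    refine ⟨A.toList ++ l, ?_, ?_, ?_⟩
    · refine List.nodup_append.2 ⟨A.nodup_toList, hl, fun x hx y hy e => ?_⟩
      subst e
      rw [← List.mem_toFinset, hlT] at hy
      exact (Finset.mem_filter.1 hy).2 (Finset.mem_filter.1 (Finset.mem_toList.1 hx)).2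
    · rw [List.toFinset_append, Finset.toList_toFinset, hlT, Finset.filter_union_filter_not_eq]
    · rw [List.map_append, combos, List.mem_flatMap]
      have hrep : A.toList.map f = List.replicate A.card a := by
        rw [List.eq_replicate_iff, List.length_map, Finset.length_toList]
        refine ⟨rfl, fun x hx => ?_⟩
        obtain ⟨χ, hχ, rfl⟩ := List.mem_map.1 hx
        exact (Finset.mem_filter.1 (Finset.mem_toList.1 hχ)).2
      have hle : A.card * a.1.natAbs ^ 2 ≤ R := by omega
      refine ⟨A.card, List.mem_range.2 ?_, ?_⟩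
      · by_cases h0 : a.1 = 0
        · have hA : A = ∅ ∨ 0 < A.card := (Finset.eq_empty_or_nonempty A).imp id Finset.card_pos.2
          rcases hA with hA | hA
          · rw [hA]; simp
          · obtain ⟨χ, hχ⟩ := Finset.card_pos.1 hA
            exact absurd ((Finset.mem_filter.1 hχ).2 ▸ h0) (hT χ (Finset.mem_filter.1 hχ).1).2
        · have : 1 ≤ a.1.natAbs ^ 2 := Nat.one_le_pow _ _ (Int.natAbs_pos.2 h0)
          have : A.card * 1 ≤ A.card * a.1.natAbs ^ 2 := Nat.mul_le_mul_left _ this
          omega
      · rw [if_pos hle]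
        exact List.mem_map.2 ⟨_, hlm, by rw [hrep]⟩

/-- The candidate values congruent to `d` modulo `4` other than `d`. -/
def vals (d : ℕ) : List ℤ := (List.range ((d - 1) / 2)).map fun j : ℕ => (d : ℤ) - 4 * ((j : ℤ) + 1)

theorem mem_vals {d : ℕ} {v : ℤ} (h4 : (4 : ℤ) ∣ (d : ℤ) - v) (hv : |v| < (d : ℤ)) :
    v ∈ vals d := by
  obtain ⟨j, hj⟩ := h4
  rw [abs_lt] at hv
  refine List.mem_map.2 ⟨(j - 1).toNat, List.mem_range.2 ?_, ?_⟩
  · omega
  · omega

/-- No assignment of values to the list completes the three running sums to an accepted state. -/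
def search (B : ℤ) (fin : ℤ → ℤ → ℤ → Bool) : List (ℤ × ℕ) → ℤ → ℤ → ℤ → Bool
  | [], V, Q, T => ! fin V Q T
  | [a], V, Q, T =>
      let v := (-1 - V) / a.1
      ! (decide (Q + v * v ≤ B) && fin (V + a.1 * v) (Q + v * v) (T + a.1 * v * v * (1728 / a.2 : ℕ)))
  | a :: b :: as, V, Q, T => (vals a.2).all fun v =>
      decide (B < Q + v * v) ||
        search B fin (b :: as) (V + a.1 * v) (Q + v * v) (T + a.1 * v * v * (1728 / a.2 : ℕ))

theorem fin_false_of_search {ι : Type*} (f : ι → ℤ × ℕ) (v : ι → ℤ) (B : ℤ)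
    (fin : ℤ → ℤ → ℤ → Bool) (hfin : ∀ V Q T, fin V Q T = true → V = -1) :
    ∀ (l : List ι) (V Q T : ℤ),
    search B fin (l.map f) V Q T = true → (∀ χ ∈ l, v χ ∈ vals (f χ).2 ∧ (f χ).1 ≠ 0) →
    Q + (l.map fun χ => v χ * v χ).sum ≤ B →
    fin (V + (l.map fun χ => (f χ).1 * v χ).sum) (Q + (l.map fun χ => v χ * v χ).sum)
      (T + (l.map fun χ => (f χ).1 * v χ * v χ * (1728 / (f χ).2 : ℕ)).sum) = false := by
  intro l
  induction l with
  | nil => intro V Q T h _ _; simpa [search] using h
  | cons χ l ih =>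
    intro V Q T h hv hB
    obtain ⟨hvm, hr0⟩ := hv χ (List.mem_cons_self ..)
    cases l with
    | nil =>
      simp only [List.map_cons, List.map_nil, List.sum_cons, List.sum_nil, add_zero] at hB ⊢
      by_contra hf
      rw [Bool.not_eq_false] at hf
      have hV := hfin _ _ _ hf
      have e : (-1 - V) / (f χ).1 = v χ := by
        rw [show -1 - V = (f χ).1 * v χ by omega, Int.mul_ediv_cancel_left _ hr0]
      simp only [List.map_cons, List.map_nil, search, e, hB, decide_true, hf, Bool.and_self,
        Bool.not_true, Bool.false_eq_true] at h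
    | cons χ' l' =>
      simp only [List.map_cons, List.sum_cons, search, List.all_eq_true, Bool.or_eq_true,
        decide_eq_true_eq] at h hB ih ⊢
      have hnn : 0 ≤ (l'.map fun χ => v χ * v χ).sum :=
        List.sum_nonneg fun x hx => by
          obtain ⟨y, -, rfl⟩ := List.mem_map.1 hx
          exact mul_self_nonneg _
      rcases h (v χ) hvm with h | h
      · exfalso; nlinarith [mul_self_nonneg (v χ')]
      · have := ih _ _ _ h (fun x hx => hv x (List.mem_cons_of_mem _ hx)) (by linarith)
        simpa [add_assoc] using this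

/-- The degree relations. -/
def degOK (l : List (ℤ × ℕ)) : Bool :=
  ((l.map fun a => a.1 * (a.2 : ℤ)).sum == -1) && decide ((l.map fun a => a.2 * a.2).sum < 12096)

/-- The divisors of `1728` up to `288`. -/
def cList : List ℕ :=
  [1, 2, 3, 4, 6, 8, 9, 12, 16, 18, 24, 27, 32, 36, 48, 54, 64, 72, 96, 108, 144, 192, 216, 288]

theorem mem_cList : ∀ c < 289, c ∣ 1728 → c ∈ cList := by decide +kernel

/-- The state at an inverting involution with centraliser order divisible by `m`. -/
def finT (m : ℕ) (V Q T : ℤ) : Bool :=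
  (V == -1) && cList.any fun c : ℕ =>
    (((c : ℤ) * c) == 1728 + T) && decide (Q + 1 ≤ (c : ℤ)) && (c % m == 0)

/-- The state at an involution of another class. -/
def finZ (V _Q T : ℤ) : Bool := (V == -1) && (T == -1728)

theorem finT_imp {m : ℕ} (V Q T : ℤ) (h : finT m V Q T = true) : V = -1 := by
  simp only [finT, Bool.and_eq_true, beq_iff_eq] at h
  exact h.1

theorem finZ_imp (V Q T : ℤ) (h : finZ V Q T = true) : V = -1 := by
  simp only [finZ, Bool.and_eq_true, beq_iff_eq] at h
  exact h.1

/-- All searches succeed. -/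
def allDead : Bool :=
  (combos pairs 6).all fun l => !degOK l ||
    (search 287 (finT 1) l 0 0 0 || (search 287 (finT 64) l 0 0 0 && search 575 finZ l 0 0 0))

theorem allDead_eq : allDead = true := by decide +kernel

end H4.G2Order
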