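import Cfsg.Agent.H4.G2OrderSearch
import Cfsg.Agent.H4.G2OrderChars
import Cfsg.Agent.H62.SelfCentralNumber
import Cfsg.Agent.H62.DihedralChar
import Cfsg.Agent.H12.Integral
import Cfsg.Agent.H62.Order5472

/-!
No simple group has order `12096`.
-/

set_option autoImplicit false
set_option linter.unusedSectionVars false

open Cfsg
open scoped ComplexConjugate

namespace H4.G2Order

universe u

variable {G : Type u} [Group G] [Fintype G]

/-- A nontrivial irreducible character of a simple group is not minus its degree at a nontrivial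
element. -/
theorem apply_ne_neg_degree [IsSimpleGroup G] (hG : ¬ IsMulCommutative G) {χ : IrrCharacter G}
    (hχ : χ ≠ H12.oneIrr G) {g : G} (hg : g ≠ 1) :
    (χ : G → ℂ) g ≠ -(H12.degree (χ : G → ℂ) : ℂ) := by
  classical
  intro h
  obtain ⟨n, ρ, hirr, hρ⟩ := χ.2
  obtain ⟨μ, hμ, hpow, hscal⟩ := H12.exists_char_eigenvalues ρ g
  have h1 : (χ : G → ℂ) g = ∑ i, μ i := by rw [← hρ]; simpa using hpow 1
  have hdeg : H12.degree (χ : G → ℂ) = Module.finrank ℂ (Fin n → ℂ) := by
    rw [← hρ, H12.degree_character]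
  have hre : ∑ i, -(μ i).re = ∑ _i : Fin (Module.finrank ℂ (Fin n → ℂ)), (1 : ℝ) := by
    rw [Finset.sum_neg_distrib, ← Complex.re_sum, ← h1, h, hdeg]
    simp
  have hn1 : ∀ i, ‖μ i‖ = 1 := fun i => H12.norm_eq_one_of_pow_eq_one (orderOf_pos g).ne' (hμ i)
  have hle : ∀ i ∈ (Finset.univ : Finset (Fin (Module.finrank ℂ (Fin n → ℂ)))),
      -(μ i).re ≤ 1 := fun i _ =>
    (neg_le_abs _).trans ((Complex.abs_re_le_norm _).trans (hn1 i).le)
  have heq := (Finset.sum_eq_sum_iff_of_le hle).1 hre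
  have hμ1 : ∀ i, μ i = -1 := by
    intro i
    have hre1 : (μ i).re = -1 := by linarith [heq i (Finset.mem_univ i)]
    have hsq := Complex.sq_norm (μ i)
    rw [hn1, Complex.normSq_apply, hre1] at hsq
    have him : (μ i).im = 0 := by nlinarith
    exact Complex.ext (by rw [hre1]; simp) (by rw [him]; simp)
  have hs := hscal (-1) hμ1
  have hker : ρ.ker = ⊥ := by
    refine ((MonoidHom.normal_ker ρ).eq_bot_or_eq_top).resolve_right fun htop => ?_
    have : ρ g = LinearMap.id := MonoidHom.mem_ker.1 (htop ▸ Subgroup.mem_top g)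
    rw [← hρ, H12.degree_character, (H12.character_eq_finrank_iff ρ g).2 this] at h
    have hpos := H12.irr_degree_pos χ
    rw [hdeg] at hpos
    have h0 : (2 * (Module.finrank ℂ (Fin n → ℂ)) : ℂ) = 0 := by linear_combination h
    norm_cast at h0
    omega
  have hcen : g ∈ Subgroup.center G := by
    rw [Subgroup.mem_center_iff]
    intro y
    apply (MonoidHom.ker_eq_bot_iff ρ).1 hker
    rw [map_mul, map_mul, hs]
    refine LinearMap.ext fun x => ?_
    simp [Module.End.mul_apply]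
  rw [H62.center_eq_bot_of_simple hG] at hcen
  exact hg (Subgroup.mem_bot.1 hcen)

/-- No simple group has order `12096`. -/
theorem card_ne_12096 [IsSimpleGroup G] : Nat.card G ≠ 12096 := by
  intro hn
  classical
  haveI : Fact (Nat.Prime 7) := ⟨by norm_num⟩
  haveI : Fact (Nat.Prime 2) := ⟨Nat.prime_two⟩
  have hG : ¬ IsMulCommutative G := H62.not_comm_of_not_prime (by rw [hn]; norm_num)
  have hna : Subgroup.center G ≠ ⊤ := fun hc =>
    hG ⟨⟨fun a b => (Subgroup.mem_center_iff.1 (hc ▸ Subgroup.mem_top b) a)⟩⟩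
  obtain ⟨P⟩ := (inferInstance : Nonempty (Sylow 7 G))
  obtain ⟨hP, hC, e, he, hN⟩ := H62.normalizer_threePrimes (p := 2) (q := 3) (r := 7) (a := 6)
    (b := 3) Nat.prime_two Nat.prime_three (by decide) (by decide) (by decide)
    (hn.trans (by norm_num)) (by norm_num) P
  rw [show H62.selfCentralIndices (2 ^ 6 * 3 ^ 3 * 7) 7 = {6} by decide +kernel,
    Finset.mem_singleton] at he
  subst he
  set N := Subgroup.normalizer ((P : Subgroup G) : Set G) with hNdef
  obtain ⟨t, htN, ht⟩ := H65.exists_involution_of_even N (by rw [hN]; decide)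
  have hti : ∀ w ∈ (P : Subgroup G), t * w * t⁻¹ = w⁻¹ := fun w hw =>
    H62.involution_inverts hP hC (by norm_num) ht htN hw
  obtain ⟨x, hxP, hx1⟩ := (P : Subgroup G).bot_or_exists_ne_one.resolve_left fun h => by
    rw [h, Subgroup.card_bot] at hP; omega
  have hxo : orderOf x = 7 := orderOf_eq_prime (H62.pow_card_of_mem hP hxP) hx1
  have hCx := H62.centralizer_eq_of_mem hP hC hxP hx1
  -- the nontrivial elements of `P` are conjugate
  let E : Finset G := (Finset.univ.filter fun u => u ∈ (P : Subgroup G)).erase 1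
  have hEcard : E.card = 6 := by
    rw [Finset.card_erase_of_mem (by simp), ← Fintype.card_subtype, ← Nat.card_eq_fintype_card]
    exact congrArg (· - 1) hP
  have hconjP : ∀ u ∈ (P : Subgroup G), u ≠ 1 → IsConj x u := by
    intro u hu hu1
    let Nf : Finset G := Finset.univ.filter fun g => g ∈ N
    have hsub : Nf.image (fun g => g * x * g⁻¹) ⊆ E := by
      intro w hw
      obtain ⟨g, hg, rfl⟩ := Finset.mem_image.1 hw
      refine Finset.mem_erase.2 ⟨fun h => hx1 (conj_eq_one_iff.1 h), Finset.mem_filter.2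
        ⟨Finset.mem_univ _, (Subgroup.mem_normalizer_iff.1 (Finset.mem_filter.1 hg).2 x).1 hxP⟩⟩
    have hfib : ∀ w ∈ Nf.image (fun g => g * x * g⁻¹),
        (Nf.filter fun g => g * x * g⁻¹ = w).card ≤ 7 := by
      intro w hw
      obtain ⟨g₀, -, rfl⟩ := Finset.mem_image.1 hw
      refine (Finset.card_le_card_of_injOn (fun g => g₀⁻¹ * g)
        (t := Finset.univ.filter fun g => g ∈ (P : Subgroup G)) ?_ ?_).trans_eq
        (by rw [← Fintype.card_subtype, ← Nat.card_eq_fintype_card]; exact hP)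
      · intro g hg
        rw [Finset.mem_coe, Finset.mem_filter] at hg
        refine Finset.mem_filter.2 ⟨Finset.mem_univ _, ?_⟩
        rw [← hCx, Subgroup.mem_centralizer_singleton_iff]
        calc g₀⁻¹ * g * x = g₀⁻¹ * (g * x * g⁻¹) * g := by group
          _ = x * (g₀⁻¹ * g) := by rw [hg.2]; group
      · intro a _ b _ h
        exact mul_left_cancel h
    have h1 := Finset.card_le_mul_card_image Nf 7 hfib
    rw [show Nf.card = 42 by
      rw [← Fintype.card_subtype, ← Nat.card_eq_fintype_card]; exact hN] at h1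
    have h2 := Finset.eq_of_subset_of_card_le hsub (by omega)
    obtain ⟨g, -, hg⟩ := Finset.mem_image.1 (h2.ge (Finset.mem_erase.2 ⟨hu1, by simp [hu]⟩))
    exact isConj_iff.2 ⟨g, hg⟩
  -- values at `x`
  have hrat : ∀ χ : IrrCharacter G, ∃ r : ℤ, (χ : G → ℂ) x = r ∧
      (7 : ℤ) ∣ (H12.degree (χ : G → ℂ) : ℤ) - r := by
    intro χ
    obtain ⟨m, hm⟩ := H12.IsCharacter.classInner_nat
      (H12.IsCharacter.res (H12.isCharacter_irr χ) (P : Subgroup G))
      (H12.isCharacter_monoidHom (1 : (P : Subgroup G) →* ℂˣ))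
    rw [H12.classInner_def, ← Finset.add_sum_erase _ _ (Finset.mem_univ (1 : (P : Subgroup G))),
      Finset.sum_congr rfl (g := fun _ => (χ : G → ℂ) x) (fun u hu => by
        have hconj := hconjP u u.2 fun h1 => Finset.ne_of_mem_erase hu (Subtype.ext h1)
        simp [(H12.isConj_iff_irr x u).1 hconj χ]),
      Finset.sum_const, Finset.card_erase_of_mem (Finset.mem_univ _), Finset.card_univ,
      nsmul_eq_mul, ← Nat.card_eq_fintype_card, hP] at hm
    simp only [OneMemClass.coe_one, MonoidHom.one_apply, Units.val_one, map_one, mul_one,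
      H12.irr_apply_one, Nat.cast_ofNat] at hm
    norm_num at hm
    have h6 : (χ : G → ℂ) x =
        (((7 * (m : ℤ) - (H12.degree (χ : G → ℂ) : ℤ) : ℤ) : ℚ) / 6 : ℚ) := by
      push_cast; linear_combination (7 / 6 : ℂ) * hm
    obtain ⟨r, hr⟩ := H12.exists_int_of_isIntegral_rat
      (q := ((7 * (m : ℤ) - (H12.degree (χ : G → ℂ) : ℤ) : ℤ) : ℚ) / 6)
      (h6 ▸ H12.IsCharacter.isIntegral (H12.isCharacter_irr χ) x)
    refine ⟨r, by rw [h6, ← hr]; simp, ?_⟩
    have h7 : 6 * r = 7 * (m : ℤ) - (H12.degree (χ : G → ℂ) : ℤ) := by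
      have : (6 : ℚ) * r = ((7 * (m : ℤ) - (H12.degree (χ : G → ℂ) : ℤ) : ℤ) : ℚ) := by
        rw [hr]; ring
      exact_mod_cast this
    exact ⟨(m : ℤ) - r, by omega⟩
  choose r hr hr7 using hrat
  set one := H12.oneIrr G with hone
  have hrone : r one = 1 := by
    have := hr one
    rw [hone, H12.oneIrr_apply] at this
    exact_mod_cast this.symm
  obtain ⟨T, hT⟩ : ∃ T : Finset (IrrCharacter G),
      T = (Finset.univ.erase one).filter fun χ => r χ ≠ 0 := ⟨_, rfl⟩
  have hTne : ∀ χ ∈ T, χ ≠ one ∧ r χ ≠ 0 := fun χ hχ => by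
    rw [hT, Finset.mem_filter, Finset.mem_erase] at hχ; exact ⟨hχ.1.1, hχ.2⟩
  have hsumT : ∀ F : IrrCharacter G → ℂ, (∀ χ, r χ = 0 → F χ = 0) →
      ∑ χ, F χ = F one + ∑ χ ∈ T, F χ := by
    intro F hF
    rw [← Finset.add_sum_erase _ _ (Finset.mem_univ one), hT,
      Finset.sum_filter_of_ne (p := fun χ => r χ ≠ 0) fun χ _ hne h0 => hne (hF χ h0)]
  have hsq : ∑ χ ∈ T, (r χ).natAbs ^ 2 = 6 := by
    have h1 := H12.column_orthogonality x x
    rw [if_pos (IsConj.refl x), hCx, hP, hsumT _ (fun χ h0 => by rw [hr, h0]; simp)] at h1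
    simp only [hr, map_intCast, hrone] at h1
    have h2 : (1 : ℤ) + ∑ χ ∈ T, r χ * r χ = 7 := by
      have : (((1 : ℤ) + ∑ χ ∈ T, r χ * r χ : ℤ) : ℂ) = ((7 : ℤ) : ℂ) := by
        push_cast; simpa using h1
      exact_mod_cast this
    have h3 : ((∑ χ ∈ T, (r χ).natAbs ^ 2 : ℕ) : ℤ) = ∑ χ ∈ T, r χ * r χ := by
      push_cast
      exact Finset.sum_congr rfl fun χ _ => by rw [sq, abs_mul_abs_self]
    omega
  have hreg : ∀ g : G, ¬ IsConj g x → (∑ χ ∈ T, (r χ : ℂ) * (χ : G → ℂ) g) = -1 := by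
    intro g hg
    have h1 := H12.column_orthogonality g x
    rw [if_neg hg, hsumT _ (fun χ h0 => by rw [hr χ, h0]; simp)] at h1
    simp only [hr, map_intCast, hrone] at h1
    rw [hone, H12.oneIrr_apply] at h1
    rw [← Finset.sum_congr rfl (fun (χ : IrrCharacter G) _ => mul_comm ((χ : G → ℂ) g) (r χ : ℂ))]
    push_cast at h1
    linear_combination h1
  -- degrees
  have hdeg1 : ∑ χ ∈ T, r χ * (H12.degree (χ : G → ℂ) : ℤ) = -1 := by
    have h1 := hreg 1 (fun h => hx1 (isConj_one_right.1 h))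
    simp only [H12.irr_apply_one] at h1
    exact_mod_cast h1
  have heven : Even (Nat.card G) := by rw [hn]; decide
  have hdb : ∀ χ ∈ T, 2 < H12.degree (χ : G → ℂ) ∧ H12.degree (χ : G → ℂ) ∣ 12096 ∧
      H12.degree (χ : G → ℂ) * H12.degree (χ : G → ℂ) < 12096 := fun χ hχ => by
    have := H62.degree_bounds hG heven (χ := χ) (hTne χ hχ).1
    rwa [hn] at this
  let f : IrrCharacter G → ℤ × ℕ := fun χ => (r χ, H12.degree (χ : G → ℂ))
  have hmem : ∀ χ ∈ T, f χ ∈ pairs ∧ (f χ).1 ≠ 0 := by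
    intro χ hχ
    refine ⟨?_, (hTne χ hχ).2⟩
    obtain ⟨h2, hd, hsq'⟩ := hdb χ hχ
    have hle : (r χ).natAbs ^ 2 ≤ 6 := hsq ▸ Finset.single_le_sum
      (f := fun χ => (r χ).natAbs ^ 2) (fun y _ => Nat.zero_le _) hχ
    have hle' : (r χ).natAbs ≤ 2 := by nlinarith
    simp only [pairs, List.mem_flatMap, List.mem_filter, List.mem_range, List.mem_map, f,
      Bool.and_eq_true, decide_eq_true_eq, beq_iff_eq]
    refine ⟨_, ⟨by nlinarith, h2, Nat.mod_eq_zero_of_dvd hd⟩, r χ, ⟨?_,
      Int.emod_eq_zero_of_dvd (hr7 χ)⟩, rfl⟩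
    have := (hTne χ hχ).2
    simp only [List.mem_cons, List.not_mem_nil, or_false]
    omega
  obtain ⟨l, hlnd, hlT, hlc⟩ := exists_combo f pairs 6 T hmem hsq
  have hsum : ∀ {M : Type} [AddCommMonoid M] (g : IrrCharacter G → M),
      (l.map g).sum = ∑ χ ∈ T, g χ := fun g => by rw [← hlT, List.sum_toFinset _ hlnd]
  have hlm : ∀ χ ∈ l, χ ∈ T := fun χ hχ => hlT ▸ List.mem_toFinset.2 hχ
  have hdead := List.all_eq_true.1 allDead_eq _ hlc
  have hok : degOK (l.map f) = true := by
    simp only [degOK, List.map_map, Function.comp_def, f, Bool.and_eq_true, beq_iff_eq,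
      decide_eq_true_eq]
    refine ⟨(hsum _).trans hdeg1, ?_⟩
    rw [hsum]
    have h1 := H12.sum_degree_sq_nat (G := G)
    rw [← Finset.add_sum_erase _ _ (Finset.mem_univ one), hn] at h1
    have h2 : ∑ χ ∈ T, H12.degree (χ : G → ℂ) * H12.degree (χ : G → ℂ) ≤
        ∑ χ ∈ Finset.univ.erase one, H12.degree (χ : G → ℂ) ^ 2 := by
      simp only [pow_two]
      exact Finset.sum_le_sum_of_subset (hT ▸ Finset.filter_subset _ _)
    have h3 : 0 < H12.degree (one : G → ℂ) ^ 2 := pow_pos (H12.irr_degree_pos one) 2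
    omega
  rw [hok] at hdead
  simp only [Bool.not_true, Bool.false_or, Bool.or_eq_true, Bool.and_eq_true] at hdead
  -- values at involutions
  have hinv : ∀ z : G, orderOf z = 2 → ∀ χ : IrrCharacter G, ∃ v : ℤ, (χ : G → ℂ) z = v ∧
      (χ ≠ one → v ∈ vals (H12.degree (χ : G → ℂ))) := by
    intro z hz χ
    obtain ⟨v, hv, h4⟩ := H65.irr_involution_congr hna χ hz
    refine ⟨v, hv, fun hne => mem_vals h4 (lt_of_le_of_ne ?_ fun h => ?_)⟩
    · have h1 := H12.IsCharacter.norm_le (H12.isCharacter_irr χ) z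
      rw [hv, Complex.norm_intCast] at h1
      exact_mod_cast h1
    · have hz1 : z ≠ 1 := fun h => by rw [h, orderOf_one] at hz; omega
      rcases abs_choice v with h' | h' <;> rw [h'] at h
      · exact hne (H62.irr_eq_one_of_apply_eq_degree χ hz1 (by rw [hv, h]; simp))
      · exact apply_ne_neg_degree hG hne hz1 (by rw [hv, eq_neg_of_add_eq_zero_left
          (a := v) (b := (H12.degree (χ : G → ℂ) : ℤ)) (by omega)]; simp)
  have hnx : ∀ z : G, orderOf z = 2 → ¬ IsConj z x := fun z hz h => by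
    obtain ⟨c, hc⟩ := isConj_iff.1 h
    rw [← hc, ← (SemiconjBy.conj_mk c z).orderOf_eq, hz] at hxo
    omega
  have key : ∀ (z : G) (_ : orderOf z = 2) (v : IrrCharacter G → ℤ),
      (∀ χ : IrrCharacter G, (χ : G → ℂ) z = v χ) →
      (∑ χ ∈ T, r χ * v χ = -1) ∧
      (1 + ∑ χ ∈ T, v χ * v χ ≤ (Nat.card (Subgroup.centralizer ({z} : Set G)) : ℤ)) := by
    intro z hz v hv
    constructor
    · have h1 := hreg z (hnx z hz)
      simp only [hv] at h1
      exact_mod_cast h1
    · have h1 := H12.column_orthogonality z z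
      rw [if_pos (IsConj.refl z)] at h1
      simp only [hv, map_intCast] at h1
      have h2 : ∑ χ : IrrCharacter G, v χ * v χ =
          (Nat.card (Subgroup.centralizer ({z} : Set G)) : ℤ) := by exact_mod_cast h1
      rw [← h2, ← Finset.add_sum_erase _ _ (Finset.mem_univ one)]
      have h3 : v one = 1 := by
        have := hv one
        rw [hone, H12.oneIrr_apply] at this
        exact_mod_cast this.symm
      rw [h3, one_mul]
      exact add_le_add_right (Finset.sum_le_sum_of_subset_of_nonneg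
        (hT ▸ Finset.filter_subset _ _) fun y _ _ => mul_self_nonneg _) 1
  have h1728 : ∀ χ ∈ T, H12.degree (χ : G → ℂ) ∣ 1728 := by
    intro χ hχ
    have h7 : Nat.Coprime (H12.degree (χ : G → ℂ)) 7 := by
      refine Nat.Coprime.symm ((Fact.out : Nat.Prime 7).coprime_iff_not_dvd.2 fun hd => ?_)
      have h := hr7 χ
      have hle : (r χ).natAbs ^ 2 ≤ 6 := hsq ▸ Finset.single_le_sum
        (f := fun χ => (r χ).natAbs ^ 2) (fun y _ => Nat.zero_le _) hχ
      have hle' : (r χ).natAbs ≤ 2 := by nlinarith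
      have := (hTne χ hχ).2
      omega
    exact h7.dvd_of_dvd_mul_right (m := 1728) ((hdb χ hχ).2.1)
  -- class algebra constants
  have form : ∀ (z : G) (v w : IrrCharacter G → ℤ), (∀ χ : IrrCharacter G, (χ : G → ℂ) t = v χ) →
      (∀ χ : IrrCharacter G, (χ : G → ℂ) z = w χ) →
      ((Nat.card {a : G // IsConj (x * (a * t * a⁻¹)) z} : ℤ) *
          (Nat.card (Subgroup.centralizer ({z} : Set G)) : ℤ)) =
        7 * (1728 + ∑ χ ∈ T, r χ * v χ * w χ * (1728 / H12.degree (χ : G → ℂ) : ℕ)) := by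
    intro z v w hv hw
    have h1 := H62.card_product_class_eq_sum x t z
    rw [hsumT _ (fun χ h0 => by rw [hr χ, h0]; simp), hn] at h1
    rw [hone, H12.oneIrr_apply, H12.oneIrr_apply, H12.oneIrr_apply, H12.oneIrr_apply,
      Finset.sum_congr rfl (g := fun χ =>
        ((r χ * v χ * w χ * (1728 / H12.degree (χ : G → ℂ) : ℕ) : ℤ) : ℂ) / 1728) (fun χ hχ => by
        obtain ⟨k, hk⟩ := h1728 χ hχ
        rw [hr, hv, hw, map_intCast, H12.irr_apply_one, hk,
          Nat.mul_div_cancel_left _ (H12.irr_degree_pos χ)]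
        have hd0 : (H12.degree (χ : G → ℂ) : ℂ) ≠ 0 :=
          Nat.cast_ne_zero.2 (H12.irr_degree_pos χ).ne'
        have e : (1728 : ℂ) = (H12.degree (χ : G → ℂ) : ℂ) * (k : ℂ) := by exact_mod_cast hk
        have hk0 : (k : ℂ) ≠ 0 := fun h => by rw [h, mul_zero] at e; norm_num at e
        rw [e]
        push_cast
        field_simp),
      ← Finset.sum_div] at h1
    simp only [map_one, mul_one, div_one] at h1
    apply Int.cast_injective (α := ℂ)
    push_cast at h1 ⊢
    linear_combination h1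
  choose vt hvt hvtm using hinv t ht
  obtain ⟨hrelT, hboundT⟩ := key t ht vt hvt
  set c := Nat.card (Subgroup.centralizer ({t} : Set G)) with hc
  have hformT := form t vt vt hvt hvt
  rw [H62.card_product_class hP hC (by norm_num) ht hti hxP hx1, ← hc] at hformT
  simp only [Nat.cast_mul, Nat.cast_ofNat] at hformT
  have hcT : (c : ℤ) * c = 1728 + ∑ χ ∈ T, r χ * vt χ * vt χ *
      (1728 / H12.degree (χ : G → ℂ) : ℕ) := by linarith
  have hinv1728 : ∀ s : G, orderOf s = 2 →
      Nat.card (Subgroup.centralizer ({s} : Set G)) ∣ 1728 := by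
    intro s hs
    refine (Nat.Coprime.dvd_of_dvd_mul_right (n := 7) ?_ (by
      rw [show 1728 * 7 = Nat.card G by rw [hn]]; exact Subgroup.card_subgroup_dvd_card _))
    refine ((Fact.out : Nat.Prime 7).coprime_iff_not_dvd.2 fun hd => ?_).symm
    obtain ⟨y, hy⟩ := exists_prime_orderOf_dvd_card' 7 hd
    obtain ⟨R, hR⟩ := (IsPGroup.of_card (p := 7) (n := 1)
      (by rw [Nat.card_zpowers, Subgroup.orderOf_coe, hy, pow_one] :
        Nat.card (Subgroup.zpowers (y : G)) = 7 ^ 1)).exists_le_sylow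
    obtain ⟨g, hg⟩ := MulAction.exists_smul_eq G R P
    have hyP : g * (y : G) * g⁻¹ ∈ (P : Subgroup G) := by
      rw [← hg, Sylow.coe_subgroup_smul]
      exact Subgroup.smul_mem_pointwise_smul _ _ _ (hR (Subgroup.mem_zpowers _))
    have hy1 : g * (y : G) * g⁻¹ ≠ 1 := fun h => by
      rw [conj_eq_one_iff] at h
      rw [← Subgroup.orderOf_coe, h, orderOf_one] at hy; omega
    have htc : g * s * g⁻¹ ∈ Subgroup.centralizer ({g * (y : G) * g⁻¹} : Set G) := by
      rw [Subgroup.mem_centralizer_singleton_iff]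
      have := Subgroup.mem_centralizer_singleton_iff.1 y.2
      calc g * s * g⁻¹ * (g * (y : G) * g⁻¹) = g * (s * (y : G)) * g⁻¹ := by group
        _ = g * ((y : G) * s) * g⁻¹ := by rw [this]
        _ = _ := by group
    rw [H62.centralizer_eq_of_mem hP hC hyP hy1] at htc
    exact H62.not_mem_of_involution hP (by norm_num)
      (by rw [← (SemiconjBy.conj_mk g s).orderOf_eq, hs]) htc
  have hc1728 : c ∣ 1728 := hinv1728 t ht
  have hBT : ∑ χ ∈ T, vt χ * vt χ ≤ 287 ∧ c < 289 := by
    have hle : ∀ χ ∈ T, r χ * vt χ * vt χ * (1728 / H12.degree (χ : G → ℂ) : ℕ) ≤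
        384 * (vt χ * vt χ) := by
      intro χ hχ
      have h2 := (hmem χ hχ).1
      have hcase : ∀ a ∈ pairs, a.1 * (1728 / a.2 : ℕ) ≤ 384 := by decide +kernel
      have := mul_le_mul_of_nonneg_right (hcase _ h2) (mul_self_nonneg (vt χ))
      simp only [f] at this
      linarith
    have h1 := Finset.sum_le_sum hle
    rw [← Finset.mul_sum] at h1
    have h3 : c ≤ 389 := by nlinarith
    have h2 : c ≤ 288 := by
      have : ∀ k < 390, k ∣ 1728 → k ≤ 288 := by decide +kernel
      exact this c (by omega) hc1728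
    exact ⟨by omega, by omega⟩
  have hstateT : ∀ m : ℕ, c % m = 0 → search 287 (finT m) (l.map f) 0 0 0 ≠ true := by
    intro m hm hs
    have h := fin_false_of_search f vt 287 (finT m) finT_imp l 0 0 0 hs
      (fun χ hχ => ⟨hvtm χ (hTne χ (hlm χ hχ)).1, (hTne χ (hlm χ hχ)).2⟩) (by rw [hsum, zero_add]; exact hBT.1)
    rw [hsum, hsum, hsum, zero_add, zero_add, zero_add, hrelT] at h
    simp only [finT, beq_self_eq_true, Bool.true_and, List.any_eq_false] at h
    refine h c (mem_cList c hBT.2 hc1728) ?_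
    simp only [Bool.and_eq_true, beq_iff_eq, decide_eq_true_eq]
    exact ⟨⟨hcT, by omega⟩, hm⟩
  rcases hdead with h1 | ⟨h64, hzs⟩
  · exact hstateT 1 (Nat.mod_one _) h1
  obtain ⟨z, S, hz, hS⟩ := H62.exists_involution_sylow_le (G := G) heven.two_dvd
  set cz := Nat.card (Subgroup.centralizer ({z} : Set G)) with hcz
  have h64z : 64 ∣ cz := by
    have hS64 : Nat.card (S : Subgroup G) = 64 := by
      rw [H62.card_sylow_coe (a := 6) (m := 189) (by rw [hn]; norm_num) (by norm_num) S]
      norm_num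
    exact hS64 ▸ Subgroup.card_dvd_of_le hS
  by_cases htz : IsConj t z
  · refine hstateT 64 ?_ h64
    have : c = cz := by
      refine mul_left_cancel₀ (show Nat.card {g : G // IsConj t g} ≠ 0 from
        (Nat.card_pos_iff.2 ⟨⟨⟨t, IsConj.refl t⟩⟩, inferInstance⟩).ne') ?_
      rw [hc, H65.card_class_mul, hcz, ← H65.card_class_mul z]
      congr 1
      exact Nat.card_congr (Equiv.subtypeEquivRight fun g =>
        ⟨fun h => htz.trans h, fun h => htz.symm.trans h⟩)
    exact this ▸ Nat.mod_eq_zero_of_dvd h64z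
  choose vz hvz hvzm using hinv z hz
  obtain ⟨hrelZ, hboundZ⟩ := key z hz vz hvz
  rw [← hcz] at hboundZ
  -- the constant at two conjugates of `z` vanishes
  have hzero : IsEmpty {a : G // IsConj (x * (a * z * a⁻¹)) z} := by
    refine ⟨fun ⟨a, ha⟩ => ?_⟩
    have hzz : z * z = 1 := by rw [← pow_two, ← hz, pow_orderOf_eq_one]
    obtain ⟨b, hb⟩ := isConj_iff.1 ha
    have e : x * (a * z * a⁻¹) = b⁻¹ * z * b⁻¹⁻¹ := by
      calc _ = b⁻¹ * (b * (x * (a * z * a⁻¹)) * b⁻¹) * b := by group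
        _ = _ := by rw [hb, inv_inv]
    have htt : t * t = 1 := by rw [← pow_two, ← ht, pow_orderOf_eq_one]
    have hmem' := H62.mem_coset_of_involution hP hC htt hti hxP hx1 (H62.sq_conj_eq_one hzz a)
      (by rw [e]; exact H62.sq_conj_eq_one hzz _)
    obtain ⟨q, -, hq⟩ := H62.exists_half hP (by norm_num) hti hmem'
    rw [inv_mul_cancel_right] at hq
    exact htz ((isConj_iff.2 ⟨q, hq⟩).trans (isConj_iff.2 ⟨a, rfl⟩).symm)
  have hczB : cz ≤ 576 := by
    have hne : Subgroup.centralizer ({z} : Set G) ≠ ⊤ := fun h => by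
      have hzc : z ∈ Subgroup.center G := Subgroup.mem_center_iff.2 fun y =>
        Subgroup.mem_centralizer_singleton_iff.1 (h ▸ Subgroup.mem_top y)
      rw [H62.center_eq_bot_of_simple hG, Subgroup.mem_bot] at hzc
      rw [hzc, orderOf_one] at hz; omega
    have h2 := H62.two_mul_card_dvd_factorial hG _ hne
    have h3 := (Subgroup.centralizer ({z} : Set G)).card_mul_index
    rw [hn] at h2 h3
    rw [← hcz] at h3
    have hdec : ∀ k < 1729, k ∣ 1728 → 64 ∣ k → k ≤ 576 ∨ k = 1728 := by decide +kernel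
    rcases hdec cz (Nat.lt_succ_of_le (Nat.le_of_dvd (by norm_num) (hinv1728 z hz)))
      (hinv1728 z hz) h64z with h | h
    · exact h
    · exfalso
      rw [show (Subgroup.centralizer ({z} : Set G)).index = 7 by
        rw [h] at h3; omega] at h2
      norm_num [Nat.factorial] at h2
  have h := fin_false_of_search f vz 575 finZ finZ_imp l 0 0 0 hzs
    (fun χ hχ => ⟨hvzm χ (hTne χ (hlm χ hχ)).1, (hTne χ (hlm χ hχ)).2⟩) (by rw [hsum, zero_add]; omega)
  rw [hsum, hsum, hsum, zero_add, zero_add, zero_add, hrelZ] at h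
  have h1 := H62.card_product_class_eq_sum x z z
  rw [Nat.card_of_isEmpty, Nat.cast_zero, zero_mul, eq_comm, mul_eq_zero] at h1
  replace h1 := h1.resolve_left (Nat.cast_ne_zero.2 Nat.card_pos.ne')
  rw [hsumT _ (fun χ h0 => by rw [hr χ, h0]; simp)] at h1
  rw [hone, H12.oneIrr_apply, H12.oneIrr_apply, H12.oneIrr_apply,
    Finset.sum_congr rfl (g := fun χ =>
      ((r χ * vz χ * vz χ * (1728 / H12.degree (χ : G → ℂ) : ℕ) : ℤ) : ℂ) / 1728) (fun χ hχ => by
      obtain ⟨k, hk⟩ := h1728 χ hχ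
      rw [hr, hvz, map_intCast, H12.irr_apply_one, hk,
        Nat.mul_div_cancel_left _ (H12.irr_degree_pos χ)]
      have hd0 : (H12.degree (χ : G → ℂ) : ℂ) ≠ 0 :=
        Nat.cast_ne_zero.2 (H12.irr_degree_pos χ).ne'
      have e : (1728 : ℂ) = (H12.degree (χ : G → ℂ) : ℂ) * (k : ℂ) := by exact_mod_cast hk
      have hk0 : (k : ℂ) ≠ 0 := fun h => by rw [h, mul_zero] at e; norm_num at e
      rw [e]
      push_cast
      field_simp),
    ← Finset.sum_div] at h1
  simp only [map_one, mul_one, div_one] at h1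
  have h2 : ∑ χ ∈ T, r χ * vz χ * vz χ * (1728 / H12.degree (χ : G → ℂ) : ℕ) = -1728 := by
    apply Int.cast_injective (α := ℂ)
    push_cast at h1 ⊢
    linear_combination (1728 : ℂ) * h1
  rw [h2] at h
  simp [finZ] at h

end H4.G2Order
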