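import Cfsg.Agent.H4.G2OrderThree

/-!
The Sylow 3-subgroups of a group with the order and element orders of `G₂(2)`.
-/

set_option autoImplicit false
set_option linter.unusedSectionVars false

namespace H4.G2Order

open Subgroup
open scoped Pointwise

variable {M : Type*} [Group M] [Finite M]

/-- An element of a group of order `27` without elements of order nine has order dividing three. -/
theorem orderOf_eq_three (h9 : ∀ g : M, orderOf g ≠ 9) {P : Subgroup M} (hP : Nat.card P = 27)
    {w : M} (hw : w ∈ P) (hw1 : w ≠ 1) : orderOf w = 3 := by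
  have hd : orderOf w ∣ 3 ^ 3 := by
    have := Subgroup.orderOf_dvd_natCard P hw
    rw [hP] at this
    norm_num at this ⊢
    exact this
  obtain ⟨i, hi, e⟩ := (Nat.dvd_prime_pow Nat.prime_three).1 hd
  interval_cases i
  · exact absurd (orderOf_eq_one_iff.1 (e.trans (pow_zero 3))) hw1
  · simpa using e
  · exact absurd (e.trans (by norm_num)) (h9 w)
  · exfalso
    refine h9 (w ^ 3) ?_
    rw [orderOf_pow' _ (by norm_num), e]; norm_num

/-- The Sylow 3-subgroups of a simple group of order `6048` without elements of order nine are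
nonabelian, meet trivially and number `28`. -/
theorem sylowThree_facts [IsSimpleGroup M] (hn : Nat.card M = 6048) (h9 : ∀ g : M, orderOf g ≠ 9) :
    (∀ P : Sylow 3 M, ∃ a b : M, a ∈ (P : Subgroup M) ∧ b ∈ (P : Subgroup M) ∧ a * b ≠ b * a) ∧
      (∀ P Q : Sylow 3 M, P ≠ Q → (P : Subgroup M) ⊓ (Q : Subgroup M) = ⊥) ∧
      Nat.card (Sylow 3 M) = 28 := by
  classical
  haveI := Fintype.ofFinite M
  haveI : Fact (Nat.Prime 3) := ⟨Nat.prime_three⟩
  obtain ⟨φ, hφ1, hsum, hval, hz108⟩ := (threeFacts hn h9).exists_value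
  have h27 : ∀ P : Sylow 3 M, Nat.card (P : Subgroup M) = 27 := fun P => by
    rw [H62.card_sylow_coe (a := 3) (m := 224) (by rw [hn]; norm_num) (by norm_num) P]; norm_num
  have ho : ∀ P : Sylow 3 M, ∀ w ∈ (P : Subgroup M), w ≠ 1 → orderOf w = 3 := fun P w hw hw1 =>
    orderOf_eq_three h9 (h27 P) hw hw1
  -- exactly two elements of value `-3` in a Sylow subgroup
  have hA : ∀ P : Sylow 3 M,
      (Finset.univ.filter fun w => w ∈ (P : Subgroup M) ∧ w ≠ 1 ∧ φ w = -3).card = 2 := by
    intro P
    haveI : Fintype (P : Subgroup M) := Fintype.ofFinite _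
    obtain ⟨m, hm⟩ := hsum P
    rw [h27 P, finsum_eq_sum_of_fintype] at hm
    have hconv : ∑ w : (P : Subgroup M), φ w =
        ∑ w ∈ Finset.univ.filter (fun w : M => w ∈ (P : Subgroup M)), φ w :=
      (Finset.sum_subtype _ (fun w => by simp) φ).symm
    set F := Finset.univ.filter (fun w : M => w ∈ (P : Subgroup M)) with hF
    set A := Finset.univ.filter (fun w => w ∈ (P : Subgroup M) ∧ w ≠ 1 ∧ φ w = -3) with hA
    have hAF : A ⊆ F.erase 1 := fun w hw => by
      simp only [hA, Finset.mem_filter, Finset.mem_univ, true_and] at hw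
      simp [hF, hw.1, hw.2.1]
    rw [hconv, ← Finset.add_sum_erase _ _ (show (1 : M) ∈ F by simp [hF]), hφ1,
      ← Finset.sum_sdiff hAF,
      Finset.sum_eq_zero (s := F.erase 1 \ A) (fun w hw => by
        simp only [hF, hA, Finset.mem_sdiff, Finset.mem_erase, Finset.mem_filter, Finset.mem_univ,
          true_and] at hw
        rcases hval w (ho P w hw.1.2 hw.1.1) with h | h
        · exact h.1
        · exact absurd ⟨hw.1.2, hw.1.1, h⟩ hw.2),
      Finset.sum_congr rfl (g := fun _ => (-3 : ℂ)) (fun w hw => (Finset.mem_filter.1 hw).2.2.2),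
      Finset.sum_const, nsmul_eq_mul] at hm
    have h1 : (((6 : ℤ) - 3 * A.card : ℤ) : ℂ) = ((27 * m : ℤ) : ℂ) := by
      push_cast at hm ⊢; linear_combination hm
    have h2 : (6 : ℤ) - 3 * A.card = 27 * m := by exact_mod_cast h1
    omega
  -- centralisers
  have hcenter : ∀ P : Sylow 3 M, ∀ w ∈ (P : Subgroup M), w ≠ 1 →
      (∀ v ∈ (P : Subgroup M), v * w = w * v) → φ w = -3 := by
    intro P w hw hw1 hc
    rcases hval w (ho P w hw hw1) with ⟨-, h9c⟩ | h
    · exfalso
      have : (P : Subgroup M) ≤ centralizer ({w} : Set M) := fun v hv =>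
        mem_centralizer_singleton_iff.2 (hc v hv)
      have := card_dvd_of_le this
      rw [h27 P, h9c] at this
      norm_num at this
    · exact h
  -- the centre of a Sylow subgroup is its set of elements of value `-3`
  have hZ : ∀ P : Sylow 3 M, ∀ w ∈ (P : Subgroup M), w ≠ 1 → φ w = -3 →
      ∀ v ∈ (P : Subgroup M), v * w = w * v := by
    intro P w hw hw1 hwv v hv
    set A := Finset.univ.filter (fun w => w ∈ (P : Subgroup M) ∧ w ≠ 1 ∧ φ w = -3) with hA'
    haveI : Nontrivial (P : Subgroup M) :=
      Finite.one_lt_card_iff_nontrivial.1 (by rw [h27 P]; norm_num)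
    haveI := P.isPGroup'.center_nontrivial
    obtain ⟨⟨⟨z, hzP⟩, hzc⟩, hz1⟩ := exists_ne (1 : center (P : Subgroup M))
    have hzne : z ≠ 1 := fun h => hz1 (Subtype.ext (Subtype.ext h))
    have hcomm : ∀ v ∈ (P : Subgroup M), v * z = z * v := fun v hv =>
      congrArg Subtype.val (mem_center_iff.1 hzc ⟨v, hv⟩)
    have hz3 : orderOf z = 3 := ho P z hzP hzne
    have hzz : z⁻¹ ≠ z := fun h => by
      have h2 : z ^ 2 = 1 := by rw [pow_two]; nth_rewrite 1 [← h]; exact inv_mul_cancel z
      have := orderOf_dvd_of_pow_eq_one h2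
      rw [hz3] at this; norm_num at this
    have hcomm' : ∀ v ∈ (P : Subgroup M), v * z⁻¹ = z⁻¹ * v := fun v hv =>
      (Commute.inv_right (hcomm v hv : Commute v z)).eq
    have hpair : ({z, z⁻¹} : Finset M) ⊆ A := by
      intro y hy
      simp only [Finset.mem_insert, Finset.mem_singleton] at hy
      rw [hA', Finset.mem_filter]
      rcases hy with rfl | rfl
      · exact ⟨Finset.mem_univ _, hzP, hzne, hcenter P y hzP hzne hcomm⟩
      · exact ⟨Finset.mem_univ _, inv_mem hzP, inv_ne_one.2 hzne,
          hcenter P _ (inv_mem hzP) (inv_ne_one.2 hzne) hcomm'⟩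
    have heq := Finset.eq_of_subset_of_card_le hpair
      (by rw [hA P, Finset.card_pair hzz.symm])
    have : w ∈ ({z, z⁻¹} : Finset M) := heq ▸ Finset.mem_filter.2 ⟨Finset.mem_univ _, hw, hw1, hwv⟩
    simp only [Finset.mem_insert, Finset.mem_singleton] at this
    rcases this with rfl | rfl
    exacts [hcomm v hv, hcomm' v hv]
  have hnab : ∀ P : Sylow 3 M,
      ∃ a b : M, a ∈ (P : Subgroup M) ∧ b ∈ (P : Subgroup M) ∧ a * b ≠ b * a := by
    intro P
    by_contra hall
    push Not at hall
    have hsub : (Finset.univ.filter fun w => w ∈ (P : Subgroup M)).erase 1 ⊆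
        Finset.univ.filter fun w => w ∈ (P : Subgroup M) ∧ w ≠ 1 ∧ φ w = -3 := fun w hw => by
      obtain ⟨hw1, hw2⟩ := Finset.mem_erase.1 hw
      have hwP := (Finset.mem_filter.1 hw2).2
      exact Finset.mem_filter.2 ⟨Finset.mem_univ _, hwP, hw1,
        hcenter P w hwP hw1 fun v hv => hall v w hv hwP⟩
    have := Finset.card_le_card hsub
    rw [hA P, Finset.card_erase_of_mem (by simp), ← Fintype.card_subtype,
      ← Nat.card_eq_fintype_card] at this
    have h := h27 P
    omega
  -- an element of value `0` and its centraliser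
  have hzero : ∀ P : Sylow 3 M, ∃ d ∈ (P : Subgroup M), d ≠ 1 ∧ φ d = 0 := by
    intro P
    obtain ⟨a, b, ha, hb, hab⟩ := hnab P
    have ha1 : a ≠ 1 := fun h => hab (by rw [h]; group)
    rcases hval a (ho P a ha ha1) with h | h
    · exact ⟨a, ha, ha1, h.1⟩
    · exact absurd (hZ P a ha ha1 h b hb) fun h' => hab h'.symm
  have hTI : ∀ P Q : Sylow 3 M, P ≠ Q → (P : Subgroup M) ⊓ (Q : Subgroup M) = ⊥ := by
    intro P Q hPQ
    by_contra hne
    obtain ⟨w, hw, hw1⟩ := ((P : Subgroup M) ⊓ (Q : Subgroup M)).bot_or_exists_ne_one.resolve_left hne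
    -- a common element of value `-3`
    obtain ⟨z, hzP, hzQ, hz1, hzv⟩ : ∃ z, z ∈ (P : Subgroup M) ∧ z ∈ (Q : Subgroup M) ∧ z ≠ 1 ∧
        φ z = -3 := by
      rcases hval w (ho P w hw.1 hw1) with ⟨hw0, h9c⟩ | h
      · -- both subgroups contain the whole centraliser of `w`
        haveI : Nontrivial (P : Subgroup M) :=
          Finite.one_lt_card_iff_nontrivial.1 (by rw [h27 P]; norm_num)
        haveI := P.isPGroup'.center_nontrivial
        obtain ⟨⟨⟨z, hzP⟩, hzc⟩, hz1⟩ := exists_ne (1 : center (P : Subgroup M))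
        have hzne : z ≠ 1 := fun h => hz1 (Subtype.ext (Subtype.ext h))
        have hcomm : ∀ v ∈ (P : Subgroup M), v * z = z * v := fun v hv =>
          congrArg Subtype.val (mem_center_iff.1 hzc ⟨v, hv⟩)
        refine ⟨z, hzP, ?_, hzne, hcenter P z hzP hzne hcomm⟩
        set C := centralizer ({w} : Set M)
        set D := C.subgroupOf (Q : Subgroup M)
        have hD : 9 ∣ Nat.card D := by
          have h1 := nine_dvd_centralizer (G := ↥(Q : Subgroup M)) ⊤
            (by rw [Subgroup.card_top]; exact h27 Q) (w := ⟨w, hw.2⟩) (Subgroup.mem_top _)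
          refine h1.trans (card_dvd_of_le fun v hv => ?_)
          exact mem_centralizer_singleton_iff.2
            (congrArg Subtype.val (mem_centralizer_singleton_iff.1 hv))
        have hle : D.map (Q : Subgroup M).subtype ≤ C := by
          rintro _ ⟨v, hv, rfl⟩; exact hv
        have hDc : Nat.card (D.map (Q : Subgroup M).subtype) = Nat.card D :=
          card_map_of_injective (Subgroup.subtype_injective _)
        have heq : D.map (Q : Subgroup M).subtype = C := eq_of_le_of_card_ge hle (by
          rw [hDc, h9c]; exact Nat.le_of_dvd Nat.card_pos hD)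
        have hzC : z ∈ C := mem_centralizer_singleton_iff.2 (hcomm w hw.1).symm
        rw [← heq] at hzC
        obtain ⟨v, -, rfl⟩ := hzC
        exact v.2
      · exact ⟨w, hw.1, hw.2, hw1, h⟩
    set C := centralizer ({z} : Set M)
    have hPC : (P : Subgroup M) ≤ C := fun v hv =>
      mem_centralizer_singleton_iff.2 (hZ P z hzP hz1 hzv v hv)
    have hQC : (Q : Subgroup M) ≤ C := fun v hv =>
      mem_centralizer_singleton_iff.2 (hZ Q z hzQ hz1 hzv v hv)
    obtain ⟨d₀, hd₀, hd₀1, hd₀v⟩ := hzero P
    have h108 : Nat.card C ∣ 108 := hz108 d₀ z (ho P d₀ hd₀ hd₀1) (ho P z hzP hz1) hd₀v hzv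
    set D := (P : Subgroup M) ⊓ (Q : Subgroup M)
    -- `D` has order nine
    have hD9 : Nat.card D = 9 := by
      have hdd : Nat.card D ∣ 27 := h27 P ▸ card_dvd_of_le inf_le_left
      have hd27 : Nat.card D ≠ 27 := by
        intro h
        refine hPQ (Sylow.ext ?_)
        have e1 : D = (P : Subgroup M) := eq_of_le_of_card_ge inf_le_left (by rw [h, h27 P])
        have e2 : D = (Q : Subgroup M) := eq_of_le_of_card_ge inf_le_right (by rw [h, h27 Q])
        exact e1.symm.trans e2
      let F : ↥(P : Subgroup M) × ↥(Q : Subgroup M) → C := fun pq =>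
        ⟨(pq.1 : M) * (pq.2 : M), mul_mem (hPC pq.1.2) (hQC pq.2.2)⟩
      have hfib : ∀ y, Nat.card {pq // F pq = y} ≤ Nat.card D := by
        intro y
        by_cases hy : Nonempty {pq // F pq = y}
        · obtain ⟨⟨⟨p₀, q₀⟩, h₀⟩⟩ := hy
          refine Nat.card_le_card_of_injective (fun pq => ⟨(p₀ : M)⁻¹ * (pq.1.1 : M),
            Subgroup.mem_inf.2 ⟨mul_mem (inv_mem p₀.2) pq.1.1.2, ?_⟩⟩) ?_
          · have e : (pq.1.1 : M) * (pq.1.2 : M) = (p₀ : M) * (q₀ : M) :=
              congrArg Subtype.val (pq.2.trans h₀.symm)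
            show (p₀ : M)⁻¹ * (pq.1.1 : M) ∈ (Q : Subgroup M)
            have : (p₀ : M)⁻¹ * (pq.1.1 : M) = (q₀ : M) * (pq.1.2 : M)⁻¹ := by
              rw [eq_mul_inv_iff_mul_eq, mul_assoc, e, inv_mul_cancel_left]
            rw [this]; exact mul_mem q₀.2 (inv_mem pq.1.2.2)
          · intro a b hab
            have h1 : (a.1.1 : M) = b.1.1 := mul_left_cancel (congrArg Subtype.val hab)
            have h2 : (a.1.1 : M) * (a.1.2 : M) = (b.1.1 : M) * (b.1.2 : M) :=
              congrArg Subtype.val (a.2.trans b.2.symm)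
            rw [h1] at h2
            exact Subtype.ext (Prod.ext (Subtype.ext h1) (Subtype.ext (mul_left_cancel h2)))
        · rw [Nat.card_eq_zero.2 (Or.inl (not_nonempty_iff.1 hy))]; exact Nat.zero_le _
      have h729 : 729 ≤ Nat.card C * Nat.card D := by
        haveI := Fintype.ofFinite C
        calc 729 = Nat.card (↥(P : Subgroup M) × ↥(Q : Subgroup M)) := by
              rw [Nat.card_prod, h27 P, h27 Q]
          _ = ∑ y, Nat.card {pq // F pq = y} :=
              (Nat.card_congr (Equiv.sigmaFiberEquiv F)).symm.trans Nat.card_sigma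
          _ ≤ ∑ _y : C, Nat.card D := Finset.sum_le_sum fun y _ => hfib y
          _ = _ := by rw [Finset.sum_const, smul_eq_mul, Finset.card_univ, ← Nat.card_eq_fintype_card]
      obtain ⟨i, hi, e⟩ := (Nat.dvd_prime_pow Nat.prime_three).1 (show Nat.card D ∣ 3 ^ 3 from
        hdd.trans (by norm_num))
      have hle := Nat.le_of_dvd (by norm_num) h108
      interval_cases i
      · rw [e] at h729; nlinarith
      · rw [e] at h729; nlinarith
      · exact e.trans (by norm_num)
      · exact absurd (e.trans (by norm_num)) hd27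
    -- `D` is normalised by both
    set H := normalizer (D : Set M) ⊓ C
    have hnorm : ∀ R : Sylow 3 M, D ≤ (R : Subgroup M) → (R : Subgroup M) ≤ C →
        (R : Subgroup M) ≤ H := by
      intro R hDR hRC
      refine le_inf ?_ hRC
      set D' := D.subgroupOf (R : Subgroup M)
      have hD'c : Nat.card D' = 9 := by
        rw [Nat.card_congr (subgroupOfEquivOfLe hDR).toEquiv, hD9]
      have hidx : D'.index = 3 := by
        have h := D'.card_mul_index
        rw [hD'c] at h
        have h27' := h27 R
        omega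
      have hnD : D'.Normal := by
        refine Subgroup.normal_of_index_eq_minFac_card ?_
        have h27' := h27 R
        rw [hidx, h27']; norm_num
      intro v hv
      rw [mem_normalizer_iff]
      refine fun d => ⟨fun hd => ?_, fun hd => ?_⟩
      · exact hnD.conj_mem ⟨d, hDR hd⟩ hd ⟨v, hv⟩
      · have hdR : d ∈ (R : Subgroup M) := by
          have := mul_mem (mul_mem (inv_mem hv) (hDR hd)) hv
          simpa [mul_assoc] using this
        have := hnD.conj_mem ⟨v * d * v⁻¹, hDR hd⟩ hd ⟨v, hv⟩⁻¹
        simpa [D', mem_subgroupOf, mul_assoc] using this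
    have hPH := hnorm P inf_le_left hPC
    have hQH := hnorm Q inf_le_right hQC
    -- an element of value `0` in `D`
    obtain ⟨d, hd, hd1, hdv⟩ : ∃ d ∈ D, d ≠ 1 ∧ φ d = 0 := by
      by_contra hall
      push Not at hall
      have hsub : (Finset.univ.filter fun w => w ∈ D).erase 1 ⊆
          Finset.univ.filter fun w => w ∈ (P : Subgroup M) ∧ w ≠ 1 ∧ φ w = -3 := fun y hy => by
        obtain ⟨hy1, hy2⟩ := Finset.mem_erase.1 hy
        have hyD := (Finset.mem_filter.1 hy2).2
        refine Finset.mem_filter.2 ⟨Finset.mem_univ _, hyD.1, hy1, ?_⟩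
        exact (hval y (ho P y hyD.1 hy1)).resolve_left fun h => hall y hyD hy1 h.1
      have := Finset.card_le_card hsub
      rw [hA P, Finset.card_erase_of_mem (by simp), ← Fintype.card_subtype,
        ← Nat.card_eq_fintype_card] at this
      simp only [D] at hD9 this
      omega
    have hcd : Nat.card (centralizer ({d} : Set M)) = 9 :=
      ((hval d (ho P d hd.1 hd1)).resolve_right fun h => by
        rw [hdv] at h; norm_num at h).2
    have hHd : Nat.card H ≤ 6 * 9 := by
      -- the conjugates of `d` avoid the centre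
      haveI := Fintype.ofFinite H
      let S : Finset M := Finset.univ.filter fun y => y ∈ D ∧ ¬ (y = 1 ∨ y = z ∨ y = z⁻¹)
      have hS : S.card ≤ 6 := by
        have hDf : (Finset.univ.filter fun y => y ∈ D).card = 9 := by
          rw [← Fintype.card_subtype, ← Nat.card_eq_fintype_card]; exact hD9
        have hzz : z⁻¹ ≠ z := fun h => by
          have h2 : z ^ 2 = 1 := by rw [pow_two]; nth_rewrite 1 [← h]; exact inv_mul_cancel z
          have := orderOf_dvd_of_pow_eq_one h2
          rw [ho P z hzP hz1] at this; norm_num at this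
        have hzD : z ∈ D := ⟨hzP, hzQ⟩
        have hsub : S ⊆ (Finset.univ.filter fun y => y ∈ D) \ {1, z, z⁻¹} := fun y hy => by
          simp only [S, Finset.mem_filter, Finset.mem_univ, true_and] at hy
          simp [hy.1, hy.2]
        have := Finset.card_le_card hsub
        rw [Finset.card_sdiff_of_subset, hDf] at this
        · have h3 : ({1, z, z⁻¹} : Finset M).card = 3 := by
            rw [Finset.card_insert_of_notMem, Finset.card_pair hzz.symm]
            simp [hz1.symm, (inv_ne_one.2 hz1).symm]
          omega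
        · intro y hy
          simp only [Finset.mem_insert, Finset.mem_singleton] at hy
          simp only [Finset.mem_filter, Finset.mem_univ, true_and]
          rcases hy with rfl | rfl | rfl
          exacts [one_mem _, hzD, inv_mem hzD]
      have hdz : d ≠ z ∧ d ≠ z⁻¹ := by
        refine ⟨fun h => ?_, fun h => ?_⟩
        · rw [← h, hdv] at hzv; norm_num at hzv
        · have hc : Nat.card (centralizer ({d} : Set M)) = Nat.card C := by
            refine congrArg (fun K : Subgroup M => Nat.card K) ?_
            ext v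
            rw [mem_centralizer_singleton_iff, mem_centralizer_singleton_iff, h]
            exact ⟨fun e => (Commute.inv_right_iff.1 (show Commute v z⁻¹ from e)).eq,
              fun e => (Commute.inv_right (show Commute v z from e)).eq⟩
          have := card_dvd_of_le hPC
          rw [← hc, hcd, h27 P] at this
          norm_num at this
      have hfib : ∀ y ∈ (Finset.univ : Finset H).image (fun v : H => (v : M) * d * (v : M)⁻¹),
          (Finset.univ.filter fun v : H => (v : M) * d * (v : M)⁻¹ = y).card ≤ 9 := by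
        intro y hy
        obtain ⟨v₀, -, rfl⟩ := Finset.mem_image.1 hy
        refine (Finset.card_le_card_of_injOn (fun v : H => (v₀ : M)⁻¹ * (v : M))
          (t := Finset.univ.filter fun u => u ∈ centralizer ({d} : Set M)) ?_ ?_).trans_eq
          (by rw [← Fintype.card_subtype, ← Nat.card_eq_fintype_card]; exact hcd)
        · intro v hv
          rw [Finset.mem_coe, Finset.mem_filter] at hv
          refine Finset.mem_filter.2 ⟨Finset.mem_univ _, mem_centralizer_singleton_iff.2 ?_⟩
          calc (v₀ : M)⁻¹ * (v : M) * d = (v₀ : M)⁻¹ * ((v : M) * d * (v : M)⁻¹) * (v : M) := by group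
            _ = d * ((v₀ : M)⁻¹ * (v : M)) := by rw [hv.2]; group
        · intro u _ v _ e
          exact Subtype.ext (mul_left_cancel e)
      have himg : (Finset.univ : Finset H).image (fun v : H => (v : M) * d * (v : M)⁻¹) ⊆ S := by
        intro y hy
        obtain ⟨v, -, rfl⟩ := Finset.mem_image.1 hy
        refine Finset.mem_filter.2 ⟨Finset.mem_univ _, (mem_normalizer_iff.1 v.2.1 d).1 hd, ?_⟩
        have hvz : (v : M) * z = z * (v : M) := mem_centralizer_singleton_iff.1 v.2.2
        have hvz' : (v : M) * z⁻¹ = z⁻¹ * (v : M) := (Commute.inv_right (hvz : Commute _ _)).eq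
        rintro (h | h | h)
        · exact hd1 (conj_eq_one_iff.1 h)
        · apply hdz.1
          rw [mul_inv_eq_iff_eq_mul, ← hvz] at h
          exact mul_left_cancel h
        · apply hdz.2
          rw [mul_inv_eq_iff_eq_mul, ← hvz'] at h
          exact mul_left_cancel h
      have h1 := Finset.card_le_mul_card_image (Finset.univ : Finset H) 9 hfib
      rw [Finset.card_univ, ← Nat.card_eq_fintype_card] at h1
      have := Finset.card_le_card himg
      calc Nat.card H ≤ _ := h1
        _ ≤ 9 * 6 := Nat.mul_le_mul_left 9 (this.trans hS)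
        _ = _ := by norm_num
    have hH27 : 27 ∣ Nat.card H := h27 P ▸ card_dvd_of_le hPH
    have hidx : ((P : Subgroup M).subgroupOf H).index ≤ 2 := by
      have h := ((P : Subgroup M).subgroupOf H).card_mul_index
      rw [Nat.card_congr (subgroupOfEquivOfLe hPH).toEquiv, h27 P] at h
      omega
    have hn3 : Nat.card (Sylow 3 H) = 1 := by
      have h1 : Nat.card (Sylow 3 H) ∣ ((P.subtype hPH : Sylow 3 H) : Subgroup H).index :=
        Sylow.card_dvd_index _
      have h2 : Nat.card (Sylow 3 H) % 3 = 1 := H62.card_sylow_mod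
      have h3 : ((P.subtype hPH : Sylow 3 H) : Subgroup H).index ≤ 2 := hidx
      have h4 := Nat.le_of_dvd (Nat.pos_of_ne_zero Subgroup.index_ne_zero_of_finite) h1
      omega
    haveI := (Nat.card_eq_one_iff_unique.1 hn3).1
    exact hPQ (Sylow.subtype_injective (hP := hPH) (hQ := hQH) (Subsingleton.elim _ _))
  refine ⟨hnab, hTI, ?_⟩
  obtain ⟨P⟩ := (inferInstance : Nonempty (Sylow 3 M))
  -- `P` acts freely on the others
  have hmod : Nat.card (Sylow 3 M) % 27 = 1 := by
    let X := {Q : Sylow 3 M // Q ≠ P}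
    let act : MulAction (P : Subgroup M) X :=
      { smul := fun v Q => ⟨(v : M) • Q.1, fun h => Q.2 (by
          have e : (v : M) • P = P := Sylow.smul_eq_iff_mem_normalizer.2 (le_normalizer v.2)
          exact (MulAction.injective (v : M)) (h.trans e.symm))⟩
        one_smul := fun Q => Subtype.ext (one_smul M Q.1)
        mul_smul := fun u v Q => Subtype.ext (mul_smul (u : M) (v : M) Q.1) }
    letI := act
    have hfree : ∀ Q : X, MulAction.stabilizer (P : Subgroup M) Q = ⊥ := by
      intro Q
      rw [eq_bot_iff_forall]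
      intro v hv
      have e : (v : M) • Q.1 = Q.1 := congrArg Subtype.val hv
      have hvN : (v : M) ∈ normalizer ((Q.1 : Subgroup M) : Set M) :=
        Sylow.smul_eq_iff_mem_normalizer.1 e
      have hvQ : (v : M) ∈ (Q.1 : Subgroup M) := by
        by_cases hv1 : (v : M) = 1
        · rw [hv1]; exact one_mem _
        have hp : IsPGroup 3 (zpowers (v : M)) := IsPGroup.of_card (n := 1)
          (by rw [Nat.card_zpowers, ho P v v.2 hv1, pow_one])
        have := (hp.inf_normalizer_sylow Q.1).le ⟨mem_zpowers _, hvN⟩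
        exact this.2
      exact Subtype.ext ((Subgroup.mem_bot).1 ((hTI P Q.1 (Ne.symm Q.2)).le ⟨v.2, hvQ⟩))
    have h := Nat.card_congr (MulAction.selfEquivOrbitsQuotientProd hfree)
    rw [Nat.card_prod] at h
    have hX : Nat.card X + 1 = Nat.card (Sylow 3 M) := by
      haveI := Fintype.ofFinite (Sylow 3 M)
      haveI := Fintype.ofFinite X
      rw [Nat.card_eq_fintype_card, Nat.card_eq_fintype_card,
        show Fintype.card X = Fintype.card (Sylow 3 M) - 1 by
          simp [X, Fintype.card_subtype_compl]]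
      have := Fintype.card_pos (α := Sylow 3 M)
      omega
    have h27' := h27 P
    rw [h27'] at h
    omega
  have hdvd : Nat.card (Sylow 3 M) ∣ 224 :=
    H62.card_sylow_dvd (a := 3) (by rw [hn]; norm_num) (by norm_num)
  have hne1 : Nat.card (Sylow 3 M) ≠ 1 := by
    intro h1
    have hnormal : (P : Subgroup M).Normal :=
      normalizer_eq_top_iff.1 ((H62.card_sylow_eq_one_iff P).1 h1)
    rcases hnormal.eq_bot_or_eq_top with h | h
    · have := h27 P; simp [h] at this
    · have h27' := h27 P
      rw [h, Subgroup.card_top, hn] at h27'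
      omega
  have hdec : ∀ d ∈ Nat.divisors 224, d % 27 = 1 → d = 1 ∨ d = 28 := by decide +kernel
  exact (hdec _ (Nat.mem_divisors.2 ⟨hdvd, by norm_num⟩) hmod).resolve_left hne1

/-- The facts about the Sylow 3-subgroups of `G` that determine it. -/
structure Shape (G : Type*) [Group G] : Prop where
  card : Nat.card G = 12096
  count : Nat.card (Sylow 3 G) = 28
  nonab : ∀ P : Sylow 3 G, ∃ a b : G, a ∈ (P : Subgroup G) ∧ b ∈ (P : Subgroup G) ∧ a * b ≠ b * a
  exponent : ∀ P : Sylow 3 G, ∀ w ∈ (P : Subgroup G), w ^ 3 = 1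
  trivialInf : ∀ P Q : Sylow 3 G, P ≠ Q → (P : Subgroup G) ⊓ (Q : Subgroup G) = ⊥
  faithful : ∀ g : G, (∀ P : Sylow 3 G, g ∈ normalizer ((P : Subgroup G) : Set G)) → g = 1

theorem Hyp.shape {G : Type*} [Group G] [Finite G] (h : Hyp G) : Shape G := by
  classical
  haveI : Fact (Nat.Prime 3) := ⟨Nat.prime_three⟩
  obtain ⟨M, hMn, hMc, hMs⟩ := exists_simple_index_two h
  haveI := hMn
  haveI := hMs
  obtain ⟨hnab, hTI, h28⟩ := sylowThree_facts hMc (fun g => by
    rw [← Subgroup.orderOf_coe]; exact h.no9 (g : G))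
  have h27 : ∀ P : Sylow 3 G, Nat.card (P : Subgroup G) = 27 := fun P => by
    rw [H62.card_sylow_coe (a := 3) (m := 448) (by rw [h.card]; norm_num) (by norm_num) P]; norm_num
  -- the Sylow subgroups lie in `M`
  have hPM : ∀ P : Sylow 3 G, (P : Subgroup G) ≤ M := by
    intro P v hv
    have hidx : M.index = 2 := by
      have := M.card_mul_index
      rw [hMc, h.card] at this; omega
    by_cases hv1 : v = 1
    · rw [hv1]; exact one_mem _
    have hv3 := orderOf_eq_three h.no9 (h27 P) hv hv1
    have h2 := Subgroup.sq_mem_of_index_two hidx v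
    have e : v = (v ^ 2) ^ 2 := by
      have h3 : v ^ 3 = 1 := by rw [← hv3]; exact pow_orderOf_eq_one v
      calc v = v * v ^ 3 := by rw [h3, mul_one]
        _ = _ := by rw [← pow_mul, ← pow_succ']
    rw [e]; exact pow_mem h2 2
  let res : Sylow 3 G → Sylow 3 M := fun P => P.subtype (hPM P)
  have hinj : Function.Injective res := fun P Q e => Sylow.subtype_injective e
  have hsurj : Function.Surjective res := fun R => by
    obtain ⟨P, hP⟩ := (R.isPGroup'.map M.subtype).exists_le_sylow
    exact ⟨P, Sylow.ext (R.is_maximal' (P.subtype (hPM P)).isPGroup' fun w hw => hP ⟨w, hw, rfl⟩)⟩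
  have hcount : Nat.card (Sylow 3 G) = 28 :=
    (Nat.card_eq_of_bijective res ⟨hinj, hsurj⟩).trans h28
  refine ⟨h.card, hcount, fun P => ?_, fun P w hw => ?_, fun P Q hne => ?_, fun g hg => ?_⟩
  · obtain ⟨a, b, ha, hb, hab⟩ := hnab (res P)
    exact ⟨a, b, ha, hb, fun e => hab (Subtype.ext e)⟩
  · by_cases hw1 : w = 1
    · rw [hw1, one_pow]
    · rw [← orderOf_eq_three h.no9 (h27 P) hw hw1]; exact pow_orderOf_eq_one w
  · have hM := hTI (res P) (res Q) fun e => hne (hinj e)
    rw [eq_bot_iff_forall]
    intro w hw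
    have : (⟨w, hPM P hw.1⟩ : M) = 1 := Subgroup.mem_bot.1 (hM.le ⟨hw.1, hw.2⟩)
    exact congrArg Subtype.val this
  · let K : Subgroup G := (MulAction.toPermHom G (Sylow 3 G)).ker
    have hgK : g ∈ K := by
      rw [MonoidHom.mem_ker]
      exact Equiv.ext fun P => Sylow.smul_eq_iff_mem_normalizer.2 (hg P)
    have hK : K = ⊥ := by
      refine normal_eq_bot h ?_
      intro hd
      obtain ⟨P⟩ := (inferInstance : Nonempty (Sylow 3 G))
      have hle : K ≤ normalizer ((P : Subgroup G) : Set G) := fun y hy =>
        Sylow.smul_eq_iff_mem_normalizer.1 (Equiv.congr_fun (MonoidHom.mem_ker.1 hy) P)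
      have hm := H62.card_normalizer_mul P
      rw [hcount, h.card] at hm
      have := hd.trans (card_dvd_of_le hle)
      rw [show Nat.card (normalizer ((P : Subgroup G) : Set G)) = 432 by omega] at this
      norm_num at this
    rw [hK] at hgK
    exact Subgroup.mem_bot.1 hgK

end H4.G2Order
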