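import Cfsg.Agent.H4.G2OrderNormal
import Cfsg.Agent.H17.DefectZeroInvol

/-!
The Sylow 3-subgroups of a simple group of order `6048` without elements of order nine.
-/

set_option autoImplicit false
set_option linter.unusedSectionVars false

open Cfsg
open scoped ComplexConjugate

namespace H4.G2Order

universe u

variable {M : Type u} [Group M] [Fintype M]

/-- The candidate degrees. -/
def degs : List ℕ := (List.range 78).filter fun d => 6048 % d == 0

/-- The check behind `degree_cases`. -/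
def degreeCheck : Bool :=
  degs.all fun d₁ => degs.all fun d₂ => degs.all fun D =>
    ([1, -1] : List ℤ).all fun b₁ => ([1, -1] : List ℤ).all fun b₂ => ([1, -1] : List ℤ).all fun g =>
      ! ((2 < d₁) && (d₁ ≤ d₂) && (((d₁ : ℤ) + b₁) % 7 == 0) && (((d₂ : ℤ) + b₂) % 7 == 0) &&
          (b₁ * d₁ + b₂ * d₂ + g * D == 1)) ||
        (d₁ == 6 && b₁ == 1 && d₂ == 27 && b₂ == 1 && D == 32 && g == -1) ||
        (d₁ == 8 && b₁ == -1 && d₂ == 27 && b₂ == 1 && D == 18 && g == -1) || D == 3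

theorem degreeCheck_eq : degreeCheck = true := by decide +kernel

/-- The degrees in the principal block at `7`: two signed degrees and a signed exceptional one. -/
theorem degree_cases {d₁ d₂ D : ℕ} (h₁ : d₁ < 78) (h₁' : d₁ ∣ 6048) (h2 : 2 < d₁) (h₂ : d₂ < 78)
    (h₂' : d₂ ∣ 6048) (hle : d₁ ≤ d₂) (hD : D < 78) (hD' : D ∣ 6048) {b₁ b₂ g : ℤ}
    (hb₁ : b₁ ∈ ([1, -1] : List ℤ)) (hd₁ : (7 : ℤ) ∣ (d₁ : ℤ) + b₁)
    (hb₂ : b₂ ∈ ([1, -1] : List ℤ)) (hd₂ : (7 : ℤ) ∣ (d₂ : ℤ) + b₂)
    (hg : g ∈ ([1, -1] : List ℤ)) (heq : b₁ * d₁ + b₂ * d₂ + g * D = 1) :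
    (d₁ = 6 ∧ b₁ = 1 ∧ d₂ = 27 ∧ b₂ = 1 ∧ D = 32 ∧ g = -1) ∨
    (d₁ = 8 ∧ b₁ = -1 ∧ d₂ = 27 ∧ b₂ = 1 ∧ D = 18 ∧ g = -1) ∨ D = 3 := by
  have hm : ∀ d, d < 78 → d ∣ 6048 → d ∈ degs := fun d hd hd' => by
    simp [degs, hd, Nat.mod_eq_zero_of_dvd hd']
  have h := degreeCheck_eq
  simp only [degreeCheck, List.all_eq_true] at h
  have h := h d₁ (hm _ h₁ h₁') d₂ (hm _ h₂ h₂') D (hm _ hD hD') b₁ hb₁ b₂ hb₂ g hg
  have hp : ((2 < d₁) && (d₁ ≤ d₂) && (((d₁ : ℤ) + b₁) % 7 == 0) &&
      (((d₂ : ℤ) + b₂) % 7 == 0) && (b₁ * d₁ + b₂ * d₂ + g * D == 1) : Bool) = true := by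
    simp [h2, hle, Int.emod_eq_zero_of_dvd hd₁, Int.emod_eq_zero_of_dvd hd₂, heq]
  rw [hp] at h
  simp only [Bool.not_true, Bool.false_or, Bool.or_eq_true, Bool.and_eq_true, beq_iff_eq,
    and_assoc, or_assoc] at h
  exact h

/-- The value of `99 - 13 |α|² - 6 Re α` at `α = a + b ω + c ω²`. -/
def sixX (a b c : ℕ) : ℤ :=
  99 - 13 * ((a : ℤ) * a + (b : ℤ) * b + (c : ℤ) * c - a * b - b * c - c * a) - 3 * (2 * a - b - c)

/-- The check behind `six_cases`. -/
def sixCheck : Bool :=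
  (List.range 6).all fun a => (List.range 6).all fun b => (List.range 6).all fun c =>
    ! ((a + b + c == 6) && ((b + 2 * c) % 3 == 0) && decide (0 ≤ sixX a b c) &&
        (sixX a b c % 9 == 0)) || (a == 2 && b == 2 && c == 2) || (a == 0 && b == 3 && c == 3)

theorem sixCheck_eq : sixCheck = true := by decide +kernel

/-- The eigenvalue counts at an element of order three in degree six. -/
theorem six_cases {a b c : ℕ} (hs : a + b + c = 6) (h3 : 3 ∣ b + 2 * c) (ha : a ≠ 6) (hb : b ≠ 6)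
    (hc : c ≠ 6) (h0 : 0 ≤ sixX a b c) (h9 : (9 : ℤ) ∣ sixX a b c) :
    (a = 2 ∧ b = 2 ∧ c = 2) ∨ (a = 0 ∧ b = 3 ∧ c = 3) := by
  have h := sixCheck_eq
  simp only [sixCheck, List.all_eq_true, List.mem_range] at h
  have h := h a (by omega) b (by omega) c (by omega)
  have hp : ((a + b + c == 6) && ((b + 2 * c) % 3 == 0) && decide (0 ≤ sixX a b c) &&
      (sixX a b c % 9 == 0) : Bool) = true := by
    simp [hs, Nat.mod_eq_zero_of_dvd h3, h0, Int.emod_eq_zero_of_dvd h9]
  rw [hp] at h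
  simp only [Bool.not_true, Bool.false_or, Bool.or_eq_true, Bool.and_eq_true, beq_iff_eq,
    and_assoc, or_assoc] at h
  exact h

theorem sum_cube_roots {ω : ℂ} (hω : IsPrimitiveRoot ω 3) : 1 + ω + ω ^ 2 = 0 := by
  have h := hω.geom_sum_eq_zero (by norm_num)
  simpa [Finset.sum_range_succ] using h

theorem nine_dvd_centralizer {G : Type*} [Group G] [Finite G] (Q : Subgroup G)
    (hQ : Nat.card Q = 27) {w : G} (hw : w ∈ Q) :
    9 ∣ Nat.card (Subgroup.centralizer ({w} : Set G)) := by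
  haveI : Fact (Nat.Prime 3) := ⟨Nat.prime_three⟩
  classical
  have hp : IsPGroup 3 Q := IsPGroup.of_card (n := 3) (by rw [hQ]; norm_num)
  haveI : Nontrivial Q := Finite.one_lt_card_iff_nontrivial.1 (by rw [hQ]; norm_num)
  haveI := hp.center_nontrivial
  set C := Subgroup.centralizer ({(⟨w, hw⟩ : Q)} : Set Q)
  have hle : Nat.card C ∣ Nat.card (Subgroup.centralizer ({w} : Set G)) := by
    rw [← Subgroup.card_map_of_injective (K := C) Q.subtype_injective]
    refine Subgroup.card_dvd_of_le ?_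
    rintro _ ⟨v, hv, rfl⟩
    exact Subgroup.mem_centralizer_singleton_iff.2
      (congrArg Subtype.val (Subgroup.mem_centralizer_singleton_iff.1 hv))
  refine Nat.dvd_trans ?_ hle
  obtain ⟨k, hk⟩ := IsPGroup.iff_card.1 (hp.to_subgroup C)
  have hk2 : 2 ≤ k := by
    by_contra hlt
    have hC3 : Nat.card C ≤ 3 := by
      rw [hk]
      exact (Nat.pow_le_pow_right (by norm_num) (show k ≤ 1 by omega)).trans (by norm_num)
    obtain ⟨j, hj⟩ := IsPGroup.iff_card.1 (hp.to_subgroup (Subgroup.center Q))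
    have hj1 : 1 < Nat.card (Subgroup.center Q) := Finite.one_lt_card
    have hj3 : 3 ≤ Nat.card (Subgroup.center Q) := by
      rcases Nat.eq_zero_or_pos j with rfl | hpos
      · rw [hj] at hj1; norm_num at hj1
      · rw [hj]; exact (Nat.pow_le_pow_right (by norm_num) hpos).trans_eq' (by norm_num)
    have hcc : Subgroup.center Q ≤ C := fun v hv => Subgroup.mem_centralizer_singleton_iff.2
      (Subgroup.mem_center_iff.1 hv _).symm
    have heq : Subgroup.center Q = C := Subgroup.eq_of_le_of_card_ge hcc (by omega)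
    have hwc : (⟨w, hw⟩ : Q) ∈ Subgroup.center Q :=
      heq ▸ Subgroup.mem_centralizer_singleton_iff.2 rfl
    have htop : C = ⊤ := by
      rw [eq_top_iff]
      intro v _
      exact Subgroup.mem_centralizer_singleton_iff.2 (Subgroup.mem_center_iff.1 hwc v)
    rw [htop, Subgroup.card_top, hQ] at hC3
    omega
  rw [hk]
  exact (show (9 : ℕ) = 3 ^ 2 by norm_num) ▸ pow_dvd_pow 3 hk2

/-- The facts about a simple group of order `6048` used below. -/
structure ThreeFacts (M : Type u) [Group M] : Prop where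
  exists_value : ∃ φ : M → ℂ, φ 1 = 6 ∧
    (∀ P : Subgroup M, ∃ m : ℕ, ∑ᶠ w : P, φ w = (Nat.card P : ℂ) * m) ∧
    (∀ u : M, orderOf u = 3 → (φ u = 0 ∧ Nat.card (Subgroup.centralizer ({u} : Set M)) = 9) ∨
      φ u = -3) ∧
    ∀ u z : M, orderOf u = 3 → orderOf z = 3 → φ u = 0 → φ z = -3 →
      Nat.card (Subgroup.centralizer ({z} : Set M)) ∣ 108

set_option maxHeartbeats 1000000 in
theorem threeFacts [IsSimpleGroup M] (hn : Nat.card M = 6048) (h9 : ∀ g : M, orderOf g ≠ 9) :
    ThreeFacts M := by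
  classical
  haveI : Fact (Nat.Prime 7) := ⟨by norm_num⟩
  haveI : Fact (Nat.Prime 3) := ⟨Nat.prime_three⟩
  haveI : Fact (Nat.Prime 2) := ⟨Nat.prime_two⟩
  have hG : ¬ IsMulCommutative M := H62.not_comm_of_not_prime (by rw [hn]; norm_num)
  have hna : Subgroup.center M ≠ ⊤ := fun hc =>
    hG ⟨⟨fun a b => (Subgroup.mem_center_iff.1 (hc ▸ Subgroup.mem_top b) a)⟩⟩
  obtain ⟨P⟩ := (inferInstance : Nonempty (Sylow 7 M))
  obtain ⟨hP, hC, e, he, hN⟩ := H62.normalizer_threePrimes (p := 2) (q := 3) (r := 7) (a := 5)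
    (b := 3) Nat.prime_two Nat.prime_three (by decide) (by decide) (by decide)
    (hn.trans (by norm_num)) (by norm_num) P
  rw [show H62.selfCentralIndices (2 ^ 5 * 3 ^ 3 * 7) 7 = {3} by decide +kernel,
    Finset.mem_singleton] at he
  subst he
  obtain ⟨T, η, b, bη, δ, k, hone, hδ, hk, hT, hnorm, hrel, hTx, hcol⟩ :=
    H62.exists_block hP hC (e := 3) (by rw [hN]) (by norm_num)
  obtain rfl : k = 2 := by omega
  obtain ⟨γ, hγ⟩ : ∃ γ : ℤ, γ = ((2 : ℕ) : ℤ) * bη + δ := ⟨_, rfl⟩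
  rw [← hγ] at hrel hcol
  push_cast at hnorm hγ
  obtain ⟨x, hxP, hx1⟩ := (P : Subgroup M).bot_or_exists_ne_one.resolve_left fun h => by
    rw [h, Subgroup.card_bot] at hP; omega
  have hCx := H62.centralizer_eq_of_mem hP hC hxP hx1
  -- the shape of the block
  have hR2 : 2 * bη ^ 2 + 2 * (bη * δ) + 1 + ∑ χ ∈ T, b χ ^ 2 = 3 := by
    rcases hδ with rfl | rfl <;> linear_combination hnorm
  have hbη : bη = 0 ∨ bη = -δ := by
    have h0 : 0 ≤ ∑ χ ∈ T, b χ ^ 2 := Finset.sum_nonneg fun _ _ => sq_nonneg _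
    rcases hδ with rfl | rfl
    · have h1 : -2 < bη ∧ bη < 1 := ⟨by nlinarith, by nlinarith⟩
      obtain ⟨h1, h2⟩ := h1
      interval_cases bη
      · exact Or.inr rfl
      · exact Or.inl rfl
    · have h1 : -1 < bη ∧ bη < 2 := ⟨by nlinarith, by nlinarith⟩
      obtain ⟨h1, h2⟩ := h1
      interval_cases bη
      · exact Or.inl rfl
      · exact Or.inr rfl
  have hγ1 : γ ∈ ([1, -1] : List ℤ) := by
    simp only [List.mem_cons, List.not_mem_nil, or_false]
    rcases hbη with rfl | rfl <;> rcases hδ with rfl | rfl <;> omega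
  have hsum2 : ∑ χ ∈ T, b χ ^ 2 = 2 := by
    rcases hbη with rfl | rfl <;> rcases hδ with rfl | rfl <;> linarith
  have hb1 : ∀ χ ∈ T, b χ ^ 2 = 1 := by
    intro χ hχ
    have h1 := (hT χ hχ).1
    have h2 : b χ ^ 2 ≤ 2 := hsum2 ▸ Finset.single_le_sum (f := fun χ => b χ ^ 2)
      (fun _ _ => sq_nonneg _) hχ
    have h3 : -2 < b χ ∧ b χ < 2 := ⟨by nlinarith, by nlinarith⟩
    obtain ⟨h3, h4⟩ := h3
    interval_cases b χ <;> first
      | (norm_num; done)
      | norm_num at h1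
  have hcard2 : T.card = 2 := by
    have := hsum2
    rw [Finset.sum_congr rfl hb1, Finset.sum_const, nsmul_eq_mul, mul_one] at this
    exact_mod_cast this
  obtain ⟨χ₁, χ₂, h12, hT2, hle12⟩ : ∃ χ₁ χ₂, χ₁ ≠ χ₂ ∧ T = {χ₁, χ₂} ∧
      H12.degree (χ₁ : M → ℂ) ≤ H12.degree (χ₂ : M → ℂ) := by
    obtain ⟨u, v, huv, hT2⟩ := Finset.card_eq_two.1 hcard2
    rcases le_total (H12.degree (u : M → ℂ)) (H12.degree (v : M → ℂ)) with h | h
    · exact ⟨u, v, huv, hT2, h⟩
    · exact ⟨v, u, huv.symm, hT2.trans (Finset.pair_comm u v), h⟩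
  have hm1 : χ₁ ∈ T := by rw [hT2]; exact Finset.mem_insert_self _ _
  have hm2 : χ₂ ∈ T := by rw [hT2]; exact Finset.mem_insert_of_mem (Finset.mem_singleton_self _)
  have hne1 : χ₁ ≠ H12.oneIrr M := fun h => hone (h ▸ hm1)
  have hne2 : χ₂ ≠ H12.oneIrr M := fun h => hone (h ▸ hm2)
  have hreg1 : ¬ 7 ∣ orderOf (1 : M) := by rw [orderOf_one]; norm_num
  have hrel' : ∀ g : M, ¬ 7 ∣ orderOf g → (b χ₁ : ℂ) * (χ₁ : M → ℂ) g +
      (b χ₂ : ℂ) * (χ₂ : M → ℂ) g + (γ : ℂ) * (η : M → ℂ) g = 1 := by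
    intro g hg
    have := hrel g hg
    rw [hT2, Finset.sum_pair h12] at this
    exact this
  have heven : Even (Nat.card M) := by rw [hn]; decide
  have hdeg : b χ₁ * (H12.degree (χ₁ : M → ℂ) : ℤ) + b χ₂ * (H12.degree (χ₂ : M → ℂ) : ℤ) +
      γ * (H12.degree (η : M → ℂ) : ℤ) = 1 := by
    have h1 := hrel' 1 hreg1
    rw [H12.irr_apply_one, H12.irr_apply_one, H12.irr_apply_one] at h1
    exact_mod_cast h1
  have hD78 : H12.degree (η : M → ℂ) < 78 := by
    have h1 := Finset.single_le_sum (f := fun ψ : IrrCharacter M => H12.degree (ψ : M → ℂ) ^ 2)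
      (fun _ _ => Nat.zero_le _) (Finset.mem_univ η)
    rw [H12.sum_degree_sq_nat, hn] at h1
    by_contra hlt
    have := Nat.pow_le_pow_left (Nat.le_of_not_lt hlt) 2
    omega
  obtain ⟨hd1, hd1n, hd1s⟩ := H62.degree_bounds hG heven (χ := χ₁) hne1
  obtain ⟨hd2, hd2n, hd2s⟩ := H62.degree_bounds hG heven (χ := χ₂) hne2
  have hDn := H12.irr_degree_dvd_card η
  rw [hn] at hd1n hd1s hd2n hd2s hDn
  have hlt : ∀ d, d * d < 6048 → d < 78 := fun d hd => by nlinarith
  have hbmem : ∀ χ ∈ T, b χ ∈ ([1, -1] : List ℤ) := fun χ hχ => by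
    simp only [List.mem_cons, List.not_mem_nil, or_false]
    have := hb1 χ hχ
    rcases sq_eq_one_iff.1 this with h | h
    · exact Or.inl h
    · exact Or.inr h
  -- class algebra constants at an element of order seven
  have form : ∀ y z : M, ¬ 7 ∣ orderOf y → ¬ 7 ∣ orderOf z →
      (Nat.card {a : M // IsConj (x * (a * y * a⁻¹)) z} : ℂ) *
          (Nat.card (Subgroup.centralizer ({z} : Set M)) : ℂ) =
        6048 * (1 - ((b χ₁ : ℂ) * ((χ₁ : M → ℂ) y * conj ((χ₁ : M → ℂ) z) / (χ₁ : M → ℂ) 1) +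
          (b χ₂ : ℂ) * ((χ₂ : M → ℂ) y * conj ((χ₂ : M → ℂ) z) / (χ₂ : M → ℂ) 1)) -
          (γ : ℂ) * ((η : M → ℂ) y * conj ((η : M → ℂ) z) / (η : M → ℂ) 1)) := by
    intro y z hy hz
    have h1 := H62.card_product_class_eq_sum x y z
    rw [Finset.sum_congr rfl (g := fun ψ : IrrCharacter M =>
      (ψ : M → ℂ) y * conj ((ψ : M → ℂ) z) / (ψ : M → ℂ) 1 * (ψ : M → ℂ) x) (fun ψ _ => by ring),
      hcol x hxP hx1 _ (fun ψ ψ' hψ => by rw [hψ y hy, hψ z hz, hψ 1 hreg1]),
      H12.oneIrr_apply, H12.oneIrr_apply, H12.oneIrr_apply, map_one, one_mul, div_one,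
      hT2, Finset.sum_pair h12, hn] at h1
    exact_mod_cast h1
  obtain ⟨ω, hω⟩ : ∃ ω : ℂ, IsPrimitiveRoot ω 3 := ⟨_, Complex.isPrimitiveRoot_exp 3 (by norm_num)⟩
  have hω2 := sum_cube_roots hω
  have hu7 : ∀ u : M, orderOf u = 3 → ¬ 7 ∣ orderOf u := fun u hu => by rw [hu]; norm_num
  have hdvd7 : ∀ u : M, orderOf u = 3 → ¬ 7 ∣ Nat.card (Subgroup.centralizer ({u} : Set M)) := by
    intro u hu hd
    obtain ⟨w, hw⟩ := exists_prime_orderOf_dvd_card' 7 hd
    have hw' : orderOf (w : M) = 7 := by rw [Subgroup.orderOf_coe, hw]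
    obtain ⟨R, hR⟩ := (IsPGroup.of_card (p := 7) (n := 1)
      (by rw [Nat.card_zpowers, hw', pow_one] : Nat.card (Subgroup.zpowers (w : M)) = 7 ^ 1)).exists_le_sylow
    obtain ⟨g, hg⟩ := MulAction.exists_smul_eq M R P
    have hwP : g * (w : M) * g⁻¹ ∈ (P : Subgroup M) := by
      rw [← hg, Sylow.coe_subgroup_smul]
      exact Subgroup.smul_mem_pointwise_smul _ _ _ (hR (Subgroup.mem_zpowers _))
    have hw1 : g * (w : M) * g⁻¹ ≠ 1 := fun h => by
      rw [conj_eq_one_iff] at h; rw [h, orderOf_one] at hw'; omega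
    have htc : g * u * g⁻¹ ∈ Subgroup.centralizer ({g * (w : M) * g⁻¹} : Set M) := by
      rw [Subgroup.mem_centralizer_singleton_iff]
      have := Subgroup.mem_centralizer_singleton_iff.1 w.2
      calc g * u * g⁻¹ * (g * (w : M) * g⁻¹) = g * (u * (w : M)) * g⁻¹ := by group
        _ = g * ((w : M) * u) * g⁻¹ := by rw [this]
        _ = _ := by group
    rw [H62.centralizer_eq_of_mem hP hC hwP hw1] at htc
    have hd' := Subgroup.orderOf_dvd_natCard (P : Subgroup M) htc
    rw [← (SemiconjBy.conj_mk g u).orderOf_eq, hu, hP] at hd'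
    norm_num at hd'
  have hQ27 : ∀ Q : Sylow 3 M, Nat.card (Q : Subgroup M) = 27 := fun Q => by
    rw [H62.card_sylow_coe (a := 3) (m := 224) (by rw [hn]; norm_num) (by norm_num) Q]; norm_num
  rcases degree_cases (hlt _ hd1s) hd1n hd1 (hlt _ hd2s) hd2n hle12 hD78 hDn
      (hbmem _ hm1) (hT χ₁ hm1).2 (hbmem _ hm2) (hT χ₂ hm2).2 hγ1 hdeg with
    ⟨e1, eb1, e2, eb2, eD, eg⟩ | ⟨e1, eb1, e2, eb2, eD, eg⟩ | eD
  · -- degrees `6, 27; 32`
    have hvan : ∀ u : M, orderOf u = 3 → (χ₂ : M → ℂ) u = 0 := by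
      intro u hu
      refine H17.DefZero.vanish χ₂ Nat.prime_three ?_ (by rw [hu])
      rw [hn, show (Nat.factorization 6048) 3 = 3 by
        rw [show 6048 = 3 ^ 3 * 224 by norm_num, Nat.factorization_mul (by norm_num) (by norm_num),
          Finsupp.add_apply, Nat.Prime.factorization_pow Nat.prime_three, Finsupp.single_eq_same,
          Nat.factorization_eq_zero_of_not_dvd (by norm_num : ¬ 3 ∣ 224)]]
      exact ⟨1, by rw [mul_one]; exact e2⟩
    refine ⟨(χ₁ : M → ℂ), ?_, ?_, ?_, ?_⟩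
    · rw [H12.irr_apply_one, e1]; norm_num
    · intro Q
      haveI : Fintype Q := Fintype.ofFinite Q
      obtain ⟨m, hm⟩ := H12.IsCharacter.classInner_nat
        (H12.IsCharacter.res (H12.isCharacter_irr χ₁) Q) (H12.isCharacter_monoidHom (1 : Q →* ℂˣ))
      refine ⟨m, ?_⟩
      rw [finsum_eq_sum_of_fintype, ← hm, H12.classInner_def, ← mul_assoc,
        mul_inv_cancel₀ (Nat.cast_ne_zero.2 Nat.card_pos.ne'), one_mul]
      simp
    · intro u hu
      obtain ⟨a, p, q, hsum, h3, ha6, hp6, hq6, hval⟩ := exists_three_counts hna hne1 hu hω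
      rw [e1] at hsum ha6 hp6 hq6
      have hη : (η : M → ℂ) u = (χ₁ : M → ℂ) u - 1 := by
        have := hrel' u (hu7 u hu)
        rw [hvan u hu, eb1, eb2, eg] at this
        push_cast at this
        linear_combination -this
      have h1 := form u u (hu7 u hu) (hu7 u hu)
      obtain ⟨w, hw⟩ := mul_dvd_card_product (P := P) hP hC hxP (y := u) (z := u) (hdvd7 u hu)
      set c := Nat.card (Subgroup.centralizer ({u} : Set M)) with hc
      rw [hvan u hu, hη, eb1, eb2, eg, H12.irr_apply_one, H12.irr_apply_one η, e1, eD, hval,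
        hw] at h1
      have hcω : conj ω = ω ^ 2 := by
        rw [← Complex.inv_eq_conj (Complex.norm_eq_one_of_pow_eq_one hω.pow_eq_one (by norm_num))]
        exact inv_eq_of_mul_eq_one_right (by rw [← pow_succ', hω.pow_eq_one])
      simp only [map_sub, map_add, map_mul, map_pow, map_one, map_natCast, hcω, map_zero] at h1
      have key : ((c * c * w : ℕ) : ℂ) = ((9 * (99 - 13 * ((a : ℤ) * a + (p : ℤ) * p + (q : ℤ) * q
          - a * p - p * q - q * a) - 3 * (2 * a - p - q)) : ℤ) : ℂ) := by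
        have hω3 : ω ^ 3 = 1 := hω.pow_eq_one
        push_cast at h1 ⊢
        grobner
      have keyZ : ((c * c * w : ℕ) : ℤ) = 9 * (99 - 13 * ((a : ℤ) * a + (p : ℤ) * p + (q : ℤ) * q
          - a * p - p * q - q * a) - 3 * (2 * a - p - q)) := by exact_mod_cast key
      obtain ⟨Q, hQ⟩ := (IsPGroup.of_card (p := 3) (n := 1)
        (by rw [Nat.card_zpowers, hu, pow_one] : Nat.card (Subgroup.zpowers u) = 3 ^ 1)).exists_le_sylow
      obtain ⟨j, hj⟩ : 9 ∣ c := nine_dvd_centralizer _ (hQ27 Q) (hQ (Subgroup.mem_zpowers u))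
      rw [hj] at keyZ
      push_cast at keyZ
      have hpos : (0 : ℤ) ≤ (j : ℤ) * j * w := by positivity
      rcases six_cases hsum h3 ha6 hp6 hq6
          (by unfold sixX; linarith) ⟨(j : ℤ) * j * w, by unfold sixX; linarith⟩ with ⟨rfl, rfl, rfl⟩ | ⟨rfl, rfl, rfl⟩
      · refine Or.inl ⟨?_, ?_⟩
        · rw [hval]; push_cast; linear_combination 2 * hω2
        · have hj1 : j * j * w = 11 := by
            have : ((j * j * w : ℕ) : ℤ) = ((11 : ℕ) : ℤ) := by push_cast; linarith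
            exact_mod_cast this
          have hjd : j ∣ 11 := ⟨j * w, by rw [← hj1]; ring⟩
          rcases (Nat.dvd_prime (by norm_num)).1 hjd with rfl | rfl
          · exact hj
          · omega
      · exact Or.inr (by rw [hval]; push_cast; linear_combination 3 * hω2)
    · intro u z hu hz hu0 hz0
      have hηu : (η : M → ℂ) u = -1 := by
        have := hrel' u (hu7 u hu)
        rw [hvan u hu, hu0, eg] at this
        push_cast at this
        linear_combination -this
      have hηz : (η : M → ℂ) z = -4 := by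
        have := hrel' z (hu7 z hz)
        rw [hvan z hz, hz0, eb1, eg] at this
        push_cast at this
        linear_combination -this
      have h1 := form z u (hu7 z hz) (hu7 u hu)
      obtain ⟨w, hw⟩ := mul_dvd_card_product (P := P) hP hC hxP (y := z) (z := u) (hdvd7 z hz)
      rw [hvan z hz, hu0, hηu, hηz, eb1, eb2, eg, H12.irr_apply_one η, eD, hw] at h1
      simp only [map_neg, map_one, map_zero] at h1
      push_cast at h1
      set cz := Nat.card (Subgroup.centralizer ({z} : Set M))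
      set cu := Nat.card (Subgroup.centralizer ({u} : Set M))
      have h2 : ((cz * w * cu : ℕ) : ℂ) = ((972 : ℕ) : ℂ) := by
        push_cast; linear_combination (1 / 7 : ℂ) * h1
      have h3 : cz * w * cu = 972 := by exact_mod_cast h2
      obtain ⟨Q, hQ⟩ := (IsPGroup.of_card (p := 3) (n := 1)
        (by rw [Nat.card_zpowers, hu, pow_one] : Nat.card (Subgroup.zpowers u) = 3 ^ 1)).exists_le_sylow
      obtain ⟨j, hj⟩ : 9 ∣ cu := nine_dvd_centralizer _ (hQ27 Q) (hQ (Subgroup.mem_zpowers u))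
      rw [hj] at h3
      exact ⟨w * j, by linarith⟩
  · -- degrees `8, 27; 18`: no involutions
    exfalso
    obtain ⟨t, ht⟩ := exists_prime_orderOf_dvd_card' (G := M) 2 (by rw [hn]; norm_num)
    have ht7 : ¬ 7 ∣ orderOf t := by rw [ht]; norm_num
    obtain ⟨v₁, hv₁, hv₁4⟩ := H65.irr_involution_congr hna χ₁ ht
    obtain ⟨v₂, hv₂, -⟩ := H65.irr_involution_congr hna χ₂ ht
    obtain ⟨v₃, hv₃, -⟩ := H65.irr_involution_congr hna η ht
    have hr := hrel' t ht7
    rw [hv₁, hv₂, hv₃, eb1, eb2, eg] at hr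
    have hrZ : -v₁ + v₂ - v₃ = 1 := by
      have : ((-v₁ + v₂ - v₃ : ℤ) : ℂ) = ((1 : ℤ) : ℂ) := by
        push_cast at hr ⊢; linear_combination hr
      exact_mod_cast this
    haveI : IsEmpty {a : M // IsConj (x * (a * t * a⁻¹)) t} := by
      refine ⟨fun ⟨a, ha⟩ => ?_⟩
      obtain ⟨g, hg⟩ := isConj_iff.1 ha
      set s := a * t * a⁻¹ with hs
      have htt : t * t = 1 := by rw [← pow_two, ← ht, pow_orderOf_eq_one]
      have hss : s * s = 1 := H62.sq_conj_eq_one htt a
      have hxs : x * s * (x * s) = 1 := by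
        have e : x * s = g⁻¹ * t * g⁻¹⁻¹ := by
          calc _ = g⁻¹ * (g * (x * s) * g⁻¹) * g := by group
            _ = _ := by rw [hg, inv_inv]
        rw [e]; exact H62.sq_conj_eq_one htt _
      have hsx : s * x * s⁻¹ = x⁻¹ := by
        rw [inv_eq_of_mul_eq_one_right hss]
        exact eq_inv_of_mul_eq_one_right (by simpa [mul_assoc] using hxs)
      have hzP : Subgroup.zpowers x = (P : Subgroup M) := Subgroup.eq_of_le_of_card_ge
        (Subgroup.zpowers_le.2 hxP) (by
          rw [hP, Nat.card_zpowers, orderOf_eq_prime (H62.pow_card_of_mem hP hxP) hx1])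
      have hsN : s ∈ Subgroup.normalizer ((P : Subgroup M) : Set M) := by
        have hmap : ∀ w ∈ (P : Subgroup M), s * w * s⁻¹ ∈ (P : Subgroup M) := by
          intro w hw
          rw [← hzP] at hw
          obtain ⟨i, rfl⟩ := Subgroup.mem_zpowers_iff.1 hw
          rw [← conj_zpow, hsx]
          exact zpow_mem (inv_mem hxP) i
        rw [Subgroup.mem_normalizer_iff]
        refine fun w => ⟨hmap w, fun hw => ?_⟩
        have := hmap _ hw
        rwa [inv_eq_of_mul_eq_one_right hss, show s * (s * w * s) * s = s * s * w * (s * s) by group,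
          hss, one_mul, mul_one] at this
      have hso : orderOf s = 2 := by rw [hs, ← (SemiconjBy.conj_mk a t).orderOf_eq, ht]
      have hd := Subgroup.orderOf_dvd_natCard _ hsN
      rw [hso, hN] at hd
      norm_num at hd
    have h1 := form t t ht7 ht7
    rw [Nat.card_of_isEmpty, hv₁, hv₂, hv₃, map_intCast, map_intCast, map_intCast, eb1, eb2, eg,
      H12.irr_apply_one, H12.irr_apply_one, H12.irr_apply_one, e1, e2, eD] at h1
    have hS : 216 + 27 * (v₁ * v₁) - 8 * (v₂ * v₂) + 12 * (v₃ * v₃) = 0 := by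
      have : ((216 + 27 * (v₁ * v₁) - 8 * (v₂ * v₂) + 12 * (v₃ * v₃) : ℤ) : ℂ) = ((0 : ℤ) : ℂ) := by
        push_cast at h1 ⊢; linear_combination (-1 / 28 : ℂ) * h1
      exact_mod_cast this
    have hb : |v₁| < 8 := by
      have h2 := H12.IsCharacter.norm_le (H12.isCharacter_irr χ₁) t
      rw [hv₁, Complex.norm_intCast, e1] at h2
      refine lt_of_le_of_ne (by exact_mod_cast h2) fun h => ?_
      have ht1 : t ≠ 1 := fun h' => by rw [h', orderOf_one] at ht; omega
      rcases abs_choice v₁ with h' | h' <;> rw [h'] at h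
      · exact hne1 (H62.irr_eq_one_of_apply_eq_degree χ₁ ht1 (by rw [hv₁, h, e1]; norm_num))
      · exact apply_ne_neg_degree hG hne1 ht1 (by
          rw [hv₁, show v₁ = -8 by omega, e1]; norm_num)
    rw [e1] at hv₁4
    obtain rfl : v₃ = v₂ - v₁ - 1 := by linarith
    obtain ⟨hb1', hb2'⟩ := abs_lt.1 hb
    interval_cases v₁ <;> first
      | omega
      | nlinarith [sq_nonneg (v₂ + 9), sq_nonneg (v₂ - 15), sq_nonneg (v₂ - 3)]
  · -- a character of degree three
    exfalso
    have hηne : η ≠ H12.oneIrr M := fun h => by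
      have := H12.irr_apply_one η
      rw [eD, h, H12.oneIrr_apply] at this
      norm_num at this
    obtain ⟨Q⟩ := (inferInstance : Nonempty (Sylow 3 M))
    haveI : Fintype (Q : Subgroup M) := Fintype.ofFinite _
    obtain ⟨m, hm⟩ := H12.IsCharacter.classInner_nat
      (H12.IsCharacter.res (H12.isCharacter_irr η) (Q : Subgroup M))
      (H12.isCharacter_monoidHom (1 : (Q : Subgroup M) →* ℂˣ))
    rw [H12.classInner_def, ← Finset.add_sum_erase _ _ (Finset.mem_univ (1 : (Q : Subgroup M))),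
      Finset.sum_eq_zero (fun w hw => ?_), hQ27] at hm
    · simp only [OneMemClass.coe_one, MonoidHom.one_apply, Units.val_one, map_one, mul_one,
        H12.irr_apply_one, eD, add_zero] at hm
      have : ((3 : ℕ) : ℂ) = ((27 * m : ℕ) : ℂ) := by
        push_cast at hm ⊢; linear_combination (27 : ℂ) * hm
      have : 3 = 27 * m := by exact_mod_cast this
      omega
    · have hw1 : (w : M) ≠ 1 := fun h => Finset.ne_of_mem_erase hw (Subtype.ext h)
      have hw3 : orderOf (w : M) = 3 := by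
        have hd : orderOf (w : M) ∣ 3 ^ 3 := by
          have := Subgroup.orderOf_dvd_natCard (Q : Subgroup M) w.2
          rw [hQ27] at this
          norm_num at this ⊢
          exact this
        obtain ⟨i, hi, e⟩ := (Nat.dvd_prime_pow Nat.prime_three).1 hd
        interval_cases i
        · exact absurd (orderOf_eq_one_iff.1 (e.trans (pow_zero 3))) hw1
        · simpa using e
        · exact absurd (e.trans (by norm_num)) (h9 (w : M))
        · exfalso
          refine h9 ((w : M) ^ 3) ?_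
          rw [orderOf_pow' _ (by norm_num), e]; norm_num
      obtain ⟨a, p, q, hs, h3, na, np, nq, hval⟩ := exists_three_counts hna hηne hw3 hω
      rw [eD] at hs na np nq
      obtain ⟨rfl, rfl, rfl⟩ : a = 1 ∧ p = 1 ∧ q = 1 := by omega
      simp only [MonoidHom.one_apply, Units.val_one, map_one, mul_one]
      rw [hval]
      push_cast
      linear_combination hω2

end H4.G2Order
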