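import Cfsg.Agent.H4.G2OrderTI
import Cfsg.Agent.H4.G2OrderPerm

/-!
A group with the shape of `G₂(2)` is the permutation group `model`.
-/

set_option autoImplicit false
set_option linter.unusedSectionVars false

namespace H4.G2Order

open Subgroup
open scoped Pointwise

variable {G : Type*} [Group G] [Finite G]

theorem Shape.card_sylow (h : Shape G) (P : Sylow 3 G) : Nat.card (P : Subgroup G) = 27 := by
  haveI : Fact (Nat.Prime 3) := ⟨Nat.prime_three⟩
  rw [H62.card_sylow_coe (a := 3) (m := 448) (by rw [h.card]; norm_num) (by norm_num) P]; norm_num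

/-- A Sylow subgroup is regular on the others. -/
theorem Shape.regular (h : Shape G) {P Q : Sylow 3 G} (hPQ : Q ≠ P) :
    Function.Injective (fun p : (P : Subgroup G) => (p : G) • Q) ∧
      (∀ p : (P : Subgroup G), (p : G) • Q ≠ P) ∧
      ∀ R : Sylow 3 G, R ≠ P → ∃ p : (P : Subgroup G), (p : G) • Q = R := by
  classical
  haveI : Fact (Nat.Prime 3) := ⟨Nat.prime_three⟩
  have hfix : ∀ p ∈ (P : Subgroup G), p • Q = Q → p = 1 := by
    intro p hp e
    have hp3 : IsPGroup 3 (zpowers p) := P.isPGroup'.to_le (zpowers_le.2 hp)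
    have hmem := (hp3.inf_normalizer_sylow Q).le
      ⟨mem_zpowers p, Sylow.smul_eq_iff_mem_normalizer.1 e⟩
    exact Subgroup.mem_bot.1 ((h.trivialInf P Q (Ne.symm hPQ)).le ⟨hp, hmem.2⟩)
  have hinj : Function.Injective (fun p : (P : Subgroup G) => (p : G) • Q) := by
    intro a b e
    have e' : ((a : G)⁻¹ * (b : G)) • Q = Q := by
      rw [mul_smul, ← show (a : G) • Q = (b : G) • Q from e, inv_smul_smul]
    exact Subtype.ext (inv_mul_eq_one.1 (hfix _ (mul_mem (inv_mem a.2) b.2) e'))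
  have hne : ∀ p : (P : Subgroup G), (p : G) • Q ≠ P := fun p e => hPQ (by
    have hP : (p : G) • P = P := Sylow.smul_eq_iff_mem_normalizer.2 (le_normalizer p.2)
    exact MulAction.injective (p : G) (e.trans hP.symm))
  refine ⟨hinj, hne, fun R hR => ?_⟩
  haveI := Fintype.ofFinite (Sylow 3 G)
  haveI := Fintype.ofFinite (P : Subgroup G)
  let F : ↥(P : Subgroup G) → {R : Sylow 3 G // R ≠ P} := fun p => ⟨_, hne p⟩
  have hF : Function.Injective F := fun a b e => hinj (congrArg Subtype.val e)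
  obtain ⟨p, hp⟩ := ((Fintype.bijective_iff_injective_and_card F).2 ⟨hF, by
    rw [Fintype.card_subtype_compl, Fintype.card_subtype_eq, ← Nat.card_eq_fintype_card,
      ← Nat.card_eq_fintype_card, h.count]
    exact h.card_sylow P⟩).2 ⟨R, hR⟩
  exact ⟨p, congrArg Subtype.val hp⟩

/-- The two-point stabiliser. -/
def twoStab (P Q : Sylow 3 G) : Subgroup G :=
  normalizer ((P : Subgroup G) : Set G) ⊓ normalizer ((Q : Subgroup G) : Set G)

/-- The action of the two-point stabiliser on the Sylow subgroup. -/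
noncomputable def stabAct {P Q : Sylow 3 G} (e : ↥(P : Subgroup G) ≃* Heis) :
    twoStab P Q →* MulAut Heis :=
  ((MulAut.congr e).toMonoidHom.comp ((P : Subgroup G).normalizerMonoidHom)).comp
    (Subgroup.inclusion inf_le_left)

theorem stabAct_spec {P Q : Sylow 3 G} (e : ↥(P : Subgroup G) ≃* Heis) (t : twoStab P Q)
    (q : Heis) :
    ((e.symm (stabAct e t q) : ↥(P : Subgroup G)) : G) =
      (t : G) * ((e.symm q : ↥(P : Subgroup G)) : G) * (t : G)⁻¹ := by
  show ((e.symm (e (_ : ↥(P : Subgroup G)))) : G) = _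
  rw [MulEquiv.symm_apply_apply]
  rfl

theorem stabAct_injective (h : Shape G) {P Q : Sylow 3 G} (hPQ : Q ≠ P)
    (e : ↥(P : Subgroup G) ≃* Heis) : Function.Injective (stabAct e : twoStab P Q →* MulAut Heis) := by
  rw [← MonoidHom.ker_eq_bot_iff, eq_bot_iff_forall]
  intro t ht
  refine Subtype.ext (h.faithful _ fun R => ?_)
  by_cases hR : R = P
  · subst hR; exact t.2.1
  obtain ⟨p, rfl⟩ := (h.regular hPQ).2.2 R hR
  have hc : (t : G) * (p : G) * (t : G)⁻¹ = p := by
    have := stabAct_spec e t (e p)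
    rw [MonoidHom.mem_ker.1 ht] at this
    simpa using this.symm
  refine Sylow.smul_eq_iff_mem_normalizer.1 ?_
  rw [← mul_smul, show (t : G) * (p : G) = (p : G) * (t : G) from mul_inv_eq_iff_eq_mul.1 hc,
    mul_smul, Sylow.smul_eq_iff_mem_normalizer.2 t.2.2]

theorem card_twoStab (h : Shape G) {P Q : Sylow 3 G} (hPQ : Q ≠ P) :
    Nat.card (twoStab P Q) = 16 := by
  haveI : Fact (Nat.Prime 3) := ⟨Nat.prime_three⟩
  set N := normalizer ((P : Subgroup G) : Set G)
  have hN : Nat.card N = 432 := by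
    have hm : Nat.card N * Nat.card (Sylow 3 G) = Nat.card G := H62.card_normalizer_mul P
    rw [h.count, h.card] at hm; omega
  let F : ↥(P : Subgroup G) × twoStab P Q → N := fun pt =>
    ⟨(pt.1 : G) * (pt.2 : G), mul_mem (le_normalizer pt.1.2) pt.2.2.1⟩
  have hF : Function.Bijective F := by
    constructor
    · intro a b e
      have e' : (a.1 : G) * (a.2 : G) = (b.1 : G) * (b.2 : G) := congrArg Subtype.val e
      have h1 : a.1 = b.1 := (h.regular hPQ).1 (by
        have := congrArg (fun g : G => g • Q) e'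
        simpa [mul_smul, Sylow.smul_eq_iff_mem_normalizer.2 a.2.2.2,
          Sylow.smul_eq_iff_mem_normalizer.2 b.2.2.2] using this)
      rw [h1] at e'
      exact Prod.ext h1 (Subtype.ext (mul_left_cancel e'))
    · intro n
      have hne : (n : G) • Q ≠ P := fun e => hPQ (by
        have hP : (n : G) • P = P := Sylow.smul_eq_iff_mem_normalizer.2 n.2
        exact MulAction.injective (n : G) (e.trans hP.symm))
      obtain ⟨p, hp⟩ := (h.regular hPQ).2.2 _ hne
      refine ⟨⟨p, ⟨(p : G)⁻¹ * (n : G), mem_inf.2 ⟨mul_mem (inv_mem (le_normalizer p.2)) n.2,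
        Sylow.smul_eq_iff_mem_normalizer.1 (by rw [mul_smul, ← hp, inv_smul_smul])⟩⟩⟩, ?_⟩
      exact Subtype.ext (mul_inv_cancel_left _ _)
  have hc := Nat.card_eq_of_bijective F hF
  rw [Nat.card_prod, h.card_sylow P, hN] at hc
  omega

/-- The coordinates can be chosen so that the two-point stabiliser becomes `tGroup`. -/
theorem exists_coord (h : Shape G) {P Q : Sylow 3 G} (hPQ : Q ≠ P) :
    ∃ e : ↥(P : Subgroup G) ≃* Heis, (stabAct e : twoStab P Q →* MulAut Heis).range = tGroup := by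
  classical
  haveI : Fact (Nat.Prime 2) := ⟨Nat.prime_two⟩
  obtain ⟨e⟩ := Heis.nonempty_mulEquiv (h.card_sylow P)
    (fun w => Subtype.ext (h.exponent P w w.2)) (by
      obtain ⟨a, b, ha, hb, hab⟩ := h.nonab P
      exact ⟨⟨a, ha⟩, ⟨b, hb⟩, fun he => hab (congrArg Subtype.val he)⟩)
  have hS : ∀ S : Subgroup (MulAut Heis), Nat.card S = 16 →
      ∃ R : Sylow 2 (MulAut Heis), (R : Subgroup (MulAut Heis)) = S := by
    intro S hS
    obtain ⟨R, hR⟩ := (IsPGroup.of_card (p := 2) (n := 4) (by rw [hS]; norm_num)).exists_le_sylow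
    refine ⟨R, (eq_of_le_of_card_ge hR ?_).symm⟩
    rw [hS, H62.card_sylow_coe (a := 4) (m := 27) (by rw [Heis.card_mulAut]; norm_num) (by norm_num) R]
    norm_num
  have hc : Nat.card (stabAct e : twoStab P Q →* MulAut Heis).range = 16 := by
    rw [← Nat.card_congr (MonoidHom.ofInjective (stabAct_injective h hPQ e)).toEquiv,
      card_twoStab h hPQ]
  obtain ⟨R, hR⟩ := hS _ hc
  obtain ⟨R', hR'⟩ := hS _ card_tGroup
  obtain ⟨α, hα⟩ := MulAction.exists_smul_eq (MulAut Heis) R R'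
  refine ⟨e.trans α, ?_⟩
  have key : ∀ t : twoStab P Q, stabAct (e.trans α) t = MulAut.conj α (stabAct e t) := fun t =>
    MulEquiv.ext fun q => rfl
  rw [← hR', ← hα, Sylow.coe_subgroup_smul, hR]
  ext w
  constructor
  · rintro ⟨t, rfl⟩
    exact ⟨stabAct e t, ⟨t, rfl⟩, (key t).symm⟩
  · rintro ⟨_, ⟨t, rfl⟩, rfl⟩
    exact ⟨t, key t⟩

theorem stabSize_eq (q : Heis) :
    stabSize q = (Finset.univ.filter fun k : Fin 16 => tFun k q = q).card := by
  rw [stabSize, ← List.toFinset_card_of_nodup ((List.nodup_finRange 16).filter _)]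
  congr 1
  ext k
  simp

/-- A group with the shape of `G₂(2)` is isomorphic to the model. -/
theorem Shape.nonempty_equiv (h : Shape G) : Nonempty (G ≃* model) := by
  classical
  haveI : Fact (Nat.Prime 3) := ⟨Nat.prime_three⟩
  haveI : Nontrivial (Sylow 3 G) := Finite.one_lt_card_iff_nontrivial.1 (by rw [h.count]; norm_num)
  obtain ⟨P, Q, hPQ'⟩ := exists_pair_ne (Sylow 3 G)
  have hPQ : Q ≠ P := Ne.symm hPQ'
  obtain ⟨e, he⟩ := exists_coord h hPQ
  -- the coordinates of the points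
  obtain ⟨hreg1, hreg2, hreg3⟩ := h.regular hPQ
  let f : Option Heis → Sylow 3 G
    | none => P
    | some q => ((e.symm q : ↥(P : Subgroup G)) : G) • Q
  have hf : Function.Bijective f := by
    constructor
    · rintro (_ | a) (_ | b) hab
      · rfl
      · exact absurd hab.symm (hreg2 (e.symm b))
      · exact absurd hab (hreg2 (e.symm a))
      · exact congrArg some (e.symm.injective (hreg1 hab))
    · intro R
      by_cases hR : R = P
      · exact ⟨none, hR.symm⟩
      obtain ⟨p, hp⟩ := hreg3 R hR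
      exact ⟨some (e p), by show ((e.symm (e p) : ↥(P : Subgroup G)) : G) • Q = R; rw [e.symm_apply_apply, hp]⟩
  let ι : Option Heis ≃ Sylow 3 G := Equiv.ofBijective f hf
  let ρ : G →* Equiv.Perm (Option Heis) :=
    ι.symm.permCongrHom.toMonoidHom.comp (MulAction.toPermHom G (Sylow 3 G))
  have hρ : ∀ (g : G) (o : Option Heis), f (ρ g o) = g • f o := fun g o =>
    ι.apply_symm_apply _
  have hρinj : Function.Injective ρ := by
    rw [← MonoidHom.ker_eq_bot_iff, eq_bot_iff_forall]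
    intro g hg
    refine h.faithful g fun R => Sylow.smul_eq_iff_mem_normalizer.1 ?_
    obtain ⟨o, rfl⟩ := hf.2 R
    rw [← hρ, MonoidHom.mem_ker.1 hg]
    rfl
  have hQ1 : f (some 1) = Q := by
    show ((e.symm 1 : ↥(P : Subgroup G)) : G) • Q = Q
    rw [map_one, OneMemClass.coe_one, one_smul]
  -- translations and the two-point stabiliser
  have htr : ∀ (p : Heis) (o : Option Heis),
      ρ ((e.symm p : ↥(P : Subgroup G)) : G) o = shift p o := by
    intro p o
    apply hf.1
    rw [hρ]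
    cases o with
    | none => exact Sylow.smul_eq_iff_mem_normalizer.2 (le_normalizer (e.symm p).2)
    | some q =>
      show ((e.symm p : ↥(P : Subgroup G)) : G) • (((e.symm q : ↥(P : Subgroup G)) : G) • Q) =
        ((e.symm (p * q) : ↥(P : Subgroup G)) : G) • Q
      rw [← mul_smul, map_mul, Subgroup.coe_mul]
  have hst : ∀ k : Fin 16, ∃ t : twoStab P Q, stabAct e t = tAut k := fun k =>
    MonoidHom.mem_range.1 (he ▸ ⟨k, rfl⟩)
  choose tt htt using hst
  have hT : ∀ (t : twoStab P Q) (o : Option Heis), ρ (t : G) o = o.map (stabAct e t) := by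
    intro t o
    apply hf.1
    rw [hρ]
    cases o with
    | none => exact Sylow.smul_eq_iff_mem_normalizer.2 t.2.1
    | some q =>
      show (t : G) • (((e.symm q : ↥(P : Subgroup G)) : G) • Q) =
        ((e.symm (stabAct e t q) : ↥(P : Subgroup G)) : G) • Q
      rw [stabAct_spec, mul_smul, mul_smul,
        Sylow.smul_eq_iff_mem_normalizer.2 (inv_mem t.2.2)]
  have htk : ∀ (k : Fin 16) (o : Option Heis), ρ (tt k : G) o = o.map (tFun k) := fun k o => by
    rw [hT, htt]; rfl
  -- the point stabiliser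
  have hN : ∀ n : G, n • P = P →
      ∃ p k, n = ((e.symm p : ↥(P : Subgroup G)) : G) * (tt k : G) := by
    intro n hn
    have hne : n • Q ≠ P := fun e' => hPQ (MulAction.injective n (e'.trans hn.symm))
    obtain ⟨p, hp⟩ := hreg3 _ hne
    let t : twoStab P Q := ⟨(p : G)⁻¹ * n, mem_inf.2
      ⟨mul_mem (inv_mem (le_normalizer p.2)) (Sylow.smul_eq_iff_mem_normalizer.1 hn),
        Sylow.smul_eq_iff_mem_normalizer.1 (by rw [mul_smul, ← hp, inv_smul_smul])⟩⟩
    obtain ⟨k, hk⟩ : stabAct e t ∈ tGroup := he ▸ ⟨t, rfl⟩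
    have hkt : tt k = t := stabAct_injective h hPQ e ((htt k).trans hk)
    refine ⟨e p, k, ?_⟩
    rw [hkt, e.symm_apply_apply]
    exact (mul_inv_cancel_left _ _).symm
  -- interchanging elements
  have hswap : ∀ γ : G, γ • P = Q → γ • Q = P → ∃ τ : Fin 16 → Fin 16, Function.Bijective τ ∧
      ∀ k o, ρ γ (o.map (tFun k)) = (ρ γ o).map (tFun (τ k)) := by
    intro γ h1 h2
    have hmem : ∀ k, γ * (tt k : G) * γ⁻¹ ∈ twoStab P Q := by
      intro k
      have e1 : γ⁻¹ • P = Q := by rw [← h2, inv_smul_smul]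
      have e2 : γ⁻¹ • Q = P := by rw [← h1, inv_smul_smul]
      refine mem_inf.2 ⟨Sylow.smul_eq_iff_mem_normalizer.1 ?_,
        Sylow.smul_eq_iff_mem_normalizer.1 ?_⟩
      · rw [mul_smul, mul_smul, e1, Sylow.smul_eq_iff_mem_normalizer.2 (tt k).2.2, h2]
      · rw [mul_smul, mul_smul, e2, Sylow.smul_eq_iff_mem_normalizer.2 (tt k).2.1, h1]
    have hex : ∀ k, ∃ j, stabAct e ⟨_, hmem k⟩ = tAut j := fun k => by
      obtain ⟨j, hj⟩ : stabAct e ⟨_, hmem k⟩ ∈ tGroup := he ▸ ⟨_, rfl⟩
      exact ⟨j, hj.symm⟩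
    choose τ hτ using hex
    refine ⟨τ, (Fintype.bijective_iff_injective_and_card τ).2 ⟨fun a b hab => ?_, rfl⟩, fun k o => ?_⟩
    · have h3 : (⟨_, hmem a⟩ : twoStab P Q) = ⟨_, hmem b⟩ :=
        stabAct_injective h hPQ e ((hτ a).trans (hab ▸ (hτ b).symm))
      have h4 : (tt a : G) = tt b := mul_left_cancel (mul_right_cancel (congrArg Subtype.val h3))
      have h5 : tAut a = tAut b := by rw [← htt, ← htt, Subtype.ext h4]
      by_contra hne
      obtain ⟨q, hq⟩ := tFun_closed.2.2.1 a b hne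
      exact hq (DFunLike.congr_fun h5 q)
    · have h3 := hT ⟨_, hmem k⟩ (ρ γ o)
      rw [hτ k] at h3
      show ρ γ (o.map (tFun k)) = (ρ γ o).map (tAut (τ k))
      rw [← h3, ← htk, ← Equiv.Perm.mul_apply, ← Equiv.Perm.mul_apply, ← map_mul, ← map_mul]
      show ρ (γ * (tt k : G)) o = ρ (γ * (tt k : G) * γ⁻¹ * γ) o
      rw [inv_mul_cancel_right]
  have hnone : ∀ γ : G, γ • P = Q → ρ γ none = some 1 := fun γ h1 => hf.1 (by
    rw [hρ, hQ1]; exact h1)
  have hone : ∀ γ : G, γ • Q = P → ρ γ (some 1) = none := fun γ h2 => hf.1 (by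
    rw [hρ, hQ1]; exact h2)
  have himage : ∀ γ : G, γ • P = Q → γ • Q = P → ∀ q : Heis, q ≠ 1 →
      ∃ s : Heis, s ≠ 1 ∧ ρ γ (some q) = some s ∧ stabSize s = stabSize q := by
    intro γ h1 h2 q hq
    obtain ⟨τ, hτb, hτ⟩ := hswap γ h1 h2
    rcases hs : ρ γ (some q) with _ | s
    · have := (ρ γ).injective (hs.trans (hone γ h2).symm)
      exact absurd (Option.some.inj this) hq
    refine ⟨s, fun h0 => ?_, rfl, ?_⟩
    · subst h0
      have := (ρ γ).injective (hs.trans (hnone γ h1).symm)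
      exact Option.some_ne_none q this
    rw [stabSize_eq, stabSize_eq]
    refine (Finset.card_bij (fun k _ => τ k) (fun k hk => ?_) (fun a _ b _ hab => hτb.1 hab)
      (fun j hj => ?_)).symm
    · rw [Finset.mem_filter] at hk ⊢
      refine ⟨Finset.mem_univ _, ?_⟩
      have := hτ k (some q)
      rw [Option.map_some, hk.2, hs, Option.map_some] at this
      exact (Option.some.inj this).symm
    · obtain ⟨k, rfl⟩ := hτb.2 j
      refine ⟨k, Finset.mem_filter.2 ⟨Finset.mem_univ _, ?_⟩, rfl⟩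
      have := hτ k (some q)
      rw [Option.map_some, hs, Option.map_some, (Finset.mem_filter.1 hj).2, ← hs] at this
      exact Option.some.inj ((ρ γ).injective this)
  -- a normalised interchanging element
  obtain ⟨γ, hγ1, hγ2, hγ4⟩ : ∃ γ : G, γ • P = Q ∧ γ • Q = P ∧
      ρ γ (some ⟨4⟩) = some ⟨4⟩ := by
    obtain ⟨γ₁, h1⟩ := MulAction.exists_smul_eq G P Q
    have hne : γ₁ • Q ≠ Q := fun e' => hPQ' (MulAction.injective γ₁ (h1.trans e'.symm))
    obtain ⟨q, hq⟩ := (h.regular hPQ').2.2 _ hne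
    have hqQ : (q : G) • Q = Q := Sylow.smul_eq_iff_mem_normalizer.2 (le_normalizer q.2)
    have h2 : ((q : G)⁻¹ * γ₁) • P = Q := by
      rw [mul_smul, h1, inv_smul_eq_iff, hqQ]
    have h3 : ((q : G)⁻¹ * γ₁) • Q = P := by rw [mul_smul, ← hq, inv_smul_smul]
    obtain ⟨s, hs1, hs, hsz⟩ := himage _ h2 h3 ⟨4⟩ (by decide +kernel)
    rw [stab_rep.2.2] at hsz
    obtain ⟨k, hk⟩ := (stab_spec s hs1).2.2 hsz
    refine ⟨(tt k : G) * ((q : G)⁻¹ * γ₁), ?_, ?_, ?_⟩
    · rw [mul_smul, h2, Sylow.smul_eq_iff_mem_normalizer.2 (tt k).2.2]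
    · rw [mul_smul, h3, Sylow.smul_eq_iff_mem_normalizer.2 (tt k).2.1]
    · rw [map_mul, Equiv.Perm.mul_apply, hs, htk, Option.map_some, hk]
  obtain ⟨τ, hτb, hτ⟩ := hswap γ hγ1 hγ2
  obtain ⟨y₂, -, hy₂, hz₂⟩ := himage γ hγ1 hγ2 ⟨1⟩ (by decide +kernel)
  obtain ⟨y₈, hy₈1, hy₈, hz₈⟩ := himage γ hγ1 hγ2 ⟨3⟩ (by decide +kernel)
  have hy₂1 : y₂ ≠ 1 := fun h0 => by
    rw [h0] at hy₂
    exact Option.some_ne_none _ ((ρ γ).injective (hy₂.trans (hnone γ hγ1).symm))
  have hm₂ : y₂ ∈ orbTwo := (stab_spec y₂ hy₂1).1 (hz₂.trans stab_rep.1)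
  have hm₈ : y₈ ∈ orbEight := (stab_spec y₈ hy₈1).2.1 (hz₈.trans stab_rep.2.1)
  have hiter : ∀ (k : Fin 16) (n : ℕ) (o : Option Heis),
      ρ γ (o.map ((tFun k)^[n])) = (ρ γ o).map ((tFun (τ k))^[n]) := by
    intro k n
    induction n with
    | zero => intro o; simp
    | succ n ih =>
      intro o
      rw [Function.iterate_succ, Function.iterate_succ, ← Option.map_map, ih, hτ, Option.map_map]
  have hg : ∀ o, ρ γ o = cand (τ 2) (τ 1) y₂ y₈ o := by
    intro o
    cases o with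
    | none => exact hnone γ hγ1
    | some q =>
      by_cases hq : q = 1
      · subst hq; rw [hone γ hγ2]; simp [cand]
      obtain ⟨hw, hr⟩ := wOf_spec q hq
      simp only [cand, if_neg hq]
      conv_lhs => rw [← hw]
      show ρ γ (((some (⟨Fin.ofNat 27 (wOf q).2.2⟩ : Heis)).map ((tFun 1)^[(wOf q).2.1])).map
        ((tFun 2)^[(wOf q).1])) = _
      rw [hiter, hiter]
      rcases hr with hr | hr | hr <;> rw [hr]
      · rw [show (⟨Fin.ofNat 27 1⟩ : Heis) = ⟨1⟩ from rfl, hy₂]; simp [applyW]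
      · rw [show (⟨Fin.ofNat 27 3⟩ : Heis) = ⟨3⟩ from rfl, hy₈]; simp [applyW]
      · rw [show (⟨Fin.ofNat 27 4⟩ : Heis) = ⟨4⟩ from rfl, hγ4]; simp [applyW]
  have hOK : ∀ r : Heis, r ≠ 1 → tripleOK (cand (τ 2) (τ 1) y₂ y₈) r = true := by
    intro r hr
    obtain ⟨u, -, hu, -⟩ := himage γ hγ1 hγ2 r hr
    set m := γ * ((e.symm u⁻¹ : ↥(P : Subgroup G)) : G) * γ *
      ((e.symm r : ↥(P : Subgroup G)) : G) * γ
    have hm : ∀ o, ρ m o = triple (cand (τ 2) (τ 1) y₂ y₈) r o := by
      intro o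
      simp only [m, map_mul, Equiv.Perm.mul_apply, htr, hg, triple]
      rw [← hg (some r), hu, Option.getD_some]
    have hmn : ρ m none = none := by
      rw [hm]
      simp only [triple, ← hg, hnone γ hγ1, hu, Option.getD_some, shift, Option.map_some, mul_one,
        inv_mul_cancel, hone γ hγ2]
    have hmP : m • P = P := by
      have := hρ m none
      rw [hmn] at this
      exact this.symm
    obtain ⟨p, k, hpk⟩ := hN m hmP
    have hmq : ∀ q, triple (cand (τ 2) (τ 1) y₂ y₈) r (some q) = some (p * tFun k q) := by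
      intro q
      rw [← hm, hpk, map_mul, Equiv.Perm.mul_apply, htr, htk]
      rfl
    have ht1 : tFun k 1 = 1 := (tAut_apply k 1).symm.trans (map_one _)
    simp only [tripleOK, hmq 1, ht1, mul_one, List.any_eq_true, List.all_eq_true, beq_iff_eq]
    exact ⟨k, List.mem_finRange k, fun q _ => hmq ⟨q⟩⟩
  have h0 : ∀ o, ρ γ o = swap₀ o := by
    have hs := searchTwo_eq
    simp only [searchTwo, List.all_eq_true] at hs
    have := hs (τ 2) (List.mem_finRange _) (τ 1) (List.mem_finRange _) y₂ hm₂ y₈ hm₈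
    rw [hOK _ (by decide +kernel), hOK _ (by decide +kernel), hOK _ (by decide +kernel)] at this
    simp only [Bool.and_true, Bool.not_true, Bool.false_or, Bool.and_eq_true, beq_iff_eq] at this
    obtain ⟨⟨⟨hA, hB⟩, h2⟩, h8⟩ := this
    intro o
    rw [hg, hA, hB, h2, h8]
    rfl
  -- the image
  have hrange : ρ.range = model := by
    apply le_antisymm
    · have hγm : ρ γ ∈ model := subset_closure (Or.inr (Or.inr h0))
      have hNm : ∀ n : G, n • P = P → ρ n ∈ model := by
        intro n hn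
        obtain ⟨p, k, rfl⟩ := hN n hn
        rw [map_mul]
        exact mul_mem (subset_closure (Or.inl ⟨p, htr p⟩))
          (subset_closure (Or.inr (Or.inl ⟨k, htk k⟩)))
      rintro _ ⟨g, rfl⟩
      by_cases hgP : g • P = P
      · exact hNm g hgP
      obtain ⟨p, hp⟩ := hreg3 _ hgP
      have hfix : (γ⁻¹ * (p : G)⁻¹ * g) • P = P := by
        rw [mul_smul, ← hp, mul_smul, inv_smul_smul, ← hγ1, inv_smul_smul]
      have e' : g = (p : G) * γ * (γ⁻¹ * (p : G)⁻¹ * g) := by group
      rw [e', map_mul, map_mul]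
      exact mul_mem (mul_mem (hNm _ (Sylow.smul_eq_iff_mem_normalizer.2 (le_normalizer p.2))) hγm)
        (hNm _ hfix)
    · rw [model, closure_le]
      rintro σ (⟨p, hσ⟩ | ⟨k, hσ⟩ | hσ)
      · exact ⟨_, Equiv.ext fun o => (htr p o).trans (hσ o).symm⟩
      · exact ⟨_, Equiv.ext fun o => (htk k o).trans (hσ o).symm⟩
      · exact ⟨γ, Equiv.ext fun o => (h0 o).trans (hσ o).symm⟩
  exact ⟨(MonoidHom.ofInjective hρinj).trans (MulEquiv.subgroupCongr hrange)⟩

end H4.G2Order
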