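import Cfsg.Agent.H5.Frobenius

/-!
Normal complements of Hall subgroups with trivial iterated focal subgroup, and of nilpotent Hall
subgroups equal to the normalisers of their Sylow subgroups.
-/

set_option autoImplicit false

namespace H4

variable {G : Type*} [Group G]

theorem focalSubgroup_mono {H K : Subgroup G} (h : H ≤ K) :
    Subgroup.focalSubgroup H ≤ Subgroup.focalSubgroup K := by
  rw [Subgroup.focalSubgroup_def, Subgroup.focalSubgroup_def]
  refine Subgroup.closure_mono ?_
  rintro g ⟨hg, x, hx, u, rfl⟩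
  exact ⟨h hg, x, h hx, u, rfl⟩

theorem map_focalSubgroup_le {K : Type*} [Group K] (f : K →* G) (H : Subgroup K) :
    (Subgroup.focalSubgroup H).map f ≤ Subgroup.focalSubgroup (H.map f) := by
  rw [Subgroup.map_le_iff_le_comap, Subgroup.focalSubgroup_def, Subgroup.closure_le]
  rintro _ ⟨hz, x, hx, u, rfl⟩
  exact Subgroup.subset_closure
    ⟨Subgroup.mem_map_of_mem f hz, f x, Subgroup.mem_map_of_mem f hx, f u, map_commutatorElement f x u⟩

theorem focalSubgroup_iterate_mono {H K : Subgroup G} (h : H ≤ K) (n : ℕ) :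
    (fun L : Subgroup G => Subgroup.focalSubgroup L)^[n] H ≤
      (fun L : Subgroup G => Subgroup.focalSubgroup L)^[n] K :=
  Monotone.iterate (fun _ _ hab => focalSubgroup_mono hab) n h

theorem le_focalSubgroup_iterate {H : Subgroup G} (h : H ≤ Subgroup.focalSubgroup H) (n : ℕ) :
    H ≤ (fun L : Subgroup G => Subgroup.focalSubgroup L)^[n] H := by
  induction n with
  | zero => exact le_rfl
  | succ n ih =>
    rw [Function.iterate_succ_apply']
    exact h.trans (focalSubgroup_mono ih)

variable [Finite G]

theorem orderOf_abelianization_coprime (S : Set G) (m : ℕ)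
    (hS : ∀ z ∈ S, Nat.Coprime (orderOf z) m) (y : Subgroup.closure S) :
    Nat.Coprime (orderOf (Abelianization.of y)) m := by
  obtain ⟨y, hy⟩ := y
  induction hy using Subgroup.closure_induction with
  | mem z hz =>
    exact Nat.Coprime.coprime_dvd_left
      ((orderOf_map_dvd _ _).trans (Subgroup.orderOf_mk ..).dvd) (hS z hz)
  | one => simp [show (⟨1, (Subgroup.closure S).one_mem⟩ : Subgroup.closure S) = 1 from rfl]
  | mul a b ha' hb' ha hb =>
    rw [show (⟨a * b, _⟩ : Subgroup.closure S) = ⟨a, ha'⟩ * ⟨b, hb'⟩ from rfl, map_mul]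
    exact Nat.Coprime.coprime_dvd_left (Commute.all _ _).orderOf_mul_dvd_mul_orderOf
      (Nat.Coprime.mul_left ha hb)
  | inv a ha' ha =>
    rw [show (⟨a⁻¹, _⟩ : Subgroup.closure S) = ⟨a, ha'⟩⁻¹ from rfl, map_inv, orderOf_inv]
    exact ha

/-- A Hall subgroup has a normal supplement meeting it inside its focal subgroup in itself. -/
theorem exists_normal_sup_inf_le_focal (H : Subgroup G)
    (hH : Nat.Coprime (Nat.card H) H.index) :
    ∃ K : Subgroup G, K.Normal ∧ K ⊔ H = ⊤ ∧ K ⊓ H ≤ Subgroup.focalSubgroup (K ⊓ H) := by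
  set S := {g : G | Nat.Coprime (orderOf g) (Nat.card H)} with hSdef
  set K := Subgroup.closure S with hK
  haveI hKn : K.Normal := by
    have : K = Subgroup.normalClosure S := by
      refine le_antisymm Subgroup.closure_le_normalClosure ((Subgroup.closure_le _).mpr ?_)
      intro g hg
      obtain ⟨z, hz, hgz⟩ := Group.mem_conjugatesOfSet_iff.mp hg
      obtain ⟨c, rfl⟩ := isConj_iff.mp hgz
      refine Subgroup.subset_closure ?_
      show Nat.Coprime (orderOf (c * z * c⁻¹)) _
      rw [← MulAut.conj_apply, MulEquiv.orderOf_eq]; exact hz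
    rw [this]; infer_instance
  refine ⟨K, hKn, ?_, ?_⟩
  · rw [← Subgroup.index_eq_one]
    apply Nat.eq_one_iff_not_exists_prime_dvd.mpr
    intro q hq hd
    have hqH : Nat.Coprime q (Nat.card H) :=
      Nat.Coprime.coprime_dvd_left (hd.trans (Subgroup.index_dvd_of_le le_sup_right)) hH.symm
    haveI := Fact.mk hq
    have hqK : q ∣ Nat.card (G ⧸ K) := by
      rw [← Subgroup.index_eq_card]; exact hd.trans (Subgroup.index_dvd_of_le le_sup_left)
    obtain ⟨x, hx⟩ := exists_prime_orderOf_dvd_card' q hqK
    obtain ⟨g, rfl⟩ := QuotientGroup.mk'_surjective K x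
    obtain ⟨k, hk⟩ := H5.exists_pow_prime_pow_coprime (p := q) g
    set m := orderOf (g ^ q ^ k) with hm
    have hgm : g ^ m ∈ K := by
      refine Subgroup.subset_closure ?_
      show Nat.Coprime (orderOf (g ^ m)) _
      refine Nat.Coprime.coprime_dvd_left ?_ (hqH.pow_left k)
      apply orderOf_dvd_of_pow_eq_one
      rw [← pow_mul, mul_comm, pow_mul, hm, pow_orderOf_eq_one]
    have h1 : (QuotientGroup.mk' K g) ^ m = 1 := by
      rw [← map_pow]; exact (QuotientGroup.eq_one_iff _).mpr hgm
    have h2 := orderOf_dvd_of_pow_eq_one h1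
    rw [hx] at h2
    exact hq.ne_one (Nat.eq_one_of_dvd_coprimes hk h2 dvd_rfl)
  · set H0 := H.subgroupOf K with hH0
    have h1 : H0 ≤ commutator K := by
      intro x hx
      rw [← Abelianization.ker_of K, MonoidHom.mem_ker]
      apply orderOf_eq_one_iff.mp
      refine Nat.eq_one_of_dvd_coprimes
        (orderOf_abelianization_coprime S (Nat.card H) (fun z hz => hz) x) dvd_rfl ?_
      refine (orderOf_map_dvd _ _).trans ?_
      rw [← Subgroup.orderOf_coe, ← Subgroup.orderOf_mk (x : G) hx]
      exact orderOf_dvd_natCard _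
    have h2 := H5.commutator_inf_eq_focalSubgroup_of_hall H0 (H5.coprime_card_index_inf H K hH)
    rw [inf_eq_right.mpr h1] at h2
    have hmap : H0.map K.subtype = K ⊓ H := by
      rw [hH0, Subgroup.subgroupOf_map_subtype, inf_comm]
    calc K ⊓ H = H0.map K.subtype := hmap.symm
      _ = (Subgroup.focalSubgroup H0).map K.subtype := congrArg _ h2
      _ ≤ Subgroup.focalSubgroup (H0.map K.subtype) := map_focalSubgroup_le _ _
      _ = Subgroup.focalSubgroup (K ⊓ H) := by rw [hmap]

/-- A Hall subgroup whose iterated focal subgroup is trivial has a normal complement. -/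
theorem exists_normal_complement_of_focal_iterate (H : Subgroup G)
    (hH : Nat.Coprime (Nat.card H) H.index) (n : ℕ)
    (hn : (fun L : Subgroup G => Subgroup.focalSubgroup L)^[n] H = ⊥) :
    ∃ N : Subgroup G, N.Normal ∧ N.IsComplement' H := by
  obtain ⟨K, hK, hsup, hle⟩ := exists_normal_sup_inf_le_focal H hH
  have hdis : K ⊓ H = ⊥ := le_bot_iff.mp <|
    ((le_focalSubgroup_iterate hle n).trans (focalSubgroup_iterate_mono inf_le_right n)).trans hn.le
  refine ⟨K, hK, Subgroup.isComplement'_of_disjoint_and_mul_eq_univ (disjoint_iff.mpr hdis) ?_⟩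
  rw [← Subgroup.normal_mul, hsup, Subgroup.coe_top]

/-- A Hall subgroup with a nilpotent structure and `H`-controlled fusion of its elements of prime
power order has iterated focal subgroup below the lower central series. -/
theorem focal_iterate_le_lowerCentralSeries (H : Subgroup G)
    (h : ∀ K ≤ H, Subgroup.focalSubgroup K ≤ ⁅K, H⁆) (n : ℕ) :
    (fun L : Subgroup G => Subgroup.focalSubgroup L)^[n] H ≤ H.lowerCentralSeries n := by
  induction n with
  | zero => exact le_rfl
  | succ n ih =>
    rw [Function.iterate_succ_apply', Subgroup.lowerCentralSeries_succ]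
    exact (focalSubgroup_mono ih).trans (h _ (Subgroup.lowerCentralSeries_le_self H n))

end H4
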