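import Cfsg.Agent.H4.HallFocal

/-!
A nilpotent Hall subgroup, not a Sylow subgroup, equal to the normalisers of its Sylow subgroups
has a normal complement.
-/

set_option autoImplicit false

namespace H4

open commutatorElement Pointwise

variable {G : Type*} [Group G] [Finite G]

/-- Fusion control of prime power elements gives control of the focal subgroups. -/
theorem focal_le_commutator_of_pPower_control (H : Subgroup G)
    (h : ∀ p : ℕ, p.Prime → ∀ x ∈ H, ∀ g : G, g * x * g⁻¹ ∈ H → (∃ k : ℕ, x ^ p ^ k = 1) →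
      ∃ c ∈ H, c * x * c⁻¹ = g * x * g⁻¹)
    (K : Subgroup G) (hK : K ≤ H) : Subgroup.focalSubgroup K ≤ ⁅K, H⁆ := by
  rw [Subgroup.focalSubgroup_def, Subgroup.closure_le]
  rintro z ⟨hz, x, hx, u, rfl⟩
  have hle : ⁅K, H⁆ ≤ H := (Subgroup.commutator_mono hK le_rfl).trans (Subgroup.commutator_le_self H)
  haveI : (⁅K, H⁆.subgroupOf H).Normal :=
    (Subgroup.normal_subgroupOf_iff_le_normalizer hle).mpr (Subgroup.normalizer_commutator_ge_right K H)
  set M := ⁅K, H⁆.subgroupOf H
  set π := QuotientGroup.mk' M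
  have hy : u * x * u⁻¹ ∈ K := by
    have e : u * x * u⁻¹ = (x⁻¹ * ⁅x, u⁆)⁻¹ := by rw [commutatorElement_def]; group
    rw [e]; exact K.inv_mem (K.mul_mem (K.inv_mem hx) hz)
  set xH : H := ⟨x, hK hx⟩
  set yH : H := ⟨u * x * u⁻¹, hK hy⟩
  have hcen : ∀ w : H, (w : G) ∈ K → ∀ v : H, Commute (π w) (π v) := by
    intro w hw v
    rw [← commutatorElement_eq_one_iff_commute, ← map_commutatorElement]
    refine (QuotientGroup.eq_one_iff _).mpr ?_
    show (⁅w, v⁆ : H).1 ∈ ⁅K, H⁆
    rw [show ((⁅w, v⁆ : H) : G) = ⁅(w : G), (v : G)⁆ from map_commutatorElement H.subtype w v]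
    exact Subgroup.commutator_mem_commutator hw v.2
  set w := π xH * (π yH)⁻¹
  have hw : w = 1 := by
    apply orderOf_eq_one_iff.mp
    by_contra hne
    obtain ⟨q, hq, hqd⟩ := Nat.exists_prime_and_dvd hne
    have hcomm : Commute (π xH) (π yH) := hcen xH hx yH
    have horder : orderOf yH = orderOf xH := by
      rw [← Subgroup.orderOf_coe, ← Subgroup.orderOf_coe]
      show orderOf (u * x * u⁻¹) = orderOf x
      rw [← MulAut.conj_apply, MulEquiv.orderOf_eq]
    have hwn : orderOf w ∣ orderOf xH := by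
      apply orderOf_dvd_of_pow_eq_one
      rw [hcomm.inv_right.mul_pow, inv_pow, ← map_pow, ← map_pow, pow_orderOf_eq_one, ← horder,
        pow_orderOf_eq_one, map_one, inv_one, mul_one]
    set n := orderOf xH
    have hn : n ≠ 0 := (orderOf_pos xH).ne'
    set m := n / q ^ n.factorization q with hm
    have hpow : x ^ m ∈ K := K.pow_mem hx m
    obtain ⟨c, hc, hce⟩ := h q hq (x ^ m) (hK hpow) u
      (by rw [← conj_pow]; exact H.pow_mem (hK hy) m)
      ⟨n.factorization q, by
        have : x ^ n = 1 := by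
          rw [show n = orderOf x from (Subgroup.orderOf_coe xH).symm]; exact pow_orderOf_eq_one x
        rw [← pow_mul, mul_comm, Nat.ordProj_mul_ordCompl_eq_self]; exact this⟩
    have hwm : w ^ m = 1 := by
      rw [hcomm.inv_right.mul_pow, inv_pow, ← map_pow, ← map_pow, mul_inv_eq_one]
      have e : yH ^ m = ⟨c, hc⟩ * xH ^ m * (⟨c, hc⟩ : H)⁻¹ := by
        apply Subtype.ext
        simp only [Subgroup.coe_mul, Subgroup.coe_inv, SubgroupClass.coe_pow, xH, yH]
        rw [conj_pow, hce]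
      rw [e, map_mul, map_mul, map_inv,
        ← (hcen (xH ^ m) (by simpa [xH] using hpow) ⟨c, hc⟩).eq, mul_inv_cancel_right]
    exact Nat.not_dvd_ordCompl hq hn (hqd.trans (orderOf_dvd_of_pow_eq_one hwm))
  have hz' : π ((xH * yH⁻¹ : H)) = 1 := by rw [map_mul, map_inv]; exact hw
  have hz'' : ((xH * yH⁻¹ : H) : G) ∈ ⁅K, H⁆ := (QuotientGroup.eq_one_iff (N := M) (xH * yH⁻¹ : H)).mp hz'
  have e : ⁅x, u⁆ = x * (u * x * u⁻¹)⁻¹ := by rw [commutatorElement_def]; group
  rw [SetLike.mem_coe, e]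
  exact hz''

theorem exists_normal_complement_of_sylow_normalizers (H : Subgroup G)
    (hnot : ∀ p : ℕ, p.Prime → ∀ P : Sylow p G, (P : Subgroup G) ≠ H)
    (hnorm : ∀ p : ℕ, p.Prime → p ∣ Nat.card H → ∀ P : Sylow p H,
      Subgroup.normalizer (((P : Subgroup H).map H.subtype : Subgroup G) : Set G) = H) :
    ∃ N : Subgroup G, N.Normal ∧ Subgroup.IsComplement' N H := by
  have hsyl : ∀ p : ℕ, p.Prime → p ∣ Nat.card H → ∀ P : Sylow p H,
      ∃ S : Sylow p G, (S : Subgroup G) = (P : Subgroup H).map H.subtype := by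
    intro p hp hpd P
    haveI := Fact.mk hp
    obtain ⟨S, hS⟩ := (P.2.map H.subtype).exists_le_sylow
    refine ⟨S, ?_⟩
    set P' := ((P : Subgroup H).map H.subtype).subgroupOf (S : Subgroup G)
    haveI : Group.IsNilpotent (S : Subgroup G) := S.2.isNilpotent
    by_contra hne
    have hPt : P' < ⊤ := by
      refine lt_top_iff_ne_top.mpr fun ht => hne ?_
      exact le_antisymm (Subgroup.subgroupOf_eq_top.mp ht) hS
    have hlt := normalizerCondition_of_isNilpotent P' hPt
    obtain ⟨⟨s, hs⟩, hsn, hsP⟩ := Set.exists_of_ssubset (SetLike.coe_ssubset_coe.mpr hlt)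
    have hsH : s ∈ H := by
      rw [← hnorm p hp hpd P, Subgroup.mem_normalizer_iff]
      intro y
      have h1 : ∀ y : G, ∀ hy : y ∈ (S : Subgroup G),
          (y ∈ (P : Subgroup H).map H.subtype ↔ s * y * s⁻¹ ∈ (P : Subgroup H).map H.subtype) :=
        fun y hy => by
          have := (Subgroup.mem_normalizer_iff.mp hsn) ⟨y, hy⟩
          simpa [P', Subgroup.mem_subgroupOf] using this
      refine ⟨fun hy => (h1 y (hS hy)).mp hy, fun hy => (h1 y ?_).mpr hy⟩
      have := (S : Subgroup G).mul_mem ((S : Subgroup G).mul_mem ((S : Subgroup G).inv_mem hs) (hS hy)) hs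
      simpa [mul_assoc] using this
    have hPS : (P : Subgroup H) ≤ (S : Subgroup G).subgroupOf H := fun y hy => hS ⟨y, hy, rfl⟩
    have hpg : IsPGroup p ((S : Subgroup G).subgroupOf H) := S.2.comap_subtype
    have := P.3 hpg hPS
    exact hsP ⟨⟨s, hsH⟩, this.symm.ge (show (⟨s, hsH⟩ : H) ∈ (S : Subgroup G).subgroupOf H from hs), rfl⟩
  have hnil : Group.IsNilpotent H := by
    rw [Group.isNilpotent_of_finite_tfae.out 0 3 rfl rfl]
    intro p hp P
    by_cases hpd : p ∣ Nat.card H
    · have := hnorm p hp.out hpd P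
      exact ⟨fun y hy g => by
        have hg : (g : G) ∈ Subgroup.normalizer (((P : Subgroup H).map H.subtype : Subgroup G) : Set G) :=
          this.symm ▸ g.2
        obtain ⟨y', hy', e⟩ := (Subgroup.mem_normalizer_iff.mp hg (y : G)).mp ⟨y, hy, rfl⟩
        have : y' = g * y * g⁻¹ := Subtype.ext e
        exact this ▸ hy'⟩
    · have : (P : Subgroup H) = ⊥ := by
        rw [Subgroup.eq_bot_iff_card]
        obtain ⟨k, hk⟩ := IsPGroup.iff_card.mp P.2
        rcases Nat.eq_zero_or_pos k with h0 | h0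
        · rw [hk, h0, pow_zero]
        · exact absurd ((dvd_pow_self p h0.ne').trans (hk ▸ Subgroup.card_subgroup_dvd_card _)) hpd
      rw [this]; infer_instance
  have hHall : Nat.Coprime (Nat.card H) H.index := by
    refine Nat.coprime_of_dvd fun p hp hpH hpi => ?_
    haveI := Fact.mk hp
    obtain ⟨P⟩ := (inferInstance : Nonempty (Sylow p H))
    obtain ⟨S, hS⟩ := hsyl p hp hpH P
    exact S.not_dvd_index (hpi.trans (Subgroup.index_dvd_of_le (hS ▸ Subgroup.map_subtype_le _)))
  have hctrl : ∀ p : ℕ, p.Prime → ∀ x ∈ H, ∀ g : G, g * x * g⁻¹ ∈ H → (∃ k : ℕ, x ^ p ^ k = 1) →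
      ∃ c ∈ H, c * x * c⁻¹ = g * x * g⁻¹ := by
    intro p hp x hx g hy hk
    by_cases hx1 : x = 1
    · exact ⟨1, H.one_mem, by simp [hx1]⟩
    obtain ⟨k, hk⟩ := hk
    have hpd : p ∣ Nat.card H := by
      obtain ⟨j, hj, hj'⟩ := (Nat.dvd_prime_pow hp).mp (orderOf_dvd_of_pow_eq_one hk)
      have hj0 : j ≠ 0 := fun h0 => hx1 (orderOf_eq_one_iff.mp (by rw [hj', h0, pow_zero]))
      refine ((dvd_pow_self p hj0).trans hj'.symm.dvd).trans ?_
      rw [← Subgroup.orderOf_mk x hx]
      exact orderOf_dvd_natCard _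
    haveI := Fact.mk hp
    obtain ⟨P⟩ := (inferInstance : Nonempty (Sylow p H))
    obtain ⟨q, hq, hqd, hqp⟩ : ∃ q : ℕ, q.Prime ∧ q ∣ Nat.card H ∧ q ≠ p := by
      by_contra hcon
      push Not at hcon
      obtain ⟨S, hS⟩ := hsyl p hp hpd P
      apply hnot p hp S
      rw [hS]
      have hPtop : (P : Subgroup H) = ⊤ := by
        rw [← Subgroup.index_eq_one]
        apply Nat.eq_one_iff_not_exists_prime_dvd.mpr
        intro r hr hrd
        have := hcon r hr (hrd.trans (Subgroup.index_dvd_card _))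
        exact P.not_dvd_index (this ▸ hrd)
      rw [hPtop, ← MonoidHom.range_eq_map, Subgroup.range_subtype]
    haveI := Fact.mk hq
    haveI := hnil
    obtain ⟨Q⟩ := (inferInstance : Nonempty (Sylow q H))
    obtain ⟨T, hT⟩ := hsyl q hq hqd Q
    have hQc : ∀ z : G, ∀ hz : z ∈ H, (∃ k : ℕ, z ^ p ^ k = 1) →
        (T : Subgroup G) ≤ Subgroup.centralizer ((Subgroup.zpowers z : Subgroup G) : Set G) := by
      intro z hz hzk
      rw [Subgroup.le_centralizer_iff, Subgroup.zpowers_le, hT, Subgroup.mem_centralizer_iff]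
      rintro _ ⟨t, ht, rfl⟩
      obtain ⟨j, hj⟩ := hzk
      have hzpg : IsPGroup p (Subgroup.zpowers (⟨z, hz⟩ : H)) := by
        refine IsPGroup.of_card_dvd_pow (n := j) ?_
        rw [Nat.card_zpowers]
        exact orderOf_dvd_of_pow_eq_one (Subtype.ext (by simpa using hj))
      obtain ⟨P', hP'⟩ := hzpg.exists_le_sylow
      have := Subgroup.commute_of_normal_of_disjoint (P' : Subgroup H) (Q : Subgroup H)
        inferInstance inferInstance (IsPGroup.disjoint_of_ne p q hqp.symm _ _ P'.2 Q.2)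
        ⟨z, hz⟩ t (hP' (Subgroup.mem_zpowers _)) ht
      exact (congrArg Subtype.val this.eq).symm
    set y := g * x * g⁻¹
    have hyk : ∃ k : ℕ, y ^ p ^ k = 1 := ⟨k, by rw [conj_pow, hk, mul_one, mul_inv_cancel]⟩
    set C := Subgroup.centralizer ((Subgroup.zpowers y : Subgroup G) : Set G)
    have hT1 : (T : Subgroup G) ≤ C := hQc y hy hyk
    have hT2 : ((g • T : Sylow q G) : Subgroup G) ≤ C := by
      rw [Sylow.coe_subgroup_smul]
      rintro _ ⟨t, ht, rfl⟩
      have h1 := hQc x hx ⟨k, hk⟩ ht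
      rw [Subgroup.mem_centralizer_iff] at h1 ⊢
      intro z hz
      obtain ⟨i, rfl⟩ := Subgroup.mem_zpowers_iff.mp hz
      show y ^ i * (g * t * g⁻¹) = g * t * g⁻¹ * y ^ i
      rw [conj_zpow]
      calc g * x ^ i * g⁻¹ * (g * t * g⁻¹) = g * (x ^ i * t) * g⁻¹ := by group
        _ = g * (t * x ^ i) * g⁻¹ := by rw [h1 (x ^ i) (Subgroup.zpow_mem_zpowers x i)]
        _ = g * t * g⁻¹ * (g * x ^ i * g⁻¹) := by group
    obtain ⟨c, hc⟩ := MulAction.exists_smul_eq C ((g • T).subtype hT2) (T.subtype hT1)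
    rw [Sylow.smul_subtype] at hc
    have hcg : ((c : G) * g) • T = T := by rw [mul_smul]; exact Sylow.subtype_injective hc
    have hcgH : (c : G) * g ∈ H := by
      rw [← hnorm q hq hqd Q, ← hT]
      exact Sylow.smul_eq_iff_mem_normalizer.mp hcg
    refine ⟨c * g, hcgH, ?_⟩
    have h2 := Subgroup.mem_centralizer_iff.mp c.2 y (Subgroup.mem_zpowers y)
    calc (c : G) * g * x * ((c : G) * g)⁻¹ = (c : G) * y * (c : G)⁻¹ := by
          simp only [y]; group
      _ = y := by rw [← h2, mul_inv_cancel_right]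
  obtain ⟨n, hn⟩ := H.isNilpotent_iff_lowerCentralSeries.mp hnil
  exact exists_normal_complement_of_focal_iterate H hHall n
    (le_bot_iff.mp ((focal_iterate_le_lowerCentralSeries H
      (focal_le_commutator_of_pPower_control H hctrl) n).trans hn.le))

end H4
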