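import Cfsg.Agent.H4.Factor

/-!
The order of a product set of two subgroups and Sylow subgroups of factorised groups.
-/

set_option autoImplicit false

namespace H4

open Pointwise

variable {G : Type*} [Group G]

theorem card_mul_set_mul_card_inf [Finite G] (H K : Subgroup G) :
    Nat.card ((H : Set G) * (K : Set G) : Set G) * Nat.card (H ⊓ K : Subgroup G) =
      Nat.card H * Nat.card K := by
  rw [Subgroup.card_mul_eq_card_subgroup_mul_card_quotient]
  have h1 : Nat.card ((H : Set G).image (QuotientGroup.mk : G → G ⧸ K)) = K.relIndex H := by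
    rw [Subgroup.relIndex, Subgroup.index]
    refine (Nat.card_congr (Equiv.ofBijective
      (Quotient.lift (fun h : H => (⟨QuotientGroup.mk (h : G), Set.mem_image_of_mem _ h.2⟩ :
        ((H : Set G).image (QuotientGroup.mk : G → G ⧸ K)))) ?_) ⟨?_, ?_⟩)).symm
    · intro a b hab
      have := QuotientGroup.leftRel_apply.mp hab
      exact Subtype.ext (QuotientGroup.eq.mpr (by simpa [Subgroup.mem_subgroupOf] using this))
    · intro a b hab
      induction a using Quotient.inductionOn with | _ a =>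
      induction b using Quotient.inductionOn with | _ b =>
      have := QuotientGroup.eq.mp (congrArg Subtype.val hab)
      exact Quotient.sound (QuotientGroup.leftRel_apply.mpr (by simpa [Subgroup.mem_subgroupOf] using this))
    · rintro ⟨_, h, hh, rfl⟩
      exact ⟨Quotient.mk _ ⟨h, hh⟩, rfl⟩
  rw [h1, mul_assoc]
  have h2 : K.relIndex H * Nat.card (H ⊓ K : Subgroup G) = Nat.card H := by
    rw [← Subgroup.inf_relIndex_left H K]
    have := Subgroup.relIndex_mul_relIndex (⊥ : Subgroup G) (H ⊓ K) H bot_le inf_le_left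
    rw [Subgroup.relIndex_bot_left, Subgroup.relIndex_bot_left] at this
    rw [mul_comm]; exact this
  rw [h2, mul_comm]

theorem Factorizes.card_mul_card [Finite G] {H K : Subgroup G} (hHK : Factorizes H K) :
    Nat.card G * Nat.card (H ⊓ K : Subgroup G) = Nat.card H * Nat.card K := by
  rw [← card_mul_set_mul_card_inf H K]
  congr 1
  have : (H : Set G) * (K : Set G) = Set.univ := by
    rw [Set.eq_univ_iff_forall]
    intro g
    obtain ⟨h, hh, k, hk, rfl⟩ := hHK g
    exact ⟨h, hh, k, hk, rfl⟩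
  rw [this, Nat.card_univ]

/-- In a factorised group some Sylow subgroup is the product of Sylow subgroups of the factors. -/
theorem Factorizes.exists_sylow_mul [Finite G] {H K : Subgroup G} (hHK : Factorizes H K) (p : ℕ)
    [Fact p.Prime] : ∃ (P : Sylow p H) (Q : Sylow p K) (R : Sylow p G),
      ((R : Subgroup G) : Set G) = (((P : Subgroup H).map H.subtype : Subgroup G) : Set G) *
        (((Q : Subgroup K).map K.subtype : Subgroup G) : Set G) := by
  obtain ⟨P₀⟩ := (inferInstance : Nonempty (Sylow p H))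
  obtain ⟨Q₀⟩ := (inferInstance : Nonempty (Sylow p K))
  obtain ⟨R₁, hR₁⟩ := (P₀.2.map H.subtype).exists_le_sylow
  obtain ⟨R₂, hR₂⟩ := (Q₀.2.map K.subtype).exists_le_sylow
  obtain ⟨g, hg⟩ := MulAction.exists_smul_eq G R₁ R₂
  obtain ⟨k, hk, h, hh, e⟩ := hHK.symm g
  set P : Sylow p H := (⟨h, hh⟩ : H) • P₀
  set Q : Sylow p K := (⟨k, hk⟩ : K)⁻¹ • Q₀
  refine ⟨P, Q, h • R₁, ?_⟩
  set P' := (P : Subgroup H).map H.subtype
  set Q' := (Q : Subgroup K).map K.subtype
  have hP : P' ≤ ((h • R₁ : Sylow p G) : Subgroup G) := by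
    rintro _ ⟨x, hx, rfl⟩
    simp only [P, Q, Sylow.coe_subgroup_smul, SetLike.mem_coe, mem_conj_smul_iff] at hx ⊢
    exact hR₁ ⟨_, hx, by simp⟩
  have hQ : Q' ≤ ((h • R₁ : Sylow p G) : Subgroup G) := by
    rintro _ ⟨x, hx, rfl⟩
    simp only [P, Q, Sylow.coe_subgroup_smul, SetLike.mem_coe, mem_conj_smul_iff] at hx ⊢
    have := hR₂ ⟨_, hx, rfl⟩
    rw [← hg, Sylow.coe_subgroup_smul, mem_conj_smul_iff, e] at this
    simp only [inv_inv, Subgroup.coe_subtype, Subgroup.coe_mul, Subgroup.coe_inv] at this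
    convert this using 1
    simp only [Subgroup.coe_subtype]
    group
  have hsub : (P' : Set G) * (Q' : Set G) ⊆ ((h • R₁ : Sylow p G) : Subgroup G) := by
    rintro _ ⟨a, ha, b, hb, rfl⟩
    exact Subgroup.mul_mem _ (hP ha) (hQ hb)
  refine (Set.eq_of_subset_of_ncard_le hsub ?_).symm
  rw [← Nat.card_coe_set_eq, ← Nat.card_coe_set_eq]
  show Nat.card ((h • R₁ : Sylow p G) : Subgroup G) ≤ _
  have h1 := card_mul_set_mul_card_inf P' Q'
  have h2 := congrArg (fun n => n.factorization p) hHK.card_mul_card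
  simp only [Nat.factorization_mul Nat.card_pos.ne' Nat.card_pos.ne', Finsupp.coe_add, Pi.add_apply] at h2
  have h3 : Nat.card (P' ⊓ Q' : Subgroup G) ≤
      p ^ (Nat.card (H ⊓ K : Subgroup G)).factorization p := by
    obtain ⟨j, hj⟩ := IsPGroup.iff_card.mp ((P.2.map H.subtype).to_le (inf_le_left : P' ⊓ Q' ≤ P'))
    rw [hj]
    refine Nat.pow_le_pow_right (Fact.out : p.Prime).pos ?_
    refine ((Fact.out : p.Prime).pow_dvd_iff_le_factorization Nat.card_pos.ne').mp ?_
    rw [← hj]
    exact Subgroup.card_dvd_of_le (inf_le_inf (Subgroup.map_subtype_le _) (Subgroup.map_subtype_le _))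
  have h4 : Nat.card P' = p ^ (Nat.card H).factorization p := by
    rw [Subgroup.card_map_of_injective H.subtype_injective]; exact P.card_eq_multiplicity
  have h5 : Nat.card Q' = p ^ (Nat.card K).factorization p := by
    rw [Subgroup.card_map_of_injective K.subtype_injective]; exact Q.card_eq_multiplicity
  rw [(h • R₁).card_eq_multiplicity]
  rw [h4, h5, ← pow_add, ← h2, pow_add] at h1
  refine Nat.le_of_mul_le_mul_right ?_ (Nat.card_pos (α := (P' ⊓ Q' : Subgroup G)))
  rw [h1]
  exact Nat.mul_le_mul_left _ h3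

end H4
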