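import Cfsg.Agent.H4.Kegel
import Cfsg.Agent.H4.ProductCard
import Cfsg.Agent.H1.Hall

/-!
In a finite solvable group `G = H K`, normal Hall subgroups of the factors permute.
-/

set_option autoImplicit false

namespace H4

open Pointwise

variable {G : Type*} [Group G]

theorem normal_subgroupOf_conj_smul {A H : Subgroup G} (hn : (A.subgroupOf H).Normal) (g : G) :
    ((MulAut.conj g • A).subgroupOf (MulAut.conj g • H)).Normal := by
  refine ⟨fun x hx u => ?_⟩
  obtain ⟨u, hu⟩ := u
  obtain ⟨x, hxH⟩ := x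
  rw [Subgroup.mem_subgroupOf, mem_conj_smul_iff] at hx ⊢
  rw [mem_conj_smul_iff] at hu hxH
  have := hn.conj_mem ⟨_, hxH⟩ (Subgroup.mem_subgroupOf.mpr hx) ⟨_, hu⟩
  rw [Subgroup.mem_subgroupOf] at this
  simp only [Subgroup.coe_mul, Subgroup.coe_inv] at this ⊢
  convert this using 1
  group

variable [Finite G]

theorem coprime_index_conj_smul {A : Subgroup G} (h : (Nat.card A).Coprime A.index) (g : G) :
    (Nat.card (MulAut.conj g • A : Subgroup G)).Coprime (MulAut.conj g • A : Subgroup G).index := by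
  have hi : (MulAut.conj g • A : Subgroup G).index = A.index := by
    have h1 := A.card_mul_index
    rw [← (MulAut.conj g • A : Subgroup G).card_mul_index, card_conj_smul] at h1
    exact (Nat.eq_of_mul_eq_mul_left Nat.card_pos h1).symm
  rw [card_conj_smul, hi]; exact h

theorem exists_subgroup_eq_mul_of_hall [Group.IsSolvable G] {H K A B : Subgroup G}
    (hHK : Factorizes H K) (hA : A ≤ H) (hAn : (A.subgroupOf H).Normal) (hB : B ≤ K)
    (hBn : (B.subgroupOf K).Normal) (hAh : (Nat.card A).Coprime A.index)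
    (hBh : (Nat.card B).Coprime B.index) :
    ∃ S : Subgroup G, (S : Set G) = (A : Set G) * (B : Set G) := by
  let τ : ℕ → Prop := fun q => q ∣ Nat.card A ∨ q ∣ Nat.card B
  obtain ⟨S₁, hAS₁, hS₁a, hS₁b⟩ := H1.hall_pi_exists_ge τ A fun q _ hq => Or.inl hq
  obtain ⟨S₂, hBS₂, hS₂a, hS₂b⟩ := H1.hall_pi_exists_ge τ B fun q _ hq => Or.inr hq
  obtain ⟨g, hg⟩ := H1.hall_pi_conj τ hS₁a hS₁b hS₂a hS₂b
  obtain ⟨k, hk, h, hh, rfl⟩ := hHK.symm g
  refine ⟨MulAut.conj h • S₁, ?_⟩
  have hAS : A ≤ MulAut.conj h • S₁ := by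
    intro a ha
    rw [mem_conj_smul_iff]
    exact hAS₁ ((Subgroup.mem_normalizer_iff''.mp
      (((Subgroup.normal_subgroupOf_iff_le_normalizer hA).mp hAn) hh) a).mp ha)
  have hBS : B ≤ MulAut.conj h • S₁ := by
    intro b hb
    have hb' : k * b * k⁻¹ ∈ B := (Subgroup.mem_normalizer_iff.mp
      (((Subgroup.normal_subgroupOf_iff_le_normalizer hB).mp hBn) hk) b).mp hb
    have := hBS₂ hb'
    rw [← hg, mem_conj_smul_iff] at this
    rw [mem_conj_smul_iff]
    convert this using 1
    group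
  have hsub : (A : Set G) * (B : Set G) ⊆ (MulAut.conj h • S₁ : Subgroup G) := by
    rintro _ ⟨a, ha, b, hb, rfl⟩
    exact Subgroup.mul_mem _ (hAS ha) (hBS hb)
  refine (Set.eq_of_subset_of_ncard_le hsub ?_).symm
  rw [← Nat.card_coe_set_eq, ← Nat.card_coe_set_eq]
  show Nat.card (MulAut.conj h • S₁ : Subgroup G) ≤ _
  rw [card_conj_smul]
  refine Nat.le_of_mul_le_mul_right ?_ (Nat.card_pos (α := (A ⊓ B : Subgroup G)))
  rw [card_mul_set_mul_card_inf, ← Nat.gcd_mul_lcm (Nat.card A) (Nat.card B),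
    mul_comm (Nat.gcd _ _)]
  refine Nat.mul_le_mul ?_ (Nat.le_of_dvd (Nat.gcd_pos_of_pos_left _ Nat.card_pos)
    (Nat.dvd_gcd (Subgroup.card_dvd_of_le inf_le_left) (Subgroup.card_dvd_of_le inf_le_right)))
  refine Nat.le_of_dvd (Nat.pos_of_ne_zero (Nat.lcm_ne_zero Nat.card_pos.ne' Nat.card_pos.ne')) ?_
  rw [← Nat.factorization_le_iff_dvd Nat.card_pos.ne'
    (Nat.lcm_ne_zero Nat.card_pos.ne' Nat.card_pos.ne'),
    Nat.factorization_lcm Nat.card_pos.ne' Nat.card_pos.ne']
  intro q
  rw [Finsupp.sup_apply]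
  have hle : (Nat.card S₁).factorization q ≤ (Nat.card G).factorization q :=
    (Nat.factorization_le_iff_dvd Nat.card_pos.ne' Nat.card_pos.ne').mpr
      (Subgroup.card_subgroup_dvd_card S₁) q
  have key : ∀ X : Subgroup G, (Nat.card X).Coprime X.index → q.Prime → q ∣ Nat.card X →
      (Nat.card G).factorization q = (Nat.card X).factorization q := by
    intro X hX hq hqd
    rw [← X.card_mul_index, Nat.factorization_mul Nat.card_pos.ne' Subgroup.index_ne_zero_of_finite,
      Finsupp.add_apply, Nat.factorization_eq_zero_of_not_dvd (n := X.index)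
        (fun hd => Nat.not_coprime_of_dvd_of_dvd hq.one_lt hqd hd hX) , add_zero]
  by_cases hq : q.Prime ∧ q ∣ Nat.card S₁
  · rcases hS₁a q hq.1 hq.2 with hd | hd
    · exact (key A hAh hq.1 hd ▸ hle).trans le_sup_left
    · exact (key B hBh hq.1 hd ▸ hle).trans le_sup_right
  · have : (Nat.card S₁).factorization q = 0 := by
      rw [Nat.factorization_eq_zero_iff]
      tauto
    rw [this]; exact Nat.zero_le _

end H4
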