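import Cfsg.Agent.H31.InvariantMax
import Cfsg.Agent.H79.GlaubermanThompson
import Cfsg.Agent.H1.FPF
import Mathlib.GroupTheory.Solvable

set_option autoImplicit false

/-!
A coprime operator group all of whose maximal invariant proper subgroups are nilpotent (helper4),
given that groups of odd order are solvable.
-/

namespace H4

namespace InvMax

open Subgroup

universe u v

/-- Invariance under the operators. -/
def Inv (A : Type v) {G : Type u} [Group A] [Group G] [MulDistribMulAction A G] (H : Subgroup G) :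
    Prop := ∀ a : A, ∀ x ∈ H, a • x ∈ H

variable {A : Type v} {G : Type u} [Group A] [Group G] [MulDistribMulAction A G]

theorem inv_of_map {H : Subgroup G}
    (h : ∀ a : A, H.map (MulDistribMulAction.toMulAut A G a).toMonoidHom = H) : Inv A H :=
  fun a x hx => h a ▸ ⟨x, hx, rfl⟩

theorem map_of_inv [Finite G] {H : Subgroup G} (h : Inv A H) (a : A) :
    H.map (MulDistribMulAction.toMulAut A G a).toMonoidHom = H := by
  refine eq_of_le_of_card_ge ?_ ?_
  · rintro _ ⟨x, hx, rfl⟩; exact h a x hx
  · exact (card_map_of_injective (MulDistribMulAction.toMulAut A G a).injective).ge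

theorem inv_characteristic {H : Subgroup G} (hH : H.Characteristic) : Inv A H :=
  inv_of_map fun a => (characteristic_iff_map_eq.mp hH) (MulDistribMulAction.toMulAut A G a)

theorem inv_normalizer [Finite G] {H : Subgroup G} (h : Inv A H) :
    Inv A (normalizer (H : Set G)) := by
  refine inv_of_map fun a => ?_
  rw [map_equiv_normalizer_eq H (MulDistribMulAction.toMulAut A G a), map_of_inv h a]

theorem nilpotent_of_proper [Finite G]
    (hmax : ∀ H : Subgroup G, H ≠ ⊤ → Inv A H →
      (∀ K : Subgroup G, H < K → Inv A K → K = ⊤) → Group.IsNilpotent H)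
    {H : Subgroup G} (hH : H ≠ ⊤) (hi : Inv A H) : Group.IsNilpotent H := by
  obtain ⟨M, ⟨hM, hMi, hHM⟩, hmin⟩ := (wellFounded_gt (α := Subgroup G)).has_min
    {M : Subgroup G | M ≠ ⊤ ∧ Inv A M ∧ H ≤ M} ⟨H, hH, hi, le_rfl⟩
  haveI := hmax M hM hMi fun K hK hKi => by
    by_contra hne
    exact hmin K ⟨hne, hKi, hHM.trans hK.le⟩ hK
  exact Group.nilpotent_of_mulEquiv (subgroupOfEquivOfLe hHM)

/-- Solvability. -/
theorem isSolvable_of_invariant_nilpotent [Finite A]
    (hodd : ∀ (H : Type u) [Group H] [Finite H], Odd (Nat.card H) → Group.IsSolvable H)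
    (hoddA : Odd (Nat.card A) → Group.IsSolvable A) (n : ℕ) :
    ∀ (G : Type u) [Group G] [Finite G] [MulDistribMulAction A G], Nat.card G ≤ n →
      (Nat.card A).Coprime (Nat.card G) →
      (∀ H : Subgroup G, H ≠ ⊤ → Inv A H → Group.IsNilpotent H) → Group.IsSolvable G := by
  induction n with
  | zero => intro G _ _ _ hn; exact absurd hn (not_le.mpr Nat.card_pos)
  | succ n ih =>
  intro G _ _ _ hn hcop hnil
  have hsol : Group.IsSolvable A ∨ Group.IsSolvable G := by
    by_cases h : 2 ∣ Nat.card G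
    · refine Or.inl (hoddA (Nat.odd_iff.mpr (Nat.two_dvd_ne_zero.mp fun h2 => ?_)))
      exact absurd (Nat.eq_one_of_dvd_coprimes hcop h2 h) (by decide)
    · exact Or.inr (hodd G (Nat.odd_iff.mpr (Nat.two_dvd_ne_zero.mp h)))
  by_cases h2 : IsPGroup 2 G
  · haveI : Fact (Nat.Prime 2) := ⟨Nat.prime_two⟩
    haveI := h2.isNilpotent
    infer_instance
  obtain ⟨p, hp, hpd, hp2⟩ : ∃ p : ℕ, p.Prime ∧ p ∣ Nat.card G ∧ p ≠ 2 := by
    by_contra hcon
    exact h2 (IsPGroup.of_card (Nat.eq_prime_pow_of_unique_prime_dvd Nat.card_pos.ne' fun {d} hd hdd =>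
      not_not.mp fun hne => hcon ⟨d, hd, hdd, hne⟩))
  haveI : Fact p.Prime := ⟨hp⟩
  obtain ⟨P, hPi⟩ := H31.exists_invariant_sylow_smul hcop hsol p
  have hP0 : (P : Subgroup G) ≠ ⊥ := fun e => by
    have h := P.dvd_card_of_dvd_card hpd
    rw [e, card_bot] at h
    exact hp.not_dvd_one h
  set Z : Subgroup G := H79.ZJ p true (P : Subgroup G) with hZ
  have hZ0 : Z ≠ ⊥ := H79.ZJ_ne_bot P.2 hP0
  have hZi : Inv A Z := inv_of_map fun a => by
    rw [hZ, H79.ZJ_map fun x _ hx => (MulDistribMulAction.toMulAut A G a).injective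
      (hx.trans (map_one _).symm), map_of_inv hPi a]
  by_cases hN : normalizer (Z : Set G) = ⊤
  · haveI : Z.Normal := normalizer_eq_top_iff.mp hN
    have hZp : IsPGroup p Z := P.2.to_le (H79.ZJ_le _)
    let φ : A →* MulAut (G ⧸ Z) :=
      { toFun := fun a => QuotientGroup.congr Z Z (MulDistribMulAction.toMulAut A G a) (map_of_inv hZi a)
        map_one' := MulEquiv.ext fun x => by
          obtain ⟨x, rfl⟩ := QuotientGroup.mk_surjective x
          show ((((1 : A) • x : G)) : G ⧸ Z) = (x : G ⧸ Z)
          rw [one_smul]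
        map_mul' := fun a b => MulEquiv.ext fun x => by
          obtain ⟨x, rfl⟩ := QuotientGroup.mk_surjective x
          show ((((a * b) • x : G)) : G ⧸ Z) = ((a • b • x : G) : G ⧸ Z)
          rw [mul_smul] }
    letI : MulDistribMulAction A (G ⧸ Z) := MulDistribMulAction.compHom (G ⧸ Z) φ
    have hc := card_eq_card_quotient_mul_card_subgroup Z
    have hlt : Nat.card (G ⧸ Z) ≤ n := by
      have h1 : 1 < Nat.card Z := Z.one_lt_card_iff_ne_bot.mpr hZ0
      have h3 : 0 < Nat.card (G ⧸ Z) := Nat.card_pos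
      nlinarith
    haveI : Group.IsSolvable (G ⧸ Z) := by
      refine ih (G ⧸ Z) hlt (hcop.coprime_dvd_right (hc ▸ dvd_mul_right _ _)) fun H hH hHi => ?_
      haveI := hnil (H.comap (QuotientGroup.mk' Z)) (fun e => hH (by
          rw [← map_comap_eq_self_of_surjective (QuotientGroup.mk'_surjective Z) H, e,
            map_top_of_surjective _ (QuotientGroup.mk'_surjective Z)]))
        (fun a x hx => by
          have h := hHi a (QuotientGroup.mk' Z x) hx
          exact h)
      exact Group.nilpotent_of_surjective ((QuotientGroup.mk' Z).subgroupComap H)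
        ((QuotientGroup.mk' Z).subgroupComap_surjective_of_surjective H (QuotientGroup.mk'_surjective Z))
    haveI := hZp.isNilpotent
    exact solvable_of_ker_le_range Z.subtype (QuotientGroup.mk' Z)
      (by rw [QuotientGroup.ker_mk', Subgroup.range_subtype])
  · have hc : Cfsg.HasNormalPComplement p G :=
      H79.hasNormalPComplement_of_ZJ hp2 true (Nat.card G) G le_rfl P (P : Subgroup G)
        ⟨le_rfl, fun _ _ _ h => h⟩
        (H1.hasNormalPComplement_of_nilpotent p (hnil _ hN (inv_normalizer hZi)))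
    obtain ⟨Q, K, hK, hKQ⟩ := hc
    haveI := hK
    have hQi : K.index = Nat.card (Q : Subgroup G) := hKQ.symm.index_eq_card
    have hKc : (Nat.card K).Coprime K.index := by
      obtain ⟨j, hj⟩ := IsPGroup.iff_card.mp Q.2
      have e : Nat.card K = (Q : Subgroup G).index := hKQ.index_eq_card.symm
      rw [hQi, hj, e]
      exact (((hp.coprime_iff_not_dvd).mpr Q.not_dvd_index).symm).pow_right j
    have hKi : Inv A K := by
      intro a x hx
      refine (QuotientGroup.eq_one_iff (N := K) (a • x)).mp (orderOf_eq_one_iff.mp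
        (Nat.eq_one_of_dvd_coprimes hKc ?_ (orderOf_dvd_natCard _)))
      refine (orderOf_map_dvd (QuotientGroup.mk' K) _).trans ?_
      show orderOf ((MulDistribMulAction.toMulAut A G a) x) ∣ _
      rw [MulEquiv.orderOf_eq]
      exact orderOf_dvd_natCard K hx
    have hKne : K ≠ ⊤ := fun e => by
      rw [e, index_top] at hQi
      have h := Q.dvd_card_of_dvd_card hpd
      rw [← hQi] at h
      exact hp.not_dvd_one h
    haveI := hnil K hKne hKi
    haveI : Group.IsSolvable (G ⧸ K) := by
      obtain ⟨j, hj⟩ := IsPGroup.iff_card.mp Q.2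
      haveI := (IsPGroup.of_card (hQi.trans hj) : IsPGroup p (G ⧸ K)).isNilpotent
      infer_instance
    exact solvable_of_ker_le_range K.subtype (QuotientGroup.mk' K)
      (by rw [QuotientGroup.ker_mk', Subgroup.range_subtype])

/-- Shape of a solvable group of this kind. -/
theorem shape [Finite A] [Finite G] [Group.IsSolvable G] (hcop : (Nat.card A).Coprime (Nat.card G))
    (hnil : ∀ H : Subgroup G, H ≠ ⊤ → Inv A H → Group.IsNilpotent H)
    (hG : ¬ Group.IsNilpotent G) :
    (∃ p q a b : ℕ, p.Prime ∧ q.Prime ∧ p ≠ q ∧ Nat.card G = p ^ a * q ^ b) ∧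
      ∃ (p : ℕ) (P : Sylow p G), p.Prime ∧ p ∣ Nat.card G ∧ (P : Subgroup G).Normal ∧
        Inv A (P : Subgroup G) := by
  classical
  haveI : Nontrivial G := by
    by_contra h
    rw [not_nontrivial_iff_subsingleton] at h
    exact hG inferInstance
  set D := commutator G with hD
  have hDlt : D ≠ ⊤ := (Group.IsSolvable.commutator_lt_top_of_nontrivial G).ne
  have hidx : D.index ≠ 1 := fun h => hDlt (index_eq_one.mp h)
  set q := D.index.minFac with hqdef
  have hq : q.Prime := Nat.minFac_prime hidx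
  haveI : Fact q.Prime := ⟨hq⟩
  have hd0 : D.index ≠ 0 := index_ne_zero_of_finite
  set m := q ^ D.index.factorization q with hm
  set k := D.index / m with hk
  have hmk : m * k = D.index := Nat.mul_div_cancel' (Nat.ordProj_dvd _ _)
  have hqk : ¬ q ∣ k := Nat.not_dvd_ordCompl hq hd0
  letI : CommGroup (G ⧸ D) := { (inferInstance : Group (G ⧸ D)) with
    mul_comm := fun x y => mul_comm (G := Abelianization G) x y }
  let f : G →* G ⧸ D := (powMonoidHom k).comp (QuotientGroup.mk' D)
  have hfi : Inv A f.ker := by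
    intro a x hx
    have hxk : x ^ k ∈ D := (QuotientGroup.eq_one_iff _).mp (by rw [QuotientGroup.mk_pow]; exact hx)
    show ((a • x : G) : G ⧸ D) ^ k = 1
    rw [← QuotientGroup.mk_pow, QuotientGroup.eq_one_iff, ← smul_pow']
    exact inv_characteristic (inferInstance : (commutator G).Characteristic) a _ hxk
  have hfne : f.ker ≠ ⊤ := by
    intro e
    obtain ⟨x, hx⟩ := exists_prime_orderOf_dvd_card' (G := G ⧸ D) q (Nat.minFac_dvd _)
    obtain ⟨g, rfl⟩ := QuotientGroup.mk_surjective x
    have hgk : (g : G ⧸ D) ^ k = 1 := (e ▸ mem_top g : g ∈ f.ker)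
    exact hqk (hx ▸ orderOf_dvd_of_pow_eq_one hgk)
  haveI hKnil : Group.IsNilpotent f.ker := hnil _ hfne hfi
  have hKidx : ∀ r : ℕ, r.Prime → r ≠ q → ¬ r ∣ f.ker.index := by
    intro r hr hne hrd
    haveI : Fact r.Prime := ⟨hr⟩
    rw [index_ker] at hrd
    obtain ⟨⟨x, g, hg⟩, hx⟩ := exists_prime_orderOf_dvd_card' (G := f.range) r hrd
    rw [← Subgroup.orderOf_coe] at hx
    have h1 : x ^ m = 1 := by
      rw [← hg]
      show ((g : G ⧸ D) ^ k) ^ m = 1
      rw [← pow_mul, mul_comm, hmk, Subgroup.index]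
      exact pow_card_eq_one'
    exact hne ((Nat.prime_dvd_prime_iff_eq hr hq).mp
      (hr.dvd_of_dvd_pow (hm ▸ hx ▸ orderOf_dvd_of_pow_eq_one h1)))
  -- the Sylow subgroups for the other primes are normal and invariant
  have hnorm : ∀ r : ℕ, r.Prime → r ≠ q → ∀ P : Sylow r G,
      (P : Subgroup G).Normal ∧ Inv A (P : Subgroup G) := by
    intro r hr hne P
    haveI : Fact r.Prime := ⟨hr⟩
    obtain ⟨P0, hP0⟩ : ∃ P0 : Subgroup G, P0.Normal ∧ IsPGroup r P0 ∧ ¬ r ∣ P0.index := by
      let R : Sylow r f.ker := default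
      haveI : (R : Subgroup f.ker).Normal :=
        (Group.isNilpotent_of_finite_tfae.out 0 3 rfl rfl).mp hKnil r inferInstance R
      haveI : (R : Subgroup f.ker).Characteristic := Sylow.characteristic_of_normal R inferInstance
      refine ⟨(R : Subgroup f.ker).map f.ker.subtype, inferInstance, R.2.map _, ?_⟩
      rw [index_map_subtype, hr.dvd_mul, not_or]
      exact ⟨R.not_dvd_index, hKidx r hr hne⟩
    haveI := hP0.1
    let Q : Sylow r G := hP0.2.1.toSylow hP0.2.2
    haveI : (Q : Subgroup G).Normal := hP0.1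
    haveI := Sylow.unique_of_normal Q inferInstance
    rw [Subsingleton.elim P Q]
    exact ⟨inferInstance, inv_characteristic (Sylow.characteristic_of_normal Q inferInstance)⟩
  obtain ⟨p, hp, hpq, hpd⟩ : ∃ p : ℕ, p.Prime ∧ p ≠ q ∧ p ∣ Nat.card G := by
    by_contra hcon
    exact hG (IsPGroup.of_card (Nat.eq_prime_pow_of_unique_prime_dvd Nat.card_pos.ne' fun {d} hd hdd =>
      not_not.mp fun hne => hcon ⟨d, hd, hne, hdd⟩) : IsPGroup q G).isNilpotent
  haveI : Fact p.Prime := ⟨hp⟩
  refine ⟨?_, p, default, hp, hpd, hnorm p hp hpq default⟩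
  by_cases hthree : ∃ r : ℕ, r.Prime ∧ r ≠ q ∧ r ≠ p ∧ r ∣ Nat.card G
  · exfalso
    obtain ⟨r, hr, hrq, hrp, hrd⟩ := hthree
    obtain ⟨Q, hQi⟩ := H31.exists_invariant_sylow_smul hcop (Or.inr inferInstance) q
    -- every other Sylow subgroup centralises `Q`
    have hcomm : ∀ t : ℕ, t.Prime → t ≠ q → t ∣ Nat.card G → ∀ T : Sylow t G,
        (T : Subgroup G) ≤ normalizer ((Q : Subgroup G) : Set G) := by
      intro t ht htq htd T
      haveI : Fact t.Prime := ⟨ht⟩
      obtain ⟨hTn, hTi⟩ := hnorm t ht htq T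
      haveI := hTn
      set L := (Q : Subgroup G) ⊔ (T : Subgroup G) with hL
      have hcard : Nat.card L ∣ Nat.card (Q : Subgroup G) * Nat.card (T : Subgroup G) := by
        rw [hL, ← ((T : Subgroup G).subgroupOf ((Q : Subgroup G) ⊔ (T : Subgroup G))).card_mul_index,
          Nat.card_congr (subgroupOfEquivOfLe (le_sup_right : (T : Subgroup G) ≤ _)).toEquiv, mul_comm]
        refine mul_dvd_mul_right ?_ _
        show (T : Subgroup G).relIndex ((Q : Subgroup G) ⊔ (T : Subgroup G)) ∣ _
        rw [relIndex_sup_right]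
        exact index_dvd_card _
      have hLne : L ≠ ⊤ := by
        intro e
        rw [e, card_top] at hcard
        obtain ⟨i, hi⟩ := IsPGroup.iff_card.mp Q.2
        obtain ⟨j, hj⟩ := IsPGroup.iff_card.mp T.2
        -- a prime different from both
        obtain ⟨s, hs, hsq, hst, hsd⟩ : ∃ s : ℕ, s.Prime ∧ s ≠ q ∧ s ≠ t ∧ s ∣ Nat.card G := by
          by_cases htp : t = p
          · exact ⟨r, hr, hrq, htp ▸ hrp, hrd⟩
          · exact ⟨p, hp, hpq, fun e' => htp e'.symm, hpd⟩
        rcases hs.dvd_mul.mp (hsd.trans hcard) with h | h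
        · exact hsq ((Nat.prime_dvd_prime_iff_eq hs hq).mp (hs.dvd_of_dvd_pow (hi ▸ h)))
        · exact hst ((Nat.prime_dvd_prime_iff_eq hs ht).mp (hs.dvd_of_dvd_pow (hj ▸ h)))
      have hLi : Inv A L := inv_of_map fun a => by
        rw [hL, Subgroup.map_sup, map_of_inv hQi a, map_of_inv hTi a]
      haveI := hnil L hLne hLi
      let Q' : Sylow q L := Q.subtype le_sup_left
      haveI : (Q' : Subgroup L).Normal :=
        (Group.isNilpotent_of_finite_tfae.out 0 3 rfl rfl).mp ‹Group.IsNilpotent L› q inferInstance Q'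
      exact (le_sup_right : (T : Subgroup G) ≤ L).trans
        ((normal_subgroupOf_iff_le_normalizer le_sup_left).mp (by
          rw [← Sylow.coe_subtype (h := (le_sup_left : (Q : Subgroup G) ≤ L))]
          infer_instance))
    have hQn : normalizer ((Q : Subgroup G) : Set G) = ⊤ := by
      rw [← index_eq_one]
      by_contra hne
      obtain ⟨t, ht, htd⟩ := Nat.exists_prime_and_dvd hne
      haveI : Fact t.Prime := ⟨ht⟩
      by_cases htq : t = q
      · subst htq
        exact Q.not_dvd_index (htd.trans (index_dvd_of_le le_normalizer))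
      · exact (default : Sylow t G).not_dvd_index (htd.trans (index_dvd_of_le
          (hcomm t ht htq (htd.trans (index_dvd_card _)) default)))
    refine hG ((Group.isNilpotent_of_finite_tfae.out 0 3 rfl rfl).mpr fun s hs T => ?_)
    haveI := hs
    by_cases hsq : s = q
    · subst hsq
      haveI : (Q : Subgroup G).Normal := normalizer_eq_top_iff.mp hQn
      haveI := Sylow.unique_of_normal Q inferInstance
      rw [Subsingleton.elim T Q]
      infer_instance
    · exact (hnorm s hs.out hsq T).1
  · refine ⟨p, q, (Nat.card G).factorization p, (Nat.card G).factorization q, hp, hq, hpq, ?_⟩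
    have h0 : Nat.card G ≠ 0 := Nat.card_pos.ne'
    refine Nat.dvd_antisymm ?_ ?_
    · rw [← Nat.factorization_le_iff_dvd h0
        (Nat.mul_ne_zero (pow_ne_zero _ hp.ne_zero) (pow_ne_zero _ hq.ne_zero))]
      intro s
      rw [Nat.factorization_mul (pow_ne_zero _ hp.ne_zero) (pow_ne_zero _ hq.ne_zero),
        hp.factorization_pow, hq.factorization_pow, Finsupp.add_apply]
      by_cases hs : (Nat.card G).factorization s = 0
      · rw [hs]; exact Nat.zero_le _
      have hsp : s.Prime := by
        by_contra h; exact hs (Nat.factorization_eq_zero_of_not_prime _ h)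
      have hsd : s ∣ Nat.card G := by
        by_contra h; exact hs (Nat.factorization_eq_zero_of_not_dvd h)
      by_cases h1 : s = p
      · subst h1; rw [Finsupp.single_eq_same]; omega
      by_cases h2 : s = q
      · subst h2; rw [Finsupp.single_eq_same]; omega
      exact absurd ⟨s, hsp, h2, h1, hsd⟩ hthree
    · exact ((Nat.coprime_primes hp hq).mpr hpq).pow _ _ |>.mul_dvd_of_dvd_of_dvd
        (Nat.ordProj_dvd _ _) (Nat.ordProj_dvd _ _)

theorem main [Finite A] [Finite G]
    (hodd : ∀ (H : Type u) [Group H] [Finite H], Odd (Nat.card H) → Group.IsSolvable H)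
    (hoddA : Odd (Nat.card A) → Group.IsSolvable A)
    (hcop : (Nat.card A).Coprime (Nat.card G))
    (hmax : ∀ H : Subgroup G, H ≠ ⊤ → Inv A H →
      (∀ K : Subgroup G, H < K → Inv A K → K = ⊤) → Group.IsNilpotent H)
    (hG : ¬ Group.IsNilpotent G) :
    Group.IsSolvable G ∧
      (∃ p q a b : ℕ, p.Prime ∧ q.Prime ∧ p ≠ q ∧ Nat.card G = p ^ a * q ^ b) ∧
      ∃ (p : ℕ) (P : Sylow p G), p.Prime ∧ p ∣ Nat.card G ∧ (P : Subgroup G).Normal ∧
        Inv A (P : Subgroup G) := by
  have hnil := fun H => nilpotent_of_proper (H := H) hmax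
  haveI := isSolvable_of_invariant_nilpotent hodd hoddA (Nat.card G) G le_rfl hcop hnil
  exact ⟨inferInstance, shape hcop hnil hG⟩

end InvMax

end H4
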