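import Cfsg.Agent.H4.J4Eleven.Norm
import Cfsg.Agent.S5563
import Cfsg.Agent.S5564
import Cfsg.Agent.S5569
import Cfsg.Agent.S5572
import Cfsg.Agent.S5573
import Cfsg.Agent.H11.J4Seven.HSide

/-!
The normalizer of an extraspecial subgroup of order 11³ in a group of Janko-four type of the order
of J₄ (piece of S5575).
-/

set_option autoImplicit false

namespace H4.J4Eleven

open Cfsg Subgroup

variable {G : Type*} [Group G] [Finite G] [IsSimpleGroup G]

theorem card_ord : (86775571046077562880 : ℕ) = ord := by norm_num [ord]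

/-- Centralizers of involutions have orders with a single factor 11 and no prime factor ≥ 23. -/
theorem invol_card (hG : ¬ IsMulCommutative G) (hJ : IsOfJankoFourType G) {t : G}
    (ht : orderOf t = 2) :
    Nat.card (centralizer ({t} : Set G)) ∣ 2 ^ 21 * 3 ^ 3 * 5 * 7 * 11 := by
  obtain ⟨z, P, hW⟩ := hJ
  have hz := H11.J4Seven.card_H hW
  by_cases hc : IsConj z t
  · obtain ⟨g, hg⟩ := isConj_iff.1 hc
    have h1 : centralizer ({t} : Set G) =
        (centralizer ({z} : Set G)).map (MulAut.conj g).toMonoidHom := by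
      ext x
      rw [mem_centralizer_singleton_iff, mem_map_equiv, mem_centralizer_singleton_iff, ← hg]
      simp only [MulAut.conj_symm_apply]
      constructor
      · intro h
        calc g⁻¹ * x * g * z = g⁻¹ * (x * (g * z * g⁻¹)) * g := by group
          _ = g⁻¹ * (g * z * g⁻¹ * x) * g := by rw [h]
          _ = z * (g⁻¹ * x * g) := by group
      · intro h
        calc x * (g * z * g⁻¹) = g * (g⁻¹ * x * g * z) * g⁻¹ := by group
          _ = g * (z * (g⁻¹ * x * g)) * g⁻¹ := by rw [h]
          _ = g * z * g⁻¹ * x := by group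
    rw [h1, card_map_of_injective (MulAut.conj g).injective, hz]
    norm_num
  · obtain ⟨V, K, hVC, hKC, hCN, hV, hVc, hKV, hsup, ⟨e⟩⟩ :=
      Cfsg.Agent.S5569.result hG z ⟨P, hW⟩ t ht hc
    have hKN : K ≤ normalizer (V : Set G) := hKC.trans hCN
    have haut : Nat.card (MulAut ↥Spor.M22) = 887040 := by
      obtain ⟨-, -, hEc, -, ⟨N, -, hNC, -, hNc, ⟨hn, ⟨f⟩⟩, -⟩, -⟩ := hW
      have h := card_eq_card_quotient_mul_card_subgroup
        (N.subgroupOf (centralizer ({z} : Set G)))
      rw [Nat.card_congr f.toEquiv, Nat.card_congr (subgroupOfEquivOfLe hNC).toEquiv, hNc, hEc,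
        hz] at h
      omega
    have hn : (V.subgroupOf (centralizer ({t} : Set G))).Normal :=
      (normal_subgroupOf_iff_le_normalizer hVC).2 hCN
    have hcompl : IsComplement' (V.subgroupOf (centralizer ({t} : Set G)))
        (K.subgroupOf (centralizer ({t} : Set G))) := by
      refine isComplement'_of_disjoint_and_mul_eq_univ ?_ ?_
      · rw [Subgroup.disjoint_def]
        intro w hwV hwK
        have hw : (w : G) ∈ K ⊓ V := ⟨mem_subgroupOf.1 hwK, mem_subgroupOf.1 hwV⟩
        rw [hKV, mem_bot] at hw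
        exact Subtype.ext hw
      · rw [← normal_mul, ← subgroupOf_sup hVC hKC, sup_comm, hsup, subgroupOf_self, coe_top]
    have h := hcompl.card_mul
    rw [Nat.card_congr (subgroupOfEquivOfLe hVC).toEquiv,
      Nat.card_congr (subgroupOfEquivOfLe hKC).toEquiv, hVc, Nat.card_congr e.toEquiv, haut] at h
    rw [← h]
    norm_num

omit [IsSimpleGroup G] in
/-- If `Q` is a Sylow subgroup of prime order, the centralizer order of any element of that order
divides the order of its normalizer. -/
theorem not_dvd_cent_of_sylow {p : ℕ} [Fact p.Prime] (hp2 : ¬ p * p ∣ Nat.card G) {Q : Subgroup G}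
    (hQ : Nat.card Q = p) {x : G} (hx : orderOf x = p) {d : ℕ}
    (hd : d ∣ Nat.card (centralizer ({x} : Set G))) :
    d ∣ Nat.card (normalizer (Q : Set G)) := by
  have hfac : (Nat.card G).factorization p = 1 := by
    have hpp : p.Prime := Fact.out
    have h0 : Nat.card G ≠ 0 := Nat.card_pos.ne'
    have h1 : 1 ≤ (Nat.card G).factorization p :=
      hpp.factorization_pos_of_dvd h0 (hx ▸ orderOf_dvd_natCard x)
    have h2 : ¬ 2 ≤ (Nat.card G).factorization p := fun h =>
      hp2 (by rw [← pow_two]; exact (hpp.pow_dvd_iff_le_factorization h0).2 h)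
    omega
  let SQ : Sylow p G := Sylow.ofCard Q (by rw [hQ, hfac, pow_one])
  let SX : Sylow p G := Sylow.ofCard (zpowers x) (by rw [Nat.card_zpowers, hx, hfac, pow_one])
  obtain ⟨g, hg⟩ := MulAction.exists_smul_eq G SX SQ
  refine hd.trans ((dvd_of_eq (card_map_of_injective (f := (MulAut.conj g).toMonoidHom) (MulAut.conj g).injective).symm).trans
    (card_dvd_of_le (K := normalizer (Q : Set G)) ?_))
  have hQe : Q = (zpowers x).map (MulAut.conj g).toMonoidHom := congrArg Sylow.toSubgroup hg.symm
  rintro _ ⟨c, hc, rfl⟩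
  refine centralizer_le_normalizer _ fun w hw => ?_
  rw [hQe] at hw
  obtain ⟨y, hy, rfl⟩ := hw
  obtain ⟨k, rfl⟩ := mem_zpowers_iff.1 hy
  rw [← map_mul, ← map_mul]
  exact congrArg _ ((Commute.zpow_left (mem_centralizer_singleton_iff.1 hc).symm k).eq)

/-- `|N(U)| = 240·11³`. -/
theorem card_normalizer (hG : ¬ IsMulCommutative G) (hJ : IsOfJankoFourType G)
    (hcard : Nat.card G = 86775571046077562880) (U : Subgroup G) (hU : Nat.card U = 1331)
    (hUnc : ∃ a ∈ U, ∃ b ∈ U, a * b ≠ b * a) (hexp : ∀ x ∈ U, x ^ 11 = 1)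
    (K : Subgroup G) (hK : K ≤ normalizer (U : Set G))
    (e : Nonempty (K ≃* GL (Fin 2) (ZMod 3))) (f : G) (hf : orderOf f = 5)
    (hfN : f ∈ normalizer (U : Set G)) :
    Nat.card (normalizer (U : Set G)) = 2 ^ 4 * 3 * 5 * 11 ^ 3 := by
  classical
  have : Fact (Nat.Prime 11) := ⟨by norm_num⟩
  obtain ⟨e⟩ := e
  have hcard' : Nat.card G = ord := hcard.trans card_ord
  have hU' : Nat.card U = 11 ^ 3 := hU.trans (by norm_num)
  obtain ⟨a0, ha0, b0, hb0, hab0⟩ := hUnc
  have hspec : IsExtraspecial 11 U :=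
    H79.extraspecial_of_card_cube hU' (a := ⟨a0, ha0⟩) (c := ⟨b0, hb0⟩)
      fun h => hab0 (congrArg Subtype.val h)
  obtain ⟨z, P, hW⟩ := id hJ
  have hH : Nat.card (centralizer ({z} : Set G)) = 3 * 2 ^ 13 * 887040 := H11.J4Seven.card_H hW
  have hzp : ∀ {q : ℕ} {x : G}, orderOf x = q → Nat.card (zpowers x) = q := fun h =>
    (Nat.card_zpowers _).trans h
  have hsmall : ∀ (q : ℕ) (x : G), q ∈ [2, 3, 5, 7] → orderOf x = q →
      ¬ 11 ^ 3 ∣ Nat.card (centralizer ({x} : Set G)) := by
    intro q x hq hx hd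
    simp only [List.mem_cons, List.not_mem_nil, or_false] at hq
    rcases hq with rfl | rfl | rfl | rfl
    · exact absurd (hd.trans (invol_card hG hJ hx)) (by decide +kernel)
    · obtain ⟨-, -, -, -, ⟨N, -, hNC, -, -, -, hPN⟩, hP, -⟩ := id hW
      have : Fact (Nat.Prime 3) := ⟨by norm_num⟩
      obtain ⟨p, hp⟩ := exists_prime_orderOf_dvd_card' (G := P) 3 (by rw [hP])
      have hp' : orderOf (p : G) = 3 := by rwa [orderOf_coe]
      obtain ⟨g, hg⟩ := isConj_iff.1 (Cfsg.Agent.S5564.result hG hJ x p hx hp')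
      have hPz : zpowers (p : G) = P :=
        eq_of_le_of_card_ge (zpowers_le.2 p.2) (by rw [hzp hp', hP])
      have hNP := (Cfsg.Agent.S5563.result hG z P hW).2.2.2.2
      have h1 : (centralizer ({x} : Set G)).map (MulAut.conj g).toMonoidHom ≤
          centralizer ({z} : Set G) := by
        refine le_trans ?_ hNP
        rintro _ ⟨c, hc, rfl⟩
        have hc' : c * x = x * c := mem_centralizer_singleton_iff.1 hc
        rw [← hPz]
        refine centralizer_le_normalizer _ fun w hw => ?_
        obtain ⟨k, rfl⟩ := mem_zpowers_iff.1 hw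
        refine Commute.eq (Commute.zpow_left ?_ k)
        show (p : G) * (MulAut.conj g c) = MulAut.conj g c * (p : G)
        rw [← hg, MulAut.conj_apply]
        calc g * x * g⁻¹ * (g * c * g⁻¹) = g * (x * c) * g⁻¹ := by group
          _ = g * (c * x) * g⁻¹ := by rw [hc']
          _ = g * c * g⁻¹ * (g * x * g⁻¹) := by group
      have h2 := hd.trans ((dvd_of_eq (card_map_of_injective (f := (MulAut.conj g).toMonoidHom) (MulAut.conj g).injective).symm).trans
        (card_dvd_of_le h1))
      rw [hH] at h2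
      revert h2; decide +kernel
    · have : Fact (Nat.Prime 5) := ⟨by norm_num⟩
      obtain ⟨w, hw⟩ := exists_prime_orderOf_dvd_card' (G := centralizer ({z} : Set G)) 5
        (by rw [hH]; norm_num)
      have hw' : orderOf (w : G) = 5 := by rwa [orderOf_coe]
      obtain ⟨h25, -, -, hNQ⟩ := Cfsg.Agent.S5572.result hG z ⟨P, hW⟩ (zpowers (w : G)) (hzp hw')
        (zpowers_le.2 w.2)
      have h1 := not_dvd_cent_of_sylow (p := 5) h25 (hzp hw') hx hd
      rw [hNQ] at h1
      revert h1; decide +kernel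
    · have : Fact (Nat.Prime 7) := ⟨by norm_num⟩
      obtain ⟨w, hw⟩ := exists_prime_orderOf_dvd_card' (G := centralizer ({z} : Set G)) 7
        (by rw [hH]; norm_num)
      have hw' : orderOf (w : G) = 7 := by rwa [orderOf_coe]
      obtain ⟨h49, -, -, hNQ⟩ := Cfsg.Agent.S5573.result hG z ⟨P, hW⟩ (zpowers (w : G)) (hzp hw')
        (zpowers_le.2 w.2)
      have h1 := not_dvd_cent_of_sylow (p := 7) h49 (hzp hw') hx hd
      rw [hNQ] at h1
      revert h1; decide +kernel
  have hbig : ∀ (q : ℕ) (x t : G), q ∈ [23, 29, 31, 37, 43] → orderOf x = q → orderOf t = 2 →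
      ¬ Commute t x := by
    intro q x t hq hx ht hc
    have h1 : q ∣ Nat.card (centralizer ({t} : Set G)) := by
      rw [← hx]
      exact Subgroup.orderOf_dvd_natCard _ (mem_centralizer_singleton_iff.2 hc.eq.symm)
    have h2 := h1.trans (invol_card hG hJ ht)
    simp only [List.mem_cons, List.not_mem_nil, or_false] at hq
    rcases hq with rfl | rfl | rfl | rfl | rfl <;> (revert h2; decide +kernel)
  -- the four-group of diagonal matrices
  have hKdiv : 240 ∣ Nat.card (normalizer (U : Set G)) := by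
    have h48 : 48 ∣ Nat.card (normalizer (U : Set G)) := by
      refine dvd_trans (dvd_of_eq ?_) (card_dvd_of_le hK)
      rw [Nat.card_congr e.toEquiv]
      have : Fact (Nat.Prime 3) := ⟨by norm_num⟩
      rw [Matrix.card_GL_field, Fin.prod_univ_two, ZMod.card]
      norm_num
    have h5 : 5 ∣ Nat.card (normalizer (U : Set G)) := hf ▸ Subgroup.orderOf_dvd_natCard _ hfN
    exact Nat.Coprime.mul_dvd_of_dvd_of_dvd (by norm_num : Nat.Coprime 48 5) h48 h5
  let A : GL (Fin 2) (ZMod 3) :=
    ⟨!![1, 0; 0, -1], !![1, 0; 0, -1], by decide +kernel, by decide +kernel⟩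
  let B : GL (Fin 2) (ZMod 3) :=
    ⟨!![-1, 0; 0, 1], !![-1, 0; 0, 1], by decide +kernel, by decide +kernel⟩
  have inj : ∀ {x y : GL (Fin 2) (ZMod 3)}, (e.symm x : G) = (e.symm y : G) → x = y :=
    fun h => e.symm.injective (Subtype.ext h)
  refine card_normalizer_abstract hcard' hU' hexp hspec hsmall hbig hKdiv (a := (e.symm A : G))
    (b := (e.symm B : G)) (hK (e.symm A).2) (hK (e.symm B).2) ?_ ?_ ?_ ?_ ?_ ?_
  · rw [← Subgroup.coe_mul, ← map_mul, show A * A = 1 from Units.ext (by decide +kernel), map_one,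
      Subgroup.coe_one]
  · rw [← Subgroup.coe_mul, ← map_mul, show B * B = 1 from Units.ext (by decide +kernel), map_one,
      Subgroup.coe_one]
  · show (e.symm A : G) * e.symm B = e.symm B * e.symm A
    rw [← Subgroup.coe_mul, ← Subgroup.coe_mul, ← map_mul, ← map_mul,
      show A * B = B * A from Units.ext (by decide +kernel)]
  · intro h
    have h' : A = 1 := inj (h.trans (by simp))
    exact absurd (congrArg Units.val h') (by decide +kernel)
  · intro h
    have h' : B = 1 := inj (h.trans (by simp))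
    exact absurd (congrArg Units.val h') (by decide +kernel)
  · intro h
    exact absurd (congrArg Units.val (inj h)) (by decide +kernel)

end H4.J4Eleven
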