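import Cfsg.Agent.H4.NilpotentParts
import Cfsg.Agent.H4.HallFusion
import Cfsg.Agent.H4.HallPermute
import Cfsg.Agent.H1.Fitting
import Cfsg.Agent.S0143
import Cfsg.Agent.S0562
import Cfsg.Agent.S0561
import Cfsg.Agent.H33.TwoPrime
import Cfsg.Prelude.Def_SolvableStructure
import Cfsg.Prelude.Def_Amalgam

/-!
Products of nilpotent subgroups of coprime orders: the minimal counterexample does not exist.

In a simple minimal counterexample `G = A B` one shows: a central element of `A` and a central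
element of `B` never lie in a common proper subgroup; `C(z) = A` for central `z ≠ 1` of `A`;
`C(a) ≤ N(A)` for every `a` of prime order in `A`; hence `A` is a trivial intersection subgroup
and `|B| ≥ |G : N(A)| > |A|`, which is symmetrical in `A` and `B`.
-/

set_option autoImplicit false

namespace H4

open Subgroup
open scoped Pointwise

universe u

variable {G : Type u} [Group G] [Finite G]

/-- `z` is a central element of the subgroup `A`. -/
structure IsCentralIn (A : Subgroup G) (z : G) : Prop where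
  mem : z ∈ A
  le : A ≤ centralizer ({z} : Set G)

/-- A minimal counterexample for coprime nilpotent factors. -/
structure KWMin (A B : Subgroup G) : Prop where
  nilA : Group.IsNilpotent A
  nilB : Group.IsNilpotent B
  cop : (Nat.card A).Coprime (Nat.card B)
  fac : Factorizes A B
  simple : IsSimpleGroup G
  nonsolv : ¬ Group.IsSolvable G
  solv : ∀ H : Subgroup G, H ≠ ⊤ → (∀ g ∈ H, ∃ a ∈ A ⊓ H, ∃ b ∈ B ⊓ H, g = a * b) →
    Group.IsSolvable H

namespace KWMin

variable {A B : Subgroup G} (M : KWMin A B)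
include M

theorem symm : KWMin B A where
  nilA := M.nilB
  nilB := M.nilA
  cop := M.cop.symm
  fac := M.fac.symm
  simple := M.simple
  nonsolv := M.nonsolv
  solv := fun H hH h => M.solv H hH fun g hg => by
    obtain ⟨b, hb, a, ha, e⟩ := h g⁻¹ (inv_mem hg)
    exact ⟨a⁻¹, inv_mem ha, b⁻¹, inv_mem hb, by rw [← inv_inv g, e, mul_inv_rev]⟩

theorem inf_eq_bot : A ⊓ B = ⊥ := (Subgroup.disjoint_of_coprime_natCard M.cop).eq_bot

theorem card_eq : Nat.card G = Nat.card A * Nat.card B := by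
  have h := M.fac.card_mul_card
  rwa [M.inf_eq_bot, Subgroup.card_bot, mul_one] at h

theorem index_left : A.index = Nat.card B := by
  have h := A.card_mul_index
  rw [M.card_eq] at h
  exact Nat.eq_of_mul_eq_mul_left Nat.card_pos h

theorem hall_left : (Nat.card A).Coprime A.index := M.index_left ▸ M.cop

theorem ne_bot : A ≠ ⊥ := by
  intro h
  refine M.nonsolv ?_
  have hB : B = ⊤ := by
    rw [eq_top_iff]
    intro g _
    obtain ⟨a, ha, b, hb, rfl⟩ := M.fac g
    rw [h, Subgroup.mem_bot] at ha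
    rw [ha, one_mul]; exact hb
  haveI := M.nilB
  haveI : Group.IsNilpotent G :=
    (Group.isNilpotent_congr ((MulEquiv.subgroupCongr hB).trans Subgroup.topEquiv)).mp M.nilB
  infer_instance

theorem ne_top : A ≠ ⊤ := by
  intro h
  refine M.symm.ne_bot ?_
  have := M.inf_eq_bot
  rwa [h, top_inf_eq] at this

theorem normalizer_ne_top {V : Subgroup G} (h1 : V ≠ ⊥) (h2 : V ≠ ⊤) :
    normalizer (V : Set G) ≠ ⊤ := by
  intro h
  haveI := M.simple
  rcases (Subgroup.normalizer_eq_top_iff.mp h).eq_bot_or_eq_top with h' | h'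
  exacts [h1 h', h2 h']

theorem centralizer_ne_top {x : G} (hx : x ≠ 1) : centralizer ({x} : Set G) ≠ ⊤ := by
  intro h
  haveI := M.simple
  have hxc : x ∈ Subgroup.center G := Subgroup.mem_center_iff.mpr fun g =>
    (Subgroup.mem_centralizer_iff.mp (h ▸ Subgroup.mem_top g : g ∈ centralizer ({x} : Set G))
      x rfl).symm
  rcases (inferInstance : (Subgroup.center G).Normal).eq_bot_or_eq_top with h' | h'
  · exact hx (by rwa [h', Subgroup.mem_bot] at hxc)
  · refine M.nonsolv (Group.isSolvable_of_comm fun a b => ?_)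
    exact (Subgroup.mem_center_iff.mp (h' ▸ Subgroup.mem_top b) a)

theorem card_factorized {H : Subgroup G} (h : ∀ g ∈ H, ∃ a ∈ A ⊓ H, ∃ b ∈ B ⊓ H, g = a * b) :
    Nat.card H = Nat.card ↥(A ⊓ H) * Nat.card ↥(B ⊓ H) := by
  have h1 := card_mul_set_mul_card_inf (A ⊓ H) (B ⊓ H)
  have h2 : (A ⊓ H) ⊓ (B ⊓ H) = ⊥ :=
    le_bot_iff.mp ((inf_le_inf inf_le_left inf_le_left).trans M.inf_eq_bot.le)
  have h3 : ((A ⊓ H : Subgroup G) : Set G) * ((B ⊓ H : Subgroup G) : Set G) = (H : Set G) := by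
    ext g
    constructor
    · rintro ⟨a, ha, b, hb, rfl⟩
      exact mul_mem (Subgroup.mem_inf.mp ha).2 (Subgroup.mem_inf.mp hb).2
    · intro hg
      obtain ⟨a, ha, b, hb, rfl⟩ := h g hg
      exact ⟨a, ha, b, hb, rfl⟩
  rw [h2, h3, Subgroup.card_bot, mul_one] at h1
  exact h1

/-- No proper subgroup contains `B` and a nontrivial central element of `A`. -/
theorem not_le_of_central {z : G} (hz : IsCentralIn A z) (hz1 : z ≠ 1) {H : Subgroup G}
    (hH : H ≠ ⊤) (hBH : B ≤ H) : z ∉ H := by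
  intro hzH
  haveI := M.simple
  have hle : normalClosure ({z} : Set G) ≤ H := by
    rw [normalClosure, closure_le]
    intro y hy
    obtain ⟨x, hx, hxy⟩ := Group.mem_conjugatesOfSet_iff.mp hy
    rw [Set.mem_singleton_iff] at hx
    subst hx
    obtain ⟨g, rfl⟩ := isConj_iff.mp hxy
    obtain ⟨b, hb, a, ha, rfl⟩ := M.fac.symm g
    have hc : x * a = a * x := Subgroup.mem_centralizer_iff.mp (hz.le ha) x rfl
    have : b * a * x * (b * a)⁻¹ = b * x * b⁻¹ := by
      rw [mul_assoc b a x, ← hc]; group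
    rw [this]
    exact mul_mem (mul_mem (hBH hb) hzH) (inv_mem (hBH hb))
  rcases (normalClosure_normal (s := ({z} : Set G))).eq_bot_or_eq_top with h | h
  · exact hz1 (Subgroup.mem_bot.mp (h ▸ subset_normalClosure (Set.mem_singleton z)))
  · exact hH (top_le_iff.mp (h ▸ hle))

/-- Each factor has two different prime divisors. -/
theorem exists_ne_prime (q : ℕ) (hq : q.Prime) :
    ∃ l : ℕ, l.Prime ∧ l ≠ q ∧ l ∣ Nat.card B := by
  by_contra hcon
  haveI := M.simple
  have hA1 : Nat.card A ≠ 1 := mt A.card_eq_one.mp M.ne_bot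
  obtain ⟨p, hp, hpA⟩ := Nat.exists_prime_and_dvd hA1
  haveI := Fact.mk hp
  obtain ⟨z, hzA, hzo, hzc⟩ := exists_central_orderOf M.nilA M.hall_left hpA
  have hz1 : z ≠ 1 := fun h => hp.ne_one (by rw [← hzo, h, orderOf_one])
  have hidx : (centralizer ({z} : Set G)).index ∣ Nat.card B :=
    M.index_left ▸ Subgroup.index_dvd_of_le hzc
  have hk : ∀ {r : ℕ}, r.Prime → r ∣ (centralizer ({z} : Set G)).index → r = q :=
    fun {r} hr hrd => by_contra fun hne => hcon ⟨r, hr, hne, hrd.trans hidx⟩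
  have hsk := Nat.eq_prime_pow_of_unique_prime_dvd Subgroup.index_ne_zero_of_finite hk
  haveI := Fact.mk (Cfsg.Agent.S0143.result q _ hq z hz1 hsk)
  haveI : IsCyclic G := isCyclic_of_prime_card rfl
  exact M.nonsolv (Group.isSolvable_of_comm fun a b => IsMulCommutative.is_comm.comm a b)

/-- A Sylow subgroup of `A` meets a factorised subgroup `N` in a Sylow subgroup of `N`. -/
theorem not_dvd_relIndex {N : Subgroup G}
    (hN : ∀ g ∈ N, ∃ a ∈ A ⊓ N, ∃ b ∈ B ⊓ N, g = a * b) {p : ℕ} [Fact p.Prime]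
    (hp : p ∣ Nat.card A) (P : Sylow p G) (hP : (P : Subgroup G) ≤ A) :
    ¬ p ∣ ((P : Subgroup G) ⊓ N).relIndex N := by
  intro hd
  have hle : (P : Subgroup G) ⊓ N ≤ A ⊓ N := inf_le_inf_right N hP
  rw [← Subgroup.relIndex_mul_relIndex _ _ N hle inf_le_right] at hd
  rcases (Fact.out : p.Prime).dvd_mul.mp hd with hd | hd
  · refine P.not_dvd_index (hd.trans ?_)
    have e : ((P : Subgroup G) ⊓ N).relIndex (A ⊓ N) = (P : Subgroup G).relIndex (A ⊓ N) := by
      rw [← Subgroup.inf_relIndex_right (P : Subgroup G) (A ⊓ N)]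
      congr 1
      rw [← inf_assoc, inf_eq_left.mpr hP]
    rw [e]
    haveI : ((P : Subgroup G).subgroupOf A).Normal :=
      Subgroup.normal_subgroupOf_of_le_normalizer (le_normalizer_of_sylow_le M.nilA P hP)
    have h := Subgroup.relIndex_dvd_index_of_normal ((P : Subgroup G).subgroupOf A)
      ((A ⊓ N).subgroupOf A)
    rw [Subgroup.relIndex_subgroupOf inf_le_left] at h
    exact h.trans (Subgroup.relIndex_dvd_index_of_le hP)
  · have h := Subgroup.relIndex_mul_relIndex ⊥ (A ⊓ N) N bot_le inf_le_right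
    rw [Subgroup.relIndex_bot_left, Subgroup.relIndex_bot_left, M.card_factorized hN] at h
    rw [Nat.eq_of_mul_eq_mul_left Nat.card_pos h] at hd
    exact Nat.not_coprime_of_dvd_of_dvd (Fact.out : p.Prime).one_lt hp
      (hd.trans (Subgroup.card_dvd_of_le inf_le_left)) M.cop

/-- A `p`-subgroup of `T ≤ N` normalised by `P ⊓ N ≤ T` lies in `P`. -/
theorem pGroup_le {N T : Subgroup G}
    (hN : ∀ g ∈ N, ∃ a ∈ A ⊓ N, ∃ b ∈ B ⊓ N, g = a * b) {p : ℕ} [Fact p.Prime]
    (hp : p ∣ Nat.card A) (P : Sylow p G) (hP : (P : Subgroup G) ≤ A)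
    (hPT : (P : Subgroup G) ⊓ N ≤ T) (hTN : T ≤ N) {V : Subgroup G} (hV : IsPGroup p V)
    (hVT : V ≤ T) (hTV : T ≤ normalizer (V : Set G)) : V ≤ (P : Subgroup G) := by
  set P₀ := (P : Subgroup G) ⊓ N with hP₀
  have hP₀p : IsPGroup p P₀ := P.2.to_le inf_le_left
  have hS : IsPGroup p ↥(P₀ ⊔ V) :=
    IsPGroup.to_sup_of_normal_right' hP₀p hV (hPT.trans hTV)
  have hSN : P₀ ⊔ V ≤ N := sup_le inf_le_right (hVT.trans hTN)
  have h1 : P₀.relIndex (P₀ ⊔ V) = 1 := by
    obtain ⟨k, hk⟩ := IsPGroup.iff_card.mp hS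
    obtain ⟨j, -, hj⟩ := (Nat.dvd_prime_pow (Fact.out : p.Prime)).mp
      (hk ▸ Subgroup.relIndex_dvd_card P₀ (P₀ ⊔ V))
    rcases Nat.eq_zero_or_pos j with h0 | h0
    · rw [hj, h0, pow_zero]
    · exfalso
      refine M.not_dvd_relIndex hN hp P hP ?_
      rw [← Subgroup.relIndex_mul_relIndex P₀ (P₀ ⊔ V) N le_sup_left hSN, hj]
      exact (dvd_pow_self p h0.ne').mul_right _
  exact (le_sup_right.trans (Subgroup.relIndex_eq_one.mp h1)).trans inf_le_left

theorem factorized_normalizer {X Y : Subgroup G} (hX : X ≤ A) (hXA : A ≤ normalizer (X : Set G))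
    (hY : Y ≤ B) (hYB : B ≤ normalizer (Y : Set G)) :
    ∀ g ∈ normalizer ((X ⊔ Y : Subgroup G) : Set G),
      ∃ a ∈ A ⊓ normalizer ((X ⊔ Y : Subgroup G) : Set G),
      ∃ b ∈ B ⊓ normalizer ((X ⊔ Y : Subgroup G) : Set G), g = a * b := by
  intro g hg
  obtain ⟨a, ha, b, hb, e⟩ := Cfsg.Agent.S0562.result A B X Y M.fac hX
    (Subgroup.normal_subgroupOf_of_le_normalizer hXA) hY
    (Subgroup.normal_subgroupOf_of_le_normalizer hYB) g hg
  exact ⟨a, inf_comm (α := Subgroup G) _ A ▸ ha, b, inf_comm (α := Subgroup G) _ B ▸ hb, e⟩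

/-- In a proper factorised subgroup the intersections with Sylow subgroups permute. -/
theorem exists_product {N : Subgroup G} (hN : N ≠ ⊤)
    (hf : ∀ g ∈ N, ∃ a ∈ A ⊓ N, ∃ b ∈ B ⊓ N, g = a * b) {p q : ℕ} [Fact p.Prime] [Fact q.Prime]
    (hp : p ∣ Nat.card A) (hq : q ∣ Nat.card B) (P : Sylow p G) (Q : Sylow q G)
    (hP : (P : Subgroup G) ≤ A) (hQ : (Q : Subgroup G) ≤ B) :
    ∃ T : Subgroup G, T ≤ N ∧ Group.IsSolvable T ∧
      (T : Set G) = (((P : Subgroup G) ⊓ N : Subgroup G) : Set G) *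
        (((Q : Subgroup G) ⊓ N : Subgroup G) : Set G) := by
  haveI hsol := M.solv N hN hf
  have hf' : ∀ g : N, ∃ a ∈ A.subgroupOf N, ∃ b ∈ B.subgroupOf N, g = a * b := by
    intro g
    obtain ⟨a, ha, b, hb, e⟩ := hf g g.2
    exact ⟨⟨a, ha.2⟩, ha.1, ⟨b, hb.2⟩, hb.1, Subtype.ext e⟩
  have hf'' : ∀ g ∈ N, ∃ b ∈ B ⊓ N, ∃ a ∈ A ⊓ N, g = b * a := fun g hg => by
    obtain ⟨a, ha, b, hb, e⟩ := hf g⁻¹ (inv_mem hg)
    exact ⟨b⁻¹, inv_mem hb, a⁻¹, inv_mem ha, by rw [← inv_inv g, e, mul_inv_rev]⟩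
  have hn : ∀ {X Y : Subgroup G}, X ≤ Y → Y ≤ normalizer (X : Set G) →
      ((X.subgroupOf N).subgroupOf (Y.subgroupOf N)).Normal := fun hXY hYX =>
    Subgroup.normal_subgroupOf_of_le_normalizer fun y hy =>
      Subgroup.mem_normalizer_iff.mpr fun x => Subgroup.mem_normalizer_iff.mp (hYX hy) (x : G)
  have hc : ∀ {r : ℕ} [Fact r.Prime] (X : Subgroup G), IsPGroup r X →
      ¬ r ∣ (X ⊓ N).relIndex N →
      (Nat.card (X.subgroupOf N)).Coprime (X.subgroupOf N).index := by
    intro r _ X hX hd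
    obtain ⟨k, hk⟩ := IsPGroup.iff_card.mp
      (hX.comap_of_injective N.subtype N.subtype_injective)
    change Nat.card (X.subgroupOf N) = r ^ k at hk
    rw [Subgroup.inf_relIndex_right] at hd
    rw [hk]
    exact ((Fact.out : r.Prime).coprime_iff_not_dvd.mpr hd).pow_left k
  obtain ⟨S, hS⟩ := Cfsg.Agent.S0561.result (A.subgroupOf N) (B.subgroupOf N)
    ((P : Subgroup G).subgroupOf N) ((Q : Subgroup G).subgroupOf N) hf'
    (Subgroup.comap_mono hP) (hn hP (le_normalizer_of_sylow_le M.nilA P hP))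
    (Subgroup.comap_mono hQ) (hn hQ (le_normalizer_of_sylow_le M.nilB Q hQ))
    (hc _ P.2 (M.not_dvd_relIndex hf hp P hP))
    (hc _ Q.2 (M.symm.not_dvd_relIndex hf'' hq Q hQ)) 1 1
  refine ⟨S.map N.subtype, Subgroup.map_subtype_le S,
    Group.isSolvable_of_surjective (N.subtype.subgroupMap_surjective S), ?_⟩
  rw [Subgroup.coe_map, hS, map_one, one_smul, one_smul, Set.image_mul, ← Subgroup.coe_map,
    ← Subgroup.coe_map, Subgroup.subgroupOf_map_subtype, Subgroup.subgroupOf_map_subtype]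

/-- No proper subgroup contains Sylow subgroups from both factors. -/
theorem sylow_pair {p q : ℕ} [Fact p.Prime] [Fact q.Prime] (hp : p ∣ Nat.card A)
    (hq : q ∣ Nat.card B) (P : Sylow p G) (Q : Sylow q G) (hP : (P : Subgroup G) ≤ A)
    (hQ : (Q : Subgroup G) ≤ B) {H : Subgroup G} (hH : H ≠ ⊤) (hPH : (P : Subgroup G) ≤ H)
    (hQH : (Q : Subgroup G) ≤ H) : False := by
  have hP0 : (P : Subgroup G) ≠ ⊥ :=
    P.ne_bot_of_dvd_card (hp.trans (Subgroup.card_subgroup_dvd_card A))
  set S := (P : Subgroup G) ⊔ (Q : Subgroup G) with hS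
  have hSH : S ≤ H := sup_le hPH hQH
  have hN : normalizer (S : Set G) ≠ ⊤ := M.normalizer_ne_top
    (fun h => hP0 (le_bot_iff.mp (h ▸ le_sup_left))) (fun h => hH (top_le_iff.mp (h ▸ hSH)))
  obtain ⟨T, hTN, -, hT⟩ := M.exists_product hN
    (M.factorized_normalizer hP (le_normalizer_of_sylow_le M.nilA P hP) hQ
      (le_normalizer_of_sylow_le M.nilB Q hQ)) hp hq P Q hP hQ
  rw [inf_eq_left.mpr (le_sup_left.trans (le_normalizer (H := S))),
    inf_eq_left.mpr (le_sup_right.trans (le_normalizer (H := S)))] at hT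
  have hTtop : T ≠ ⊤ := fun h => hN (top_le_iff.mp (h ▸ hTN))
  obtain ⟨N, hNn, hNt, hcase⟩ := kegel (P : Subgroup G) (Q : Subgroup G) fun x => by
    obtain ⟨a, ha, b, hb, rfl⟩ := M.fac x
    have eP : MulAut.conj a • (P : Subgroup G) = P :=
      conj_smul_eq_of_mem_normalizer (le_normalizer_of_sylow_le M.nilA P hP ha)
    have eQ : MulAut.conj (a * b) • (Q : Subgroup G) = MulAut.conj a • (Q : Subgroup G) :=
      conj_smul_mul_of_mem (le_normalizer_of_sylow_le M.nilB Q hQ) hb
    refine ⟨MulAut.conj a • T, fun h => hTtop ?_, ?_⟩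
    · refine Subgroup.eq_top_of_card_eq _ ?_
      rw [← card_conj_smul T a, h, Subgroup.card_top]
    · rw [eQ]
      conv_rhs => rw [← eP]
      simp only [Subgroup.coe_pointwise_smul, hT, smul_mul']
  haveI := M.simple
  have hQ0 : (Q : Subgroup G) ≠ ⊥ :=
    Q.ne_bot_of_dvd_card (hq.trans (Subgroup.card_subgroup_dvd_card B))
  rcases hNn.eq_bot_or_eq_top with h | h
  · rcases hcase with hc | hc
    exacts [hP0 (le_bot_iff.mp (h ▸ hc)), hQ0 (le_bot_iff.mp (h ▸ hc))]
  · exact hNt h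

omit M in
theorem pCoreOf_spec {T : Subgroup G} (p : ℕ) :
    Cfsg.pCoreOf p T ≤ T ∧ IsPGroup p (Cfsg.pCoreOf p T) ∧
      T ≤ normalizer ((Cfsg.pCoreOf p T : Subgroup G) : Set G) := by
  refine ⟨Subgroup.map_subtype_le _, (H1.isPGroup_pCore p T).map T.subtype, ?_⟩
  haveI := H1.pCore_normal' p T
  intro t ht
  refine Subgroup.le_normalizer_map T.subtype ⟨⟨t, ht⟩, ?_, rfl⟩
  rw [Subgroup.normalizer_eq_top]; exact Subgroup.mem_top _

omit M in
/-- A nontrivial solvable product of a `p`-group and a `q`-group has a nontrivial core. -/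
theorem pCoreOf_ne_bot {p q : ℕ} [hp : Fact p.Prime] [hq : Fact q.Prime] {T X Y : Subgroup G}
    (hX : IsPGroup p X) (hY : IsPGroup q Y) (hT : (T : Set G) = (X : Set G) * (Y : Set G))
    (hsol : Group.IsSolvable T) (hne : T ≠ ⊥) :
    Cfsg.pCoreOf p T ≠ ⊥ ∨ Cfsg.pCoreOf q T ≠ ⊥ := by
  haveI : Nontrivial T := (Subgroup.nontrivial_iff_ne_bot T).mpr hne
  obtain ⟨r, V, hr, hVn, hV0, hVr⟩ := H1.exists_normal_pgroup_ne_bot T
  haveI := hVn
  haveI := Fact.mk hr
  have hrp : r = p ∨ r = q := by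
    obtain ⟨i, hi⟩ := IsPGroup.iff_card.mp hVr
    obtain ⟨j, hj⟩ := IsPGroup.iff_card.mp hX
    obtain ⟨k, hk⟩ := IsPGroup.iff_card.mp hY
    have hi0 : i ≠ 0 := fun h => hV0 (V.card_eq_one.mp (by rw [hi, h, pow_zero]))
    have h := card_mul_set_mul_card_inf X Y
    rw [← hT, hj, hk] at h
    have hd : r ∣ p ^ j * q ^ k := by
      refine ((dvd_pow_self r hi0).trans (hi ▸ V.card_subgroup_dvd_card)).trans ?_
      exact Dvd.intro _ h
    rcases hr.dvd_mul.mp hd with hd | hd
    · exact Or.inl ((Nat.prime_dvd_prime_iff_eq hr hp.out).mp (hr.dvd_of_dvd_pow hd))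
    · exact Or.inr ((Nat.prime_dvd_prime_iff_eq hr hq.out).mp (hr.dvd_of_dvd_pow hd))
  have key : ∀ t : ℕ, r = t → Cfsg.pCoreOf t T ≠ ⊥ := by
    rintro t rfl h
    unfold Cfsg.pCoreOf at h
    rw [Subgroup.map_eq_bot_iff_of_injective _ T.subtype_injective] at h
    exact hV0 (le_bot_iff.mp (h ▸ H1.le_pCore hVr))
  exact hrp.imp (key p) (key q)

/-- No proper subgroup contains a Sylow subgroup of `B` and a nontrivial central element of
`A` of prime order. -/
theorem central_sylow {p q : ℕ} [Fact p.Prime] [Fact q.Prime] {z : G} (hz : IsCentralIn A z)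
    (hzo : orderOf z = p) (hq : q ∣ Nat.card B) (Q : Sylow q G) (hQ : (Q : Subgroup G) ≤ B)
    {H : Subgroup G} (hH : H ≠ ⊤) (hzH : z ∈ H) (hQH : (Q : Subgroup G) ≤ H) : False := by
  have hz1 : z ≠ 1 := fun h => (Fact.out : p.Prime).ne_one (by rw [← hzo, h, orderOf_one])
  have hp : p ∣ Nat.card A := hzo ▸ Subgroup.orderOf_dvd_natCard A hz.mem
  obtain ⟨P, hP⟩ := exists_sylow_le_of_hall M.hall_left hp
  have hzP : z ∈ (P : Subgroup G) :=
    pGroup_le_sylow_of_nilpotent M.nilA P hP (isPGroup_zpowers (k := 1) (by rw [hzo, pow_one]))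
      (Subgroup.zpowers_le.mpr hz.mem) (mem_zpowers z)
  set S := zpowers z ⊔ (Q : Subgroup G) with hS
  set N := normalizer (S : Set G) with hN'
  have hzA : A ≤ normalizer ((zpowers z : Subgroup G) : Set G) := by
    refine le_trans ?_ (Subgroup.centralizer_le_normalizer _)
    rw [Subgroup.le_centralizer_iff, Subgroup.zpowers_le, Subgroup.mem_centralizer_iff]
    exact fun a ha => (Subgroup.mem_centralizer_iff.mp (hz.le ha) z rfl).symm
  have hN : N ≠ ⊤ := M.normalizer_ne_top
    (fun h => hz1 (Subgroup.mem_bot.mp (h ▸ Subgroup.mem_sup_left (mem_zpowers z))))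
    (fun h => hH (top_le_iff.mp (h ▸ sup_le (Subgroup.zpowers_le.mpr hzH) hQH)))
  have hf := M.factorized_normalizer (Subgroup.zpowers_le.mpr hz.mem) hzA hQ
    (le_normalizer_of_sylow_le M.nilB Q hQ)
  obtain ⟨T, hTN, hTs, hT⟩ := M.exists_product hN hf hp hq P Q hP hQ
  rw [inf_eq_left.mpr (le_sup_right.trans (le_normalizer (H := S)))] at hT
  have hle := le_of_coe_eq_mul hT
  have hzT : z ∈ T := hle (Subgroup.mem_sup_left
    ⟨hzP, le_normalizer (Subgroup.mem_sup_left (mem_zpowers z))⟩)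
  have hQT : (Q : Subgroup G) ≤ T := le_sup_right.trans hle
  have hPT : (P : Subgroup G) ⊓ N ≤ T := le_sup_left.trans hle
  have hTtop : T ≠ ⊤ := fun h => hN (top_le_iff.mp (h ▸ hTN))
  rcases pCoreOf_ne_bot (P.2.to_le inf_le_left) Q.2 hT hTs
    (fun h => hz1 (Subgroup.mem_bot.mp (h ▸ hzT))) with hne | hne
  · obtain ⟨hle', hpg, hnorm⟩ := pCoreOf_spec (T := T) p
    have hVP := M.pGroup_le hf hp P hP hPT hTN hpg hle' hnorm
    obtain ⟨r, hr, hrp, hrA⟩ := M.symm.exists_ne_prime p Fact.out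
    haveI := Fact.mk hr
    obtain ⟨R, hR⟩ := exists_sylow_le_of_hall M.hall_left hrA
    exact M.sylow_pair hrA hq R Q hR hQ
      (M.normalizer_ne_top hne fun h => hTtop (top_le_iff.mp (h ▸ hle')))
      ((le_centralizer_of_nilpotent M.nilA hrp hpg R.2 (hVP.trans hP) hR).trans
        (Subgroup.centralizer_le_normalizer _))
      (hQT.trans hnorm)
  · obtain ⟨hle', hpg, hnorm⟩ := pCoreOf_spec (T := T) q
    have hVQ := le_sylow_of_normalized Q hpg (hQT.trans hnorm)
    refine M.not_le_of_central hz hz1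
      (M.normalizer_ne_top hne fun h => hTtop (top_le_iff.mp (h ▸ hle'))) ?_ (hnorm hzT)
    refine le_of_forall_sylow M.symm.hall_left fun l _ hl => ?_
    obtain ⟨L, hL⟩ := exists_sylow_le_of_hall M.symm.hall_left hl
    refine ⟨L, hL, ?_⟩
    by_cases hlq : l = q
    · subst hlq
      rw [sylow_eq_of_nilpotent M.nilB Q L hQ hL]
      exact hQT.trans hnorm
    · exact (le_centralizer_of_nilpotent M.nilB hlq hpg L.2 (hVQ.trans hQ) hL).trans
        (Subgroup.centralizer_le_normalizer _)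

/-- No proper subgroup contains nontrivial central elements of both factors. -/
theorem central_pair {p q : ℕ} [Fact p.Prime] [Fact q.Prime] {z w : G} (hz : IsCentralIn A z)
    (hw : IsCentralIn B w) (hzo : orderOf z = p) (hwo : orderOf w = q) {H : Subgroup G}
    (hH : H ≠ ⊤) (hzH : z ∈ H) (hwH : w ∈ H) : False := by
  have hz1 : z ≠ 1 := fun h => (Fact.out : p.Prime).ne_one (by rw [← hzo, h, orderOf_one])
  have hp : p ∣ Nat.card A := hzo ▸ Subgroup.orderOf_dvd_natCard A hz.mem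
  have hq : q ∣ Nat.card B := hwo ▸ Subgroup.orderOf_dvd_natCard B hw.mem
  obtain ⟨P, hP⟩ := exists_sylow_le_of_hall M.hall_left hp
  obtain ⟨Q, hQ⟩ := exists_sylow_le_of_hall M.symm.hall_left hq
  have hzP : z ∈ (P : Subgroup G) :=
    pGroup_le_sylow_of_nilpotent M.nilA P hP (isPGroup_zpowers (k := 1) (by rw [hzo, pow_one]))
      (Subgroup.zpowers_le.mpr hz.mem) (mem_zpowers z)
  have hwQ : w ∈ (Q : Subgroup G) :=
    pGroup_le_sylow_of_nilpotent M.nilB Q hQ (isPGroup_zpowers (k := 1) (by rw [hwo, pow_one]))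
      (Subgroup.zpowers_le.mpr hw.mem) (mem_zpowers w)
  set S := zpowers z ⊔ zpowers w with hS
  set N := normalizer (S : Set G) with hN'
  have hcz : ∀ {C : Subgroup G} {x : G}, IsCentralIn C x →
      C ≤ normalizer ((zpowers x : Subgroup G) : Set G) := by
    intro C x hx
    refine le_trans ?_ (Subgroup.centralizer_le_normalizer _)
    rw [Subgroup.le_centralizer_iff, Subgroup.zpowers_le, Subgroup.mem_centralizer_iff]
    exact fun a ha => (Subgroup.mem_centralizer_iff.mp (hx.le ha) x rfl).symm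
  have hN : N ≠ ⊤ := M.normalizer_ne_top
    (fun h => hz1 (Subgroup.mem_bot.mp (h ▸ Subgroup.mem_sup_left (mem_zpowers z))))
    (fun h => hH (top_le_iff.mp
      (h ▸ sup_le (Subgroup.zpowers_le.mpr hzH) (Subgroup.zpowers_le.mpr hwH))))
  have hf := M.factorized_normalizer (Subgroup.zpowers_le.mpr hz.mem) (hcz hz)
    (Subgroup.zpowers_le.mpr hw.mem) (hcz hw)
  have hf' : ∀ g ∈ N, ∃ b ∈ B ⊓ N, ∃ a ∈ A ⊓ N, g = b * a := fun g hg => by
    obtain ⟨a, ha, b, hb, e⟩ := hf g⁻¹ (inv_mem hg)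
    exact ⟨b⁻¹, inv_mem hb, a⁻¹, inv_mem ha, by rw [← inv_inv g, e, mul_inv_rev]⟩
  obtain ⟨T, hTN, hTs, hT⟩ := M.exists_product hN hf hp hq P Q hP hQ
  have hle := le_of_coe_eq_mul hT
  have hzT : z ∈ T := hle (Subgroup.mem_sup_left
    ⟨hzP, le_normalizer (Subgroup.mem_sup_left (mem_zpowers z))⟩)
  have hwT : w ∈ T := hle (Subgroup.mem_sup_right
    ⟨hwQ, le_normalizer (Subgroup.mem_sup_right (mem_zpowers w))⟩)
  have hPT : (P : Subgroup G) ⊓ N ≤ T := le_sup_left.trans hle
  have hQT : (Q : Subgroup G) ⊓ N ≤ T := le_sup_right.trans hle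
  have hTtop : T ≠ ⊤ := fun h => hN (top_le_iff.mp (h ▸ hTN))
  rcases pCoreOf_ne_bot (P.2.to_le inf_le_left) (Q.2.to_le inf_le_left) hT hTs
    (fun h => hz1 (Subgroup.mem_bot.mp (h ▸ hzT))) with hne | hne
  · obtain ⟨hle', hpg, hnorm⟩ := pCoreOf_spec (T := T) p
    have hVP := M.pGroup_le hf hp P hP hPT hTN hpg hle' hnorm
    obtain ⟨r, hr, hrp, hrA⟩ := M.symm.exists_ne_prime p Fact.out
    haveI := Fact.mk hr
    obtain ⟨R, hR⟩ := exists_sylow_le_of_hall M.hall_left hrA
    exact M.symm.central_sylow hw hwo hrA R hR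
      (M.normalizer_ne_top hne fun h => hTtop (top_le_iff.mp (h ▸ hle'))) (hnorm hwT)
      ((le_centralizer_of_nilpotent M.nilA hrp hpg R.2 (hVP.trans hP) hR).trans
        (Subgroup.centralizer_le_normalizer _))
  · obtain ⟨hle', hpg, hnorm⟩ := pCoreOf_spec (T := T) q
    have hVQ := M.symm.pGroup_le hf' hq Q hQ hQT hTN hpg hle' hnorm
    obtain ⟨l, hl, hlq, hlB⟩ := M.exists_ne_prime q Fact.out
    haveI := Fact.mk hl
    obtain ⟨L, hL⟩ := exists_sylow_le_of_hall M.symm.hall_left hlB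
    exact M.central_sylow hz hzo hlB L hL
      (M.normalizer_ne_top hne fun h => hTtop (top_le_iff.mp (h ▸ hle'))) (hnorm hzT)
      ((le_centralizer_of_nilpotent M.nilB hlq hpg L.2 (hVQ.trans hQ) hL).trans
        (Subgroup.centralizer_le_normalizer _))

/-- The centraliser of a nontrivial central element of `A` is `A`. -/
theorem centralizer_central {z : G} (hz : IsCentralIn A z) {p : ℕ} [Fact p.Prime]
    (hzo : orderOf z = p) : centralizer ({z} : Set G) = A := by
  refine le_antisymm (fun g hg => ?_) hz.le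
  obtain ⟨a, ha, b, hb, rfl⟩ := M.fac g
  have hbC : b ∈ centralizer ({z} : Set G) := by
    have := mul_mem (inv_mem (hz.le ha)) hg
    rwa [inv_mul_cancel_left] at this
  by_contra hgA
  have hb1 : b ≠ 1 := fun h => hgA (by rw [h, mul_one]; exact ha)
  obtain ⟨q, hq, hqd⟩ := Nat.exists_prime_and_dvd (mt orderOf_eq_one_iff.mp hb1)
  haveI := Fact.mk hq
  have hy : orderOf (b ^ (orderOf b / q)) = q := orderOf_pow_orderOf_div (orderOf_pos b).ne' hqd
  set y := b ^ (orderOf b / q) with hy'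
  have hy1 : y ≠ 1 := fun h => hq.ne_one (by rw [← hy, h, orderOf_one])
  obtain ⟨l, hl, hlq, hlB⟩ := M.exists_ne_prime q hq
  haveI := Fact.mk hl
  obtain ⟨L, hL⟩ := exists_sylow_le_of_hall M.symm.hall_left hlB
  refine M.central_sylow hz hzo hlB L hL (M.centralizer_ne_top hy1) ?_ ?_
  · exact Subgroup.mem_centralizer_iff.mpr fun u hu => by
      rw [Set.mem_singleton_iff.mp hu]
      exact (Subgroup.mem_centralizer_iff.mp (pow_mem hbC _) z rfl).symm
  · intro x hx
    refine Subgroup.mem_centralizer_iff.mpr fun u hu => ?_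
    rw [Set.mem_singleton_iff.mp hu]
    exact Subgroup.mem_centralizer_iff.mp
      (le_centralizer_of_nilpotent M.nilB hlq (isPGroup_zpowers (k := 1) (by rw [hy, pow_one]))
        L.2 (Subgroup.zpowers_le.mpr (pow_mem hb _)) hL hx) y (mem_zpowers y)

/-- The centraliser of a Sylow subgroup of `A` lies in `A`. -/
theorem centralizer_sylow_le {p : ℕ} [Fact p.Prime] (hp : p ∣ Nat.card A) (P : Sylow p G)
    (hP : (P : Subgroup G) ≤ A) : centralizer ((P : Subgroup G) : Set G) ≤ A := by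
  obtain ⟨z, hzA, hzo, hzc⟩ := exists_central_orderOf M.nilA M.hall_left hp
  have hzP : z ∈ (P : Subgroup G) :=
    pGroup_le_sylow_of_nilpotent M.nilA P hP (isPGroup_zpowers (k := 1) (by rw [hzo, pow_one]))
      (Subgroup.zpowers_le.mpr hzA) (mem_zpowers z)
  rw [← M.centralizer_central ⟨hzA, hzc⟩ hzo]
  exact Subgroup.centralizer_le (Set.singleton_subset_iff.mpr hzP)

theorem normalizer_le_normalizer_sylow {p : ℕ} [Fact p.Prime] (P : Sylow p G)
    (hP : (P : Subgroup G) ≤ A) :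
    normalizer (A : Set G) ≤ normalizer ((P : Subgroup G) : Set G) := by
  intro g hg
  apply mem_normalizer_of_conj_smul_eq
  rw [← Sylow.coe_subgroup_smul]
  refine sylow_eq_of_nilpotent M.nilA P _ hP ?_
  rw [Sylow.coe_subgroup_smul, ← conj_smul_eq_of_mem_normalizer hg]
  exact Subgroup.pointwise_smul_le_pointwise_smul_iff.mpr hP

theorem normalizer_sylow {p : ℕ} [Fact p.Prime] (hp : p ∣ Nat.card A) (P : Sylow p G)
    (hP : (P : Subgroup G) ≤ A) :
    normalizer ((P : Subgroup G) : Set G) = normalizer (A : Set G) := by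
  refine le_antisymm (fun n hn => ?_) (M.normalizer_le_normalizer_sylow P hP)
  apply mem_normalizer_of_conj_smul_eq
  symm
  refine Subgroup.eq_of_le_of_card_ge ?_ (card_conj_smul A n).le
  refine le_of_forall_sylow M.hall_left fun r _ hr => ?_
  obtain ⟨R, hR⟩ := exists_sylow_le_of_hall M.hall_left hr
  refine ⟨R, hR, ?_⟩
  by_cases hrp : r = p
  · subst hrp
    rw [sylow_eq_of_nilpotent M.nilA P R hP hR, ← conj_smul_eq_of_mem_normalizer hn]
    exact Subgroup.pointwise_smul_le_pointwise_smul_iff.mpr hP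
  · have hRC : ((n • R : Sylow r G) : Subgroup G) ≤ centralizer ((P : Subgroup G) : Set G) := by
      rw [Sylow.coe_subgroup_smul]
      intro x hx
      rw [mem_conj_smul_iff] at hx
      rw [Subgroup.mem_centralizer_iff]
      intro y hy
      have h1 := Subgroup.mem_centralizer_iff.mp
        (le_centralizer_of_nilpotent M.nilA hrp P.2 R.2 hP hR hx) (n⁻¹ * y * n)
        ((Subgroup.mem_normalizer_iff''.mp hn y).mp hy)
      calc y * x = n * (n⁻¹ * y * n * (n⁻¹ * x * n)) * n⁻¹ := by group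
        _ = n * (n⁻¹ * x * n * (n⁻¹ * y * n)) * n⁻¹ := by rw [h1]
        _ = x * y := by group
    have := sylow_eq_of_nilpotent M.nilA R (n • R) hR (hRC.trans (M.centralizer_sylow_le hp P hP))
    rw [Sylow.coe_subgroup_smul] at this
    calc (R : Subgroup G) = MulAut.conj n • (R : Subgroup G) := this.symm
      _ ≤ MulAut.conj n • A := Subgroup.pointwise_smul_le_pointwise_smul_iff.mpr hR

/-- If `b ∈ B` normalises `A` then its fixed points in `A` normalise `B`. -/
theorem mem_normalizer_right {q : ℕ} [Fact q.Prime] {a b : G} (ha : a ∈ A) (hb : b ∈ B)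
    (hbo : orderOf b = q) (hbA : b ∈ normalizer (A : Set G)) (hab : a * b = b * a) :
    a ∈ normalizer (B : Set G) := by
  set H := centralizer ({b} : Set G) with hH'
  have hb1 : b ≠ 1 := fun h => (Fact.out : q.Prime).ne_one (by rw [← hbo, h, orderOf_one])
  have hH : H ≠ ⊤ := M.centralizer_ne_top hb1
  have hf : ∀ g ∈ H, ∃ x ∈ A ⊓ H, ∃ y ∈ B ⊓ H, g = x * y := by
    intro g hg
    obtain ⟨x, hx, y, hy, rfl⟩ := M.fac g
    have h1 : b * (x * y) = x * y * b := Subgroup.mem_centralizer_iff.mp hg b rfl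
    have h2 : b⁻¹ * (y * b * y⁻¹) ∈ A ⊓ B := by
      refine ⟨?_, B.mul_mem (B.inv_mem hb) (B.mul_mem (B.mul_mem hy hb) (B.inv_mem hy))⟩
      have e : y * b * y⁻¹ = x⁻¹ * b * x := by
        calc y * b * y⁻¹ = x⁻¹ * (x * y * b) * y⁻¹ := by group
          _ = x⁻¹ * (b * (x * y)) * y⁻¹ := by rw [h1]
          _ = x⁻¹ * b * x := by group
      rw [e, show b⁻¹ * (x⁻¹ * b * x) = b⁻¹ * x⁻¹ * b * x by group]
      exact A.mul_mem ((Subgroup.mem_normalizer_iff''.mp hbA x⁻¹).mp (A.inv_mem hx)) hx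
    rw [M.inf_eq_bot, Subgroup.mem_bot, inv_mul_eq_one] at h2
    have hyH : y ∈ H := Subgroup.mem_centralizer_iff.mpr fun u hu => by
      rw [Set.mem_singleton_iff.mp hu]
      calc b * y = y * b * y⁻¹ * y := by rw [← h2]
        _ = y * b := by group
    refine ⟨x, ⟨hx, ?_⟩, y, ⟨hy, hyH⟩, rfl⟩
    have := mul_mem hg (inv_mem hyH)
    rwa [mul_inv_cancel_right] at this
  haveI := M.solv H hH hf
  have haH : a ∈ H := Subgroup.mem_centralizer_iff.mpr fun u hu => by
    rw [Set.mem_singleton_iff.mp hu]; exact hab.symm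
  obtain ⟨l, hl, hlq, hlB⟩ := M.exists_ne_prime q Fact.out
  haveI := Fact.mk hl
  obtain ⟨L, hL⟩ := exists_sylow_le_of_hall M.symm.hall_left hlB
  have hqB : q ∣ Nat.card B := hbo ▸ Subgroup.orderOf_dvd_natCard B hb
  obtain ⟨w, hwB, hwo, hwc⟩ := exists_central_orderOf M.nilB M.symm.hall_left hqB
  have hwH : w ∈ H := Subgroup.mem_centralizer_iff.mpr fun u hu => by
    rw [Set.mem_singleton_iff.mp hu]
    exact (Subgroup.mem_centralizer_iff.mp (hwc hb) w rfl).symm
  have hLH : (L : Subgroup G) ≤ H := fun x hx => Subgroup.mem_centralizer_iff.mpr fun u hu => by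
    rw [Set.mem_singleton_iff.mp hu]
    exact Subgroup.mem_centralizer_iff.mp
      (le_centralizer_of_nilpotent M.nilB hlq (isPGroup_zpowers (k := 1) (by rw [hbo, pow_one]))
        L.2 (Subgroup.zpowers_le.mpr hb) hL hx) b (mem_zpowers b)
  have hcore : ∀ t : ℕ, t.Prime → Cfsg.pCoreOf t H ≤ B := by
    intro t ht
    haveI := Fact.mk ht
    obtain ⟨hle, hpg, hnorm⟩ := pCoreOf_spec (T := H) t
    obtain ⟨k, hk⟩ := IsPGroup.iff_card.mp hpg
    have hn : ((Cfsg.pCoreOf t H).subgroupOf H).Normal :=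
      Subgroup.normal_subgroupOf_of_le_normalizer hnorm
    -- a normal subgroup of `H` of order prime to one factor lies in the other
    have key : ∀ {X Y : Subgroup G}, KWMin X Y →
        (∀ g ∈ H, ∃ x ∈ X ⊓ H, ∃ y ∈ Y ⊓ H, g = x * y) →
        (Nat.card ↥(Cfsg.pCoreOf t H)).Coprime (Nat.card Y) → Cfsg.pCoreOf t H ≤ X := by
      intro X Y MX hX hc
      haveI := hn
      have h := H1.le_of_card_coprime (G := H) (m := Nat.card ↥(X ⊓ H))
        (n := Nat.card ↥(Y ⊓ H)) (MX.card_factorized hX)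
        ((MX.cop.coprime_dvd_left (Subgroup.card_dvd_of_le inf_le_left)).coprime_dvd_right
          (Subgroup.card_dvd_of_le inf_le_left))
        (N := (Cfsg.pCoreOf t H).subgroupOf H) (H := (X ⊓ H).subgroupOf H)
        (by rw [Nat.card_congr (Subgroup.subgroupOfEquivOfLe hle).toEquiv]
            exact hc.coprime_dvd_right (Subgroup.card_dvd_of_le inf_le_left))
        (Nat.card_congr (Subgroup.subgroupOfEquivOfLe inf_le_right).toEquiv)
      intro x hx
      exact (Subgroup.mem_subgroupOf.mp (h (x := ⟨x, hle hx⟩) (Subgroup.mem_subgroupOf.mpr hx))).1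
    have hf' : ∀ g ∈ H, ∃ y ∈ B ⊓ H, ∃ x ∈ A ⊓ H, g = y * x := fun g hg => by
      obtain ⟨x, hx, y, hy, e⟩ := hf g⁻¹ (inv_mem hg)
      exact ⟨y⁻¹, inv_mem hy, x⁻¹, inv_mem hx, by rw [← inv_inv g, e, mul_inv_rev]⟩
    by_cases htA : t ∣ Nat.card A
    · have hW : Cfsg.pCoreOf t H ≤ A := key M hf (by
        rw [hk]
        exact ((ht.coprime_iff_not_dvd).mpr
          (fun h => Nat.not_coprime_of_dvd_of_dvd ht.one_lt htA h M.cop)).pow_left k)
      rcases eq_or_ne (Cfsg.pCoreOf t H) ⊥ with h0 | h0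
      · rw [h0]; exact bot_le
      exfalso
      obtain ⟨z, hzA, hzo, hzc⟩ := exists_central_orderOf M.nilA M.hall_left htA
      refine M.central_pair ⟨hzA, hzc⟩ ⟨hwB, hwc⟩ hzo hwo
        (M.normalizer_ne_top h0 fun h => hH (top_le_iff.mp (h ▸ hle))) ?_ (hnorm hwH)
      refine Subgroup.centralizer_le_normalizer _ (Subgroup.mem_centralizer_iff.mpr fun x hx => ?_)
      exact (Subgroup.mem_centralizer_iff.mp (hzc (hW hx)) z rfl).symm
    · exact key M.symm hf' (by
        rw [hk]; exact ((ht.coprime_iff_not_dvd).mpr htA).pow_left k)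
  set F := Cfsg.fittingSubgroup H with hF'
  have hFB : F.map H.subtype ≤ B := by
    rw [hF', H1.fittingSubgroup_eq_iSup_pCore, Subgroup.map_iSup]
    exact iSup_le fun t => hcore t t.2
  haveI := H1.fittingSubgroup_normal H
  have hwF : (⟨w, hwH⟩ : H) ∈ F := H1.centralizer_fitting_le_of_isSolvable inferInstance
    (Subgroup.mem_centralizer_iff.mpr fun u hu => Subtype.ext
      (Subgroup.mem_centralizer_iff.mp (hwc (hFB ⟨u, hu, rfl⟩)) w rfl).symm)
  set w' := a * w * a⁻¹ with hw'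
  have hw'B : w' ∈ B :=
    hFB ⟨_, (inferInstance : F.Normal).conj_mem _ hwF ⟨a, haH⟩, rfl⟩
  have hw'o : orderOf w' = q := by
    rw [hw', ← hwo, ← MulAut.conj_apply, MulEquiv.orderOf_eq]
  have hLa : ((a⁻¹ • L : Sylow l G) : Subgroup G) ≤ B := by
    rw [← M.symm.centralizer_central ⟨hwB, hwc⟩ hwo, Sylow.coe_subgroup_smul]
    intro x hx
    rw [mem_conj_smul_iff, inv_inv] at hx
    refine Subgroup.mem_centralizer_iff.mpr fun u hu => ?_
    rw [Set.mem_singleton_iff.mp hu]
    have h1 := Subgroup.mem_centralizer_iff.mp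
      (le_centralizer_of_nilpotent M.nilB hlq (isPGroup_zpowers (k := 1) (by rw [hw'o, pow_one]))
        L.2 (Subgroup.zpowers_le.mpr hw'B) hL hx) w' (mem_zpowers w')
    calc w * x = a⁻¹ * (w' * (a * x * a⁻¹)) * a := by rw [hw']; group
      _ = a⁻¹ * (a * x * a⁻¹ * w') * a := by rw [h1]
      _ = x * w := by rw [hw']; group
  have hLn := sylow_eq_of_nilpotent M.nilB L (a⁻¹ • L) hL hLa
  rw [Sylow.coe_subgroup_smul] at hLn
  rw [← M.symm.normalizer_sylow hlB L hL]
  simpa using inv_mem (mem_normalizer_of_conj_smul_eq hLn)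

/-- Elements of prime order of `A` have their centralisers in the normaliser of `A`. -/
theorem centralizer_le_normalizer_left {p : ℕ} [Fact p.Prime] {a : G} (ha : a ∈ A)
    (hao : orderOf a = p) : centralizer ({a} : Set G) ≤ normalizer (A : Set G) := by
  have hAN : A ≤ normalizer (A : Set G) := le_normalizer
  -- elements normalising `B`
  have good : ∀ a' ∈ A, orderOf a' = p → a' ∈ normalizer (B : Set G) →
      centralizer ({a'} : Set G) ≤ normalizer (A : Set G) := by
    intro a' ha' hao' ha'B g hg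
    obtain ⟨x, hx, y, hy, rfl⟩ := M.fac g
    have h1 : a' * (x * y) = x * y * a' := Subgroup.mem_centralizer_iff.mp hg a' rfl
    have h2 : y * a' * y⁻¹ * a'⁻¹ ∈ A ⊓ B := by
      refine ⟨?_, ?_⟩
      · have e : y * a' * y⁻¹ = x⁻¹ * a' * x := by
          calc y * a' * y⁻¹ = x⁻¹ * (x * y * a') * y⁻¹ := by group
            _ = x⁻¹ * (a' * (x * y)) * y⁻¹ := by rw [h1]
            _ = x⁻¹ * a' * x := by group
        rw [e]
        exact A.mul_mem (A.mul_mem (A.mul_mem (A.inv_mem hx) ha') hx) (A.inv_mem ha')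
      · rw [show y * a' * y⁻¹ * a'⁻¹ = y * (a' * y⁻¹ * a'⁻¹) by group]
        exact B.mul_mem hy ((Subgroup.mem_normalizer_iff.mp ha'B _).mp (B.inv_mem hy))
    rw [M.inf_eq_bot, Subgroup.mem_bot, mul_inv_eq_one, mul_inv_eq_iff_eq_mul] at h2
    exact mul_mem (hAN hx) (M.symm.mem_normalizer_right hy ha' hao' ha'B h2)
  by_cases hex : ∃ x ∈ A, x * a * x⁻¹ ∈ normalizer (B : Set G)
  · obtain ⟨x, hx, hxB⟩ := hex
    intro g hg
    have h := good _ (mul_mem (mul_mem hx ha) (inv_mem hx))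
      (by rw [← MulAut.conj_apply, MulEquiv.orderOf_eq, hao]) hxB (x := x * g * x⁻¹)
      (Subgroup.mem_centralizer_iff.mpr fun u hu => by
        rw [Set.mem_singleton_iff.mp hu]
        have := Subgroup.mem_centralizer_iff.mp hg a rfl
        calc x * a * x⁻¹ * (x * g * x⁻¹) = x * (a * g) * x⁻¹ := by group
          _ = x * (g * a) * x⁻¹ := by rw [this]
          _ = x * g * x⁻¹ * (x * a * x⁻¹) := by group)
    have := mul_mem (mul_mem (inv_mem (hAN hx)) h) (hAN hx)
    simpa [mul_assoc] using this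
  push Not at hex
  have ha1 : a ≠ 1 := fun h => (Fact.out : p.Prime).ne_one (by rw [← hao, h, orderOf_one])
  set H := centralizer ({a} : Set G) with hH'
  have hH : H ≠ ⊤ := M.centralizer_ne_top ha1
  set NA := normalizer (A : Set G) with hNA'
  have hNA : NA ≠ ⊤ := M.normalizer_ne_top M.ne_bot M.ne_top
  have hfN : ∀ g ∈ NA, ∃ y ∈ B ⊓ NA, ∃ x ∈ A ⊓ NA, g = y * x := by
    intro g hg
    obtain ⟨y, hy, x, hx, rfl⟩ := M.fac.symm g
    refine ⟨y, ⟨hy, ?_⟩, x, ⟨hx, hAN hx⟩, rfl⟩
    have := mul_mem hg (inv_mem (hAN hx))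
    rwa [mul_inv_cancel_right] at this
  -- `C(a)` meets the normaliser of `A` in a subgroup of `A`
  have hHA : H ⊓ NA ≤ A := by
    refine le_of_le_normalizer_of_coprime M.hall_left ?_ inf_le_right
    rw [M.index_left]
    refine Nat.coprime_of_dvd fun q hq hqd hqB => ?_
    haveI := Fact.mk hq
    obtain ⟨b, hb⟩ := exists_prime_orderOf_dvd_card' q hqd
    rw [← Subgroup.orderOf_coe] at hb
    have hbH : (b : G) ∈ H := b.2.1
    have hbN : (b : G) ∈ NA := b.2.2
    obtain ⟨Q, hQ⟩ := exists_sylow_le_of_hall M.symm.hall_left hqB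
    -- a conjugate of `b` by an element of `A` lies in `B`
    have hbp : IsPGroup q ((zpowers (b : G)).subgroupOf NA) :=
      (isPGroup_zpowers (k := 1) (by rw [hb, pow_one])).comap_of_injective NA.subtype
        NA.subtype_injective
    obtain ⟨S, hS⟩ := hbp.exists_le_sylow
    have hidx : ¬ q ∣ ((Q : Subgroup G).subgroupOf NA).index := by
      have := M.symm.not_dvd_relIndex hfN hqB Q hQ
      rwa [Subgroup.inf_relIndex_right] at this
    set S₀ : Sylow q NA := (Q.2.comap_of_injective NA.subtype NA.subtype_injective).toSylow hidx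
    obtain ⟨m, hm⟩ := MulAction.exists_smul_eq NA S₀ S
    have hbS : (⟨b, hbN⟩ : NA) ∈ (S : Subgroup NA) :=
      hS (Subgroup.mem_subgroupOf.mpr (mem_zpowers _))
    rw [← hm, Sylow.coe_subgroup_smul, mem_conj_smul_iff] at hbS
    have hβ : ((m : G))⁻¹ * b * m ∈ (Q : Subgroup G) := hbS
    obtain ⟨x, hx, y, hy, hxy⟩ := M.fac (m : G)
    have hyN : y ∈ NA := by
      have := mul_mem (inv_mem (hAN hx)) m.2
      rwa [hxy, inv_mul_cancel_left] at this
    have hβ' : x⁻¹ * b * x ∈ B := by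
      have h1 := mul_mem (mul_mem hy (hQ hβ)) (inv_mem hy)
      rwa [hxy, show y * ((x * y)⁻¹ * (b : G) * (x * y)) * y⁻¹ = x⁻¹ * b * x by group] at h1
    refine hex x⁻¹ (inv_mem hx) ?_
    refine M.mem_normalizer_right (mul_mem (mul_mem (inv_mem hx) ha) (by rwa [inv_inv])) hβ'
      (q := q) ?_ (mul_mem (mul_mem (inv_mem (hAN hx)) hbN) (hAN hx)) ?_
    · rw [show x⁻¹ * (b : G) * x = MulAut.conj x⁻¹ b by simp [MulAut.conj_apply],
        MulEquiv.orderOf_eq, hb]
    · have hc := Subgroup.mem_centralizer_iff.mp hbH a rfl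
      rw [inv_inv]
      calc x⁻¹ * a * x * (x⁻¹ * b * x) = x⁻¹ * (a * b) * x := by group
        _ = x⁻¹ * (b * a) * x := by rw [hc]
        _ = x⁻¹ * b * x * (x⁻¹ * a * x) := by group
  set U := A.subgroupOf H with hU'
  haveI := M.nilA
  haveI hUnil : Group.IsNilpotent U := H1.isNilpotent_comap_subtype M.nilA H
  -- central elements lie in `U`
  have hcenU : ∀ r : ℕ, r.Prime → r ∣ Nat.card A → ∃ z, ∃ hzH : z ∈ H, IsCentralIn A z ∧
      orderOf z = r ∧ (⟨z, hzH⟩ : H) ∈ U := by
    intro r hr hrA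
    haveI := Fact.mk hr
    obtain ⟨z, hzA, hzo, hzc⟩ := exists_central_orderOf M.nilA M.hall_left hrA
    refine ⟨z, Subgroup.mem_centralizer_iff.mpr fun u hu => ?_, ⟨hzA, hzc⟩, hzo, hzA⟩
    rw [Set.mem_singleton_iff.mp hu]
    exact (Subgroup.mem_centralizer_iff.mp (hzc ha) z rfl).symm
  have hUA : ∀ r : ℕ, r ∣ Nat.card U → r ∣ Nat.card A := fun r h => by
    refine h.trans ?_
    rw [show Nat.card U = Nat.card ↥(A ⊓ H) by
      rw [hU', ← Subgroup.inf_subgroupOf_right]
      exact Nat.card_congr (Subgroup.subgroupOfEquivOfLe inf_le_right).toEquiv]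
    exact Subgroup.card_dvd_of_le inf_le_left
  have hnorm : ∀ r : ℕ, r.Prime → r ∣ Nat.card U → ∀ R : Sylow r U,
      normalizer (((R : Subgroup U).map U.subtype : Subgroup H) : Set H) = U := by
    intro r hr hrU R
    haveI := Fact.mk hr
    have hRn : (R : Subgroup U).Normal :=
      Sylow.normal_of_normalizerCondition Group.normalizerCondition_of_isNilpotent R
    refine le_antisymm ?_ ?_
    · intro n hn
      obtain ⟨z, hzH, hzc, hzo, hzU⟩ := hcenU r hr (hUA r hrU)
      have hzR : (⟨⟨z, hzH⟩, hzU⟩ : U) ∈ (R : Subgroup U) := by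
        have hp' : IsPGroup r (zpowers (⟨⟨z, hzH⟩, hzU⟩ : U)) :=
          isPGroup_zpowers (k := 1) (by
            rw [pow_one, ← Subgroup.orderOf_coe, ← Subgroup.orderOf_coe]; exact hzo)
        exact le_sylow_of_normalizes R hp' (fun x _ => by
          rw [Subgroup.normalizer_eq_top]; exact Subgroup.mem_top _) (mem_zpowers _)
      set W := ((R : Subgroup U).map U.subtype).map H.subtype with hW'
      have hWA : W ≤ A := by
        rintro _ ⟨_, ⟨v, -, rfl⟩, rfl⟩
        exact v.2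
      have hCW : centralizer (W : Set G) ≤ A := by
        rw [← M.centralizer_central hzc hzo]
        exact Subgroup.centralizer_le (Set.singleton_subset_iff.mpr
          ⟨_, ⟨_, hzR, rfl⟩, rfl⟩)
      have hWn : (n : G) ∈ normalizer (W : Set G) := Subgroup.le_normalizer_map H.subtype ⟨n, hn, rfl⟩
      obtain ⟨t, ht, htr, htA⟩ := M.symm.exists_ne_prime r hr
      haveI := Fact.mk ht
      obtain ⟨T, hT⟩ := exists_sylow_le_of_hall M.hall_left htA
      have hWp : IsPGroup r W := (R.2.map U.subtype).map H.subtype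
      have hTC := le_centralizer_of_nilpotent M.nilA htr hWp T.2 hWA hT
      have hTn : (((n : G) • T : Sylow t G) : Subgroup G) ≤ A := by
        refine le_trans ?_ hCW
        rw [Sylow.coe_subgroup_smul]
        intro x hx
        rw [mem_conj_smul_iff] at hx
        rw [Subgroup.mem_centralizer_iff]
        intro y hy
        have h1 := Subgroup.mem_centralizer_iff.mp (hTC hx) ((n : G)⁻¹ * y * n)
          ((Subgroup.mem_normalizer_iff''.mp hWn y).mp hy)
        calc y * x = n * ((n : G)⁻¹ * y * n * ((n : G)⁻¹ * x * n)) * (n : G)⁻¹ := by group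
          _ = n * ((n : G)⁻¹ * x * n * ((n : G)⁻¹ * y * n)) * (n : G)⁻¹ := by rw [h1]
          _ = x * y := by group
      have := sylow_eq_of_nilpotent M.nilA T _ hT hTn
      rw [Sylow.coe_subgroup_smul] at this
      have hnM : (n : G) ∈ NA := by
        rw [hNA', ← M.normalizer_sylow htA T hT]
        exact mem_normalizer_of_conj_smul_eq this
      exact hHA ⟨n.2, hnM⟩
    · intro n hn
      refine Subgroup.le_normalizer_map U.subtype ⟨⟨n, hn⟩, ?_, rfl⟩
      rw [Subgroup.normalizer_eq_top]; exact Subgroup.mem_top _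
  have hnot : ∀ r : ℕ, r.Prime → ∀ S : Sylow r H, (S : Subgroup H) ≠ U := by
    intro r hr S hS
    haveI := Fact.mk hr
    obtain ⟨t, ht, htr, htA⟩ := M.symm.exists_ne_prime r hr
    obtain ⟨z, hzH, -, hzo, hzU⟩ := hcenU t ht htA
    obtain ⟨k, hk⟩ := IsPGroup.iff_card.mp S.2
    have h1 : t ∣ r ^ k := by
      rw [← hzo, ← hk, hS]
      have := Subgroup.orderOf_dvd_natCard U hzU
      rwa [Subgroup.orderOf_mk] at this
    exact htr ((Nat.prime_dvd_prime_iff_eq ht hr).mp (ht.dvd_of_dvd_pow h1))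
  obtain ⟨K, hKn, hK⟩ := exists_normal_complement_of_sylow_normalizers U hnot hnorm
  haveI := hKn
  have hHall : ∀ r : ℕ, r.Prime → r ∣ Nat.card A → ¬ r ∣ U.index := by
    intro r hr hrA
    haveI := Fact.mk hr
    obtain ⟨z, hzH, -, hzo, hzU⟩ := hcenU r hr hrA
    have hrU : r ∣ Nat.card U := by
      have := Subgroup.orderOf_dvd_natCard U hzU
      rwa [Subgroup.orderOf_mk, hzo] at this
    obtain ⟨R⟩ := (inferInstance : Nonempty (Sylow r U))
    obtain ⟨S, hS⟩ := exists_sylow_eq_of_normalizer_le (R.2.map U.subtype)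
      (hnorm r hr hrU R).le (fun V hV hRV hVU => by
        refine le_antisymm ?_ hRV
        have h := R.3 (hV.comap_of_injective U.subtype U.subtype_injective)
          (Subgroup.map_le_iff_le_comap.mp hRV)
        intro x hx
        exact ⟨⟨x, hVU hx⟩, h.le hx, rfl⟩)
    intro hd
    exact S.not_dvd_index (hd.trans (Subgroup.index_dvd_of_le (hS ▸ Subgroup.map_subtype_le _)))
  set K' := K.map H.subtype with hK'
  by_cases hK0 : K = ⊥
  · have hUtop : U = ⊤ := by
      have := hK.card_mul_card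
      rw [hK0, Subgroup.card_bot, one_mul] at this
      exact Subgroup.eq_top_of_card_eq _ this
    exact (Subgroup.subgroupOf_eq_top.mp hUtop).trans hAN
  exfalso
  have hK'card : Nat.card K' = U.index := by
    rw [hK', Subgroup.card_map_of_injective H.subtype_injective]
    have h1 := hK.card_mul_card
    rw [← U.card_mul_index, mul_comm (Nat.card U)] at h1
    exact Nat.eq_of_mul_eq_mul_right Nat.card_pos h1
  obtain ⟨g, hg⟩ := wielandt_aux _ B K' rfl M.nilB M.symm.hall_left fun r hr hrd => by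
    have : r ∣ Nat.card A * Nat.card B := M.card_eq ▸ hrd.trans (Subgroup.card_subgroup_dvd_card K')
    exact (hr.dvd_mul.mp this).resolve_left fun h => hHall r hr h (hK'card ▸ hrd)
  obtain ⟨x, hx, y, hy, rfl⟩ := M.fac g
  rw [← conj_smul_conj_smul, Subgroup.conj_smul_eq_self_of_mem hy] at hg
  set N := normalizer (K' : Set G) with hN'
  have hN : N ≠ ⊤ := M.normalizer_ne_top
    (by rwa [hK', ne_eq, Subgroup.map_eq_bot_iff_of_injective _ H.subtype_injective])
    (fun h => hH (top_le_iff.mp (h ▸ Subgroup.map_subtype_le K)))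
  have hHN : H ≤ N := by
    intro h hh
    refine Subgroup.le_normalizer_map H.subtype ⟨⟨h, hh⟩, ?_, rfl⟩
    rw [Subgroup.normalizer_eq_top]; exact Subgroup.mem_top _
  obtain ⟨r, hr, -, hrA⟩ := M.symm.exists_ne_prime p Fact.out
  obtain ⟨q, hq, -, hqB⟩ := M.exists_ne_prime p Fact.out
  haveI := Fact.mk hr
  haveI := Fact.mk hq
  obtain ⟨z, hzH, hzc, hzo, -⟩ := hcenU r hr hrA
  obtain ⟨w, hwB, hwo, hwc⟩ := exists_central_orderOf M.nilB M.symm.hall_left hqB
  refine M.central_pair hzc ⟨hwB, hwc⟩ hzo hwo (H := MulAut.conj x⁻¹ • N) ?_ ?_ ?_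
  · intro h
    refine hN (Subgroup.eq_top_of_card_eq _ ?_)
    rw [← card_conj_smul N x⁻¹, h, Subgroup.card_top]
  · rw [mem_conj_smul_iff, inv_inv]
    have := Subgroup.mem_centralizer_iff.mp (hzc.le hx) z rfl
    rw [← this, mul_inv_cancel_right]
    exact hHN hzH
  · rw [mem_conj_smul_iff, inv_inv]
    refine Subgroup.centralizer_le_normalizer _ (Subgroup.mem_centralizer_iff.mpr fun v hv => ?_)
    have hv' := hg hv
    rw [mem_conj_smul_iff] at hv'
    have := Subgroup.mem_centralizer_iff.mp (hwc hv') w rfl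
    calc v * (x * w * x⁻¹) = x * (x⁻¹ * v * x * w) * x⁻¹ := by group
      _ = x * (w * (x⁻¹ * v * x)) * x⁻¹ := by rw [← this]
      _ = x * w * x⁻¹ * v := by group

/-- `A` is a trivial intersection subgroup. -/
theorem inf_conj_eq_bot {g : G} (hg : g ∉ normalizer (A : Set G)) :
    A ⊓ MulAut.conj g • A = ⊥ := by
  by_contra hne
  obtain ⟨p, hp, hpd⟩ := Nat.exists_prime_and_dvd
    (mt (A ⊓ MulAut.conj g • A : Subgroup G).card_eq_one.mp hne)
  haveI := Fact.mk hp
  obtain ⟨a, ha⟩ := exists_prime_orderOf_dvd_card' p hpd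
  rw [← Subgroup.orderOf_coe] at ha
  obtain ⟨r, hr, hrp, hrA⟩ := M.symm.exists_ne_prime p hp
  haveI := Fact.mk hr
  obtain ⟨R, hR⟩ := exists_sylow_le_of_hall M.hall_left hrA
  have hgR : ((g • R : Sylow r G) : Subgroup G) ≤ MulAut.conj g • A := by
    rw [Sylow.coe_subgroup_smul]; exact Subgroup.pointwise_smul_le_pointwise_smul_iff.mpr hR
  have hRC : ((g • R : Sylow r G) : Subgroup G) ≤ centralizer ({(a : G)} : Set G) := by
    intro x hx
    refine Subgroup.mem_centralizer_iff.mpr fun u hu => ?_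
    rw [Set.mem_singleton_iff.mp hu]
    exact Subgroup.mem_centralizer_iff.mp (le_centralizer_of_nilpotent
      (isNilpotent_conj_smul M.nilA g) hrp (isPGroup_zpowers (k := 1) (by rw [ha, pow_one]))
      (g • R).2 (Subgroup.zpowers_le.mpr a.2.2) hgR hx) a (mem_zpowers _)
  have hRN := hRC.trans (M.centralizer_le_normalizer_left a.2.1 ha)
  have h := sylow_eq_of_nilpotent M.nilA R (g • R) hR
    (le_of_le_normalizer_of_coprime M.hall_left (by
      obtain ⟨k, hk⟩ := IsPGroup.iff_card.mp (g • R : Sylow r G).2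
      rw [hk, M.index_left]
      exact (M.cop.coprime_dvd_left hrA).pow_left k) hRN)
  rw [Sylow.coe_subgroup_smul] at h
  exact hg (M.normalizer_sylow hrA R hR ▸ mem_normalizer_of_conj_smul_eq h)

theorem card_lt : Nat.card A < Nat.card B := by
  classical
  set NA := normalizer (A : Set G) with hNA'
  have hNA : NA ≠ ⊤ := M.normalizer_ne_top M.ne_bot M.ne_top
  obtain ⟨g, hg⟩ : ∃ g, g ∉ NA := by
    by_contra h
    push Not at h
    exact hNA (eq_top_iff.mpr fun x _ => h x)
  set f : Option A → G ⧸ NA := fun o =>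
    Option.elim o (QuotientGroup.mk 1) (fun a => QuotientGroup.mk ((a : G) * g)) with hf
  have hinj : Function.Injective f := by
    have hne : ∀ a : A, f none ≠ f (some a) := by
      intro a h
      have h1 := QuotientGroup.eq.mp h
      rw [inv_one, one_mul] at h1
      exact hg (by simpa using mul_mem (inv_mem (le_normalizer a.2)) h1)
    rintro (_ | a) (_ | b) h
    · rfl
    · exact absurd h (hne b)
    · exact absurd h.symm (hne a)
    · have h1 : ((a : G) * g)⁻¹ * ((b : G) * g) ∈ NA := QuotientGroup.eq.mp h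
      rw [show ((a : G) * g)⁻¹ * ((b : G) * g) = g⁻¹ * ((a : G)⁻¹ * b) * g by group] at h1
      set d := g⁻¹ * ((a : G)⁻¹ * b) * g with hd
      have hdA : d ∈ A := by
        refine le_of_le_normalizer_of_coprime M.hall_left ?_ (Subgroup.zpowers_le.mpr h1)
          (mem_zpowers d)
        rw [Nat.card_zpowers, M.index_left]
        refine M.cop.coprime_dvd_left ?_
        rw [show d = MulAut.conj g⁻¹ ((a : G)⁻¹ * b) by simp [hd, MulAut.conj_apply],
          MulEquiv.orderOf_eq]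
        exact Subgroup.orderOf_dvd_natCard A (mul_mem (inv_mem a.2) b.2)
      have : (a : G)⁻¹ * b ∈ A ⊓ MulAut.conj g • A :=
        ⟨A.mul_mem (A.inv_mem a.2) b.2, mem_conj_smul_iff.mpr hdA⟩
      rw [M.inf_conj_eq_bot hg, Subgroup.mem_bot, inv_mul_eq_one] at this
      exact congrArg some (Subtype.ext this)
  have h1 := Nat.card_le_card_of_injective f hinj
  rw [Finite.card_option] at h1
  have h2 : NA.index ∣ Nat.card B := M.index_left ▸ Subgroup.index_dvd_of_le le_normalizer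
  exact (Nat.lt_of_lt_of_le (Nat.lt_succ_self _) h1).trans_le
    (by rw [← Subgroup.index_eq_card]; exact Nat.le_of_dvd Nat.card_pos h2)

theorem absurd_min : False := lt_asymm M.card_lt M.symm.card_lt

end KWMin

end H4
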