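import Cfsg.Agent.H4.Factor

/-!
Kegel's lemma: if every product `A * B^x` is a proper subgroup then `A` or `B` lies in a proper
normal subgroup.
-/

set_option autoImplicit false

namespace H4

open Pointwise

variable {G : Type*} [Group G]

theorem le_of_coe_eq_mul {S A B : Subgroup G} (hS : (S : Set G) = (A : Set G) * (B : Set G)) :
    A ⊔ B ≤ S := by
  refine sup_le (fun a ha => ?_) (fun b hb => ?_)
  · rw [← SetLike.mem_coe, hS]; exact ⟨a, ha, 1, B.one_mem, mul_one a⟩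
  · rw [← SetLike.mem_coe, hS]; exact ⟨1, A.one_mem, b, hb, one_mul b⟩

theorem exists_subgroup_eq_mul_of_comm {A B : Subgroup G}
    (h : ∀ b ∈ B, ∀ a ∈ A, ∃ a' ∈ A, ∃ b' ∈ B, b * a = a' * b') :
    ∃ S : Subgroup G, (S : Set G) = (A : Set G) * (B : Set G) := by
  refine ⟨{ carrier := (A : Set G) * (B : Set G), mul_mem' := ?_, one_mem' := ?_, inv_mem' := ?_ }, rfl⟩
  · rintro x y ⟨a, ha, b, hb, rfl⟩ ⟨c, hc, d, hd, rfl⟩
    obtain ⟨a', ha', b', hb', e⟩ := h b hb c hc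
    refine ⟨a * a', A.mul_mem ha ha', b' * d, B.mul_mem hb' hd, ?_⟩
    show a * a' * (b' * d) = a * b * (c * d)
    rw [show a * b * (c * d) = a * (b * c) * d by group, e]; group
  · exact ⟨1, A.one_mem, 1, B.one_mem, mul_one 1⟩
  · rintro x ⟨a, ha, b, hb, rfl⟩
    obtain ⟨a', ha', b', hb', e⟩ := h b⁻¹ (B.inv_mem hb) a⁻¹ (A.inv_mem ha)
    exact ⟨a', ha', b', hb', by show a' * b' = (a * b)⁻¹; rw [← e, mul_inv_rev]⟩

theorem comm_of_coe_eq_mul {S A B : Subgroup G} (hS : (S : Set G) = (A : Set G) * (B : Set G)) :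
    ∀ b ∈ B, ∀ a ∈ A, ∃ a' ∈ A, ∃ b' ∈ B, b * a = a' * b' := by
  intro b hb a ha
  have h1 : b * a ∈ S :=
    S.mul_mem (le_of_coe_eq_mul hS (Subgroup.mem_sup_right hb))
      (le_of_coe_eq_mul hS (Subgroup.mem_sup_left ha))
  rw [← SetLike.mem_coe, hS] at h1
  obtain ⟨a', ha', b', hb', e⟩ := h1
  exact ⟨a', ha', b', hb', e.symm⟩

/-- A join of subgroups permuting with `B` permutes with `B`. -/
theorem comm_sup_left {A₁ A₂ B : Subgroup G}
    (h1 : ∀ b ∈ B, ∀ a ∈ A₁, ∃ a' ∈ A₁, ∃ b' ∈ B, b * a = a' * b')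
    (h2 : ∀ b ∈ B, ∀ a ∈ A₂, ∃ a' ∈ A₂, ∃ b' ∈ B, b * a = a' * b') :
    ∀ b ∈ B, ∀ a ∈ A₁ ⊔ A₂, ∃ a' ∈ A₁ ⊔ A₂, ∃ b' ∈ B, b * a = a' * b' := by
  intro b hb a ha
  rw [Subgroup.sup_eq_closure] at ha
  revert b
  induction ha using Subgroup.closure_induction with
  | mem x hx =>
    intro b hb
    rcases hx with hx | hx
    · obtain ⟨a', ha', r⟩ := h1 b hb x hx
      exact ⟨a', Subgroup.mem_sup_left ha', r⟩
    · obtain ⟨a', ha', r⟩ := h2 b hb x hx
      exact ⟨a', Subgroup.mem_sup_right ha', r⟩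
  | one => exact fun b hb => ⟨1, Subgroup.one_mem _, b, hb, by simp⟩
  | mul x y _ _ ihx ihy =>
    intro b hb
    obtain ⟨x', hx', b', hb', e⟩ := ihx b hb
    obtain ⟨y', hy', b'', hb'', e'⟩ := ihy b' hb'
    exact ⟨x' * y', Subgroup.mul_mem _ hx' hy', b'', hb'',
      by rw [← mul_assoc, e, mul_assoc, e', mul_assoc]⟩
  | inv x hx ih =>
    clear ih
    suffices H : ∀ b ∈ B, ∃ x' ∈ A₁ ⊔ A₂, ∃ b' ∈ B, b * x⁻¹ = x' * b' from H
    have hmon : ∀ y ∈ Submonoid.closure ((A₁ : Set G) ∪ A₂), ∀ b ∈ B,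
        ∃ y' ∈ A₁ ⊔ A₂, ∃ b' ∈ B, b * y = y' * b' := by
      intro y hy
      induction hy using Submonoid.closure_induction with
      | mem z hz =>
        intro b hb
        rcases hz with hz | hz
        · obtain ⟨a', ha', r⟩ := h1 b hb z hz
          exact ⟨a', Subgroup.mem_sup_left ha', r⟩
        · obtain ⟨a', ha', r⟩ := h2 b hb z hz
          exact ⟨a', Subgroup.mem_sup_right ha', r⟩
      | one => exact fun b hb => ⟨1, Subgroup.one_mem _, b, hb, by simp⟩
      | mul x y _ _ ihx ihy =>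
        intro b hb
        obtain ⟨x', hx', b', hb', e⟩ := ihx b hb
        obtain ⟨y', hy', b'', hb'', e'⟩ := ihy b' hb'
        exact ⟨x' * y', Subgroup.mul_mem _ hx' hy', b'', hb'',
          by rw [← mul_assoc, e, mul_assoc, e', mul_assoc]⟩
    apply hmon
    have : x⁻¹ ∈ (Subgroup.closure ((A₁ : Set G) ∪ A₂)).toSubmonoid :=
      (Subgroup.closure _).inv_mem hx
    rw [Subgroup.closure_toSubmonoid] at this
    convert this using 2
    simp [Set.union_inv]

theorem exists_conj_smul_not_mem_normalizer {A B : Subgroup G} (hA : ¬ A.Normal)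
    (hB : Subgroup.normalClosure (B : Set G) = ⊤) :
    ∃ y : G, ∃ b ∈ MulAut.conj y • B, b ∉ Subgroup.normalizer (A : Set G) := by
  by_contra hcon
  push Not at hcon
  apply hA
  rw [← Subgroup.normalizer_eq_top_iff, eq_top_iff, ← hB]
  rw [Subgroup.normalClosure, Subgroup.closure_le]
  intro g hg
  obtain ⟨b, hb, hgb⟩ := Group.mem_conjugatesOfSet_iff.mp hg
  obtain ⟨c, rfl⟩ := isConj_iff.mp hgb
  exact hcon c _ (conj_mem_conj_smul c hb)

/-- Kegel's lemma. -/
theorem kegel [Finite G] (A B : Subgroup G)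
    (h : ∀ x : G, ∃ S : Subgroup G, S ≠ ⊤ ∧
      (S : Set G) = (A : Set G) * ((MulAut.conj x • B : Subgroup G) : Set G)) :
    ∃ N : Subgroup G, N.Normal ∧ N ≠ ⊤ ∧ (A ≤ N ∨ B ≤ N) := by
  induction A using (wellFounded_gt (α := Subgroup G)).induction with
  | _ A ih =>
  by_cases hB : Subgroup.normalClosure (B : Set G) = ⊤
  swap
  · exact ⟨_, Subgroup.normalClosure_normal, hB, Or.inr Subgroup.le_normalClosure⟩
  by_cases hA : A.Normal
  · obtain ⟨S, hS, hSe⟩ := h 1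
    exact ⟨A, hA, fun hAt => hS (top_le_iff.mp (hAt ▸ le_sup_left.trans (le_of_coe_eq_mul hSe))),
      Or.inl le_rfl⟩
  obtain ⟨y, b, hb, hbA⟩ := exists_conj_smul_not_mem_normalizer hA hB
  set A' : Subgroup G := A ⊔ MulAut.conj b • A with hA'
  have hlt : A < A' := by
    refine lt_of_le_of_ne le_sup_left fun he => hbA (mem_normalizer_of_conj_smul_le ?_)
    calc MulAut.conj b • A ≤ A' := le_sup_right
      _ = A := he.symm
  have hperm : ∀ x : G, ∃ S : Subgroup G,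
      (S : Set G) = (A' : Set G) * ((MulAut.conj x • B : Subgroup G) : Set G) := by
    intro x
    refine exists_subgroup_eq_mul_of_comm (comm_sup_left ?_ ?_)
    · obtain ⟨S, -, hS⟩ := h x
      exact comm_of_coe_eq_mul hS
    · obtain ⟨S, -, hS⟩ := h (b⁻¹ * x)
      intro c hc a ha
      have hc' : b⁻¹ * c * b ∈ MulAut.conj (b⁻¹ * x) • B := by
        rw [mem_conj_smul_iff] at hc ⊢
        convert hc using 1
        group
      have ha' : b⁻¹ * a * b ∈ A := mem_conj_smul_iff.mp ha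
      obtain ⟨a'', ha'', c'', hc'', e⟩ := comm_of_coe_eq_mul hS _ hc' _ ha'
      refine ⟨b * a'' * b⁻¹, conj_mem_conj_smul b ha'', b * c'' * b⁻¹, ?_, ?_⟩
      · rw [mem_conj_smul_iff] at hc'' ⊢
        convert hc'' using 1
        group
      · calc c * a = b * (b⁻¹ * c * b * (b⁻¹ * a * b)) * b⁻¹ := by group
          _ = b * (a'' * c'') * b⁻¹ := by rw [e]
          _ = b * a'' * b⁻¹ * (b * c'' * b⁻¹) := by group
  obtain ⟨N, hN, hNt, hcase⟩ := ih A' hlt (fun x => by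
    obtain ⟨S, hS⟩ := hperm x
    refine ⟨S, fun hSt => ?_, hS⟩
    -- otherwise the group would factorise as `A' * B^y`, which lies in `A * B^y`
    obtain ⟨T, hTt, hT⟩ := h y
    have hfac : Factorizes A' (MulAut.conj x • B) := by
      intro g
      have hg : g ∈ S := hSt ▸ Subgroup.mem_top g
      rw [← SetLike.mem_coe, hS] at hg
      obtain ⟨u, hu, v, hv, e⟩ := hg
      exact ⟨u, hu, v, hv, e.symm⟩
    have hfac' := hfac.of_conj 1 (y * x⁻¹)
    rw [map_one, one_smul, conj_smul_conj_smul, inv_mul_cancel_right] at hfac'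
    have hTy : A ⊔ MulAut.conj y • B ≤ T := le_of_coe_eq_mul hT
    have hA'T : A' ≤ T := by
      refine sup_le (le_sup_left.trans hTy) fun u hu => ?_
      have hbT : b ∈ T := hTy (Subgroup.mem_sup_right hb)
      have hu' : b⁻¹ * u * b ∈ T := hTy (Subgroup.mem_sup_left (mem_conj_smul_iff.mp hu))
      have hu'' := T.mul_mem (T.mul_mem hbT hu') (T.inv_mem hbT)
      have heq : b * (b⁻¹ * u * b) * b⁻¹ = u := by group
      rwa [heq] at hu''
    apply hTt
    rw [eq_top_iff]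
    intro g _
    obtain ⟨u, hu, v, hv, rfl⟩ := hfac' g
    exact T.mul_mem (hA'T hu) (hTy (Subgroup.mem_sup_right hv)))
  exact ⟨N, hN, hNt, hcase.imp (fun hle => hlt.le.trans hle) id⟩

end H4
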