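import Cfsg.Prelude.Def_CaseTheorems
import Cfsg.Prelude.Def_FusionSystem
import Cfsg.Agent.H5.Frobenius
import Cfsg.Agent.H85.GroupSystem
import Cfsg.Agent.H1.Cores
import Cfsg.Agent.S5212
import Cfsg.Agent.S0949

/-!
A group whose Sylow 2-subgroup has a cyclic normal subgroup with cyclic quotient of order more than
two is soluble, granted that groups of odd order are soluble.
-/

set_option autoImplicit false
set_option linter.style.haveILetI false

namespace H4.MetaSolv

open Subgroup

/-- A cyclic group generated by elements of square one has order at most two. -/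
theorem card_le_two_of_gen {Q : Type*} [Group Q] [Finite Q] (hc : IsCyclic Q) (X : Set Q)
    (hX : closure X = ⊤) (h : ∀ x ∈ X, x ^ 2 = 1) : Nat.card Q ≤ 2 := by
  have hall : ∀ q : Q, q ^ 2 = 1 := by
    intro q
    letI := hc.commGroup
    have hle : closure X ≤ (powMonoidHom 2 : Q →* Q).ker := by
      rw [closure_le]
      exact fun x hx => h x hx
    exact hle (hX ▸ mem_top q)
  obtain ⟨g, hg⟩ := hc.exists_generator
  have : orderOf g = Nat.card Q := by
    rw [← Nat.card_zpowers, (eq_top_iff' (zpowers g)).mpr hg, card_top]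
  rw [← this]
  exact Nat.le_of_dvd (by norm_num) (orderOf_dvd_of_pow_eq_one (hall g))

theorem quot_dihedral {m : ℕ} {S : Type*} [Group S] [Finite S] (e : S ≃* DihedralGroup m)
    (N : Subgroup S) [N.Normal] (hc : IsCyclic (S ⧸ N)) : Nat.card (S ⧸ N) ≤ 2 := by
  set f := (QuotientGroup.mk' N).comp e.symm.toMonoidHom with hf
  have hfs : Function.Surjective f :=
    (QuotientGroup.mk'_surjective N).comp e.symm.surjective
  refine card_le_two_of_gen hc (Set.range fun i => f (DihedralGroup.sr i)) ?_ ?_
  · rw [eq_top_iff]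
    intro q _
    obtain ⟨d, rfl⟩ := hfs q
    rcases d with i | i
    · rw [show (DihedralGroup.r i : DihedralGroup m) = DihedralGroup.sr 0 * DihedralGroup.sr i by
        simp, map_mul]
      exact mul_mem (subset_closure ⟨0, rfl⟩) (subset_closure ⟨i, rfl⟩)
    · exact subset_closure ⟨i, rfl⟩
  · rintro _ ⟨i, rfl⟩
    rw [← map_pow, pow_two, DihedralGroup.sr_mul_self, map_one]

theorem quot_quaternion {m : ℕ} (hm : Even m) {S : Type*} [Group S] [Finite S]
    (e : S ≃* QuaternionGroup m) (N : Subgroup S) [N.Normal] (hc : IsCyclic (S ⧸ N)) :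
    Nat.card (S ⧸ N) ≤ 2 := by
  set f := (QuotientGroup.mk' N).comp e.symm.toMonoidHom with hf
  have hfs : Function.Surjective f :=
    (QuotientGroup.mk'_surjective N).comp e.symm.surjective
  letI := hc.commGroup
  -- the commutator of `xa 0` and `a 1` is a square of `a 1`
  have ha : f (QuaternionGroup.a 1) ^ 2 = 1 := by
    have h1 : (QuaternionGroup.xa 0 : QuaternionGroup m) * QuaternionGroup.a 1 *
        QuaternionGroup.xa (0 : ZMod (2 * m)) = QuaternionGroup.xa 0 * QuaternionGroup.xa 0 *
        QuaternionGroup.a (-1) := by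
      simp [sub_eq_add_neg]
    have h2 := congrArg f h1
    simp only [map_mul] at h2
    rw [show f (QuaternionGroup.a (-1)) = (f (QuaternionGroup.a 1))⁻¹ by
      rw [← map_inv]; rfl] at h2
    rw [mul_comm _ (f (QuaternionGroup.xa 0)), ← mul_assoc] at h2
    rw [pow_two]
    exact eq_inv_iff_mul_eq_one.mp (mul_left_cancel h2)
  have hapow : ∀ k : ℕ, Even k → f (QuaternionGroup.a 1) ^ k = 1 := by
    rintro k ⟨j, rfl⟩
    rw [← two_mul, pow_mul, ha, one_pow]
  have hxa : f (QuaternionGroup.xa 0) ^ 2 = 1 := by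
    rw [← map_pow, QuaternionGroup.xa_sq, ← QuaternionGroup.a_one_pow, map_pow, hapow m hm]
  refine card_le_two_of_gen hc {f (QuaternionGroup.xa 0), f (QuaternionGroup.a 1)} ?_ ?_
  · rw [eq_top_iff]
    intro q _
    obtain ⟨d, rfl⟩ := hfs q
    have hmem : ∀ i : ZMod (2 * m), f (QuaternionGroup.a i) ∈
        closure {f (QuaternionGroup.xa 0), f (QuaternionGroup.a 1)} := by
      intro i
      obtain ⟨k, rfl⟩ : ∃ k : ℤ, (k : ZMod (2 * m)) = i := ZMod.intCast_surjective i
      have hk : (QuaternionGroup.a 1 : QuaternionGroup m) ^ k = QuaternionGroup.a (k : ZMod (2 * m)) := by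
        obtain ⟨n, rfl | rfl⟩ := k.eq_nat_or_neg
        · simp
        · rw [zpow_neg, zpow_natCast, QuaternionGroup.a_one_pow, Int.cast_neg, Int.cast_natCast]
          rfl
      rw [← hk, map_zpow]
      exact zpow_mem (subset_closure (by simp)) k
    rcases d with i | i
    · exact hmem i
    · rw [show (QuaternionGroup.xa i : QuaternionGroup m) =
        QuaternionGroup.xa 0 * QuaternionGroup.a i by simp, map_mul]
      exact mul_mem (subset_closure (by simp)) (hmem i)
  · rintro x (rfl | rfl)
    · exact hxa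
    · exact ha

theorem quot_quasiDihedral {S : Type*} [Group S] [Finite S] (h : Cfsg.IsQuasiDihedral S)
    (N : Subgroup S) [N.Normal] (hc : IsCyclic (S ⧸ N)) : Nat.card (S ⧸ N) ≤ 2 := by
  obtain ⟨n, hn, hcard, x, y, hx, hy, hxy⟩ := h
  letI := hc.commGroup
  set f := QuotientGroup.mk' N with hf
  have hyx : y ∉ zpowers x := by
    intro hm
    obtain ⟨k, rfl⟩ := hm
    simp only at hxy
    rw [((Commute.refl x).zpow_left k).eq, mul_inv_cancel_right] at hxy
    have h2 : x ^ (2 ^ (n - 1) - 2) = 1 := by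
      refine mul_right_cancel (b := x) ?_
      rw [one_mul, ← pow_succ]
      have : 2 ^ 2 ≤ 2 ^ (n - 1) := Nat.pow_le_pow_right (by norm_num) (by omega)
      rw [show 2 ^ (n - 1) - 2 + 1 = 2 ^ (n - 1) - 1 by omega, ← hxy]
    have hd := hx ▸ orderOf_dvd_of_pow_eq_one h2
    have : 2 ^ 2 ≤ 2 ^ (n - 1) := Nat.pow_le_pow_right (by norm_num) (by omega)
    have h3 := Nat.le_of_dvd (by omega) hd
    have h4 : 2 ^ (n - 1) ≤ 2 ^ n := Nat.pow_le_pow_right (by norm_num) (by omega)
    omega
  have hgen : closure ({x, y} : Set S) = ⊤ := by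
    have h1 : zpowers x < closure ({x, y} : Set S) := by
      refine lt_of_le_of_ne (zpowers_le.mpr (subset_closure (by simp))) fun e => hyx ?_
      rw [e]; exact subset_closure (by simp)
    have h2 := card_dvd_of_le h1.le
    rw [Nat.card_zpowers, hx] at h2
    obtain ⟨j, hj⟩ := h2
    have h3 := (closure ({x, y} : Set S)).card_subgroup_dvd_card
    rw [hcard, hj, pow_succ] at h3
    have h4 : j ∣ 2 := Nat.dvd_of_mul_dvd_mul_left (by positivity) h3
    refine eq_top_of_card_eq _ ?_
    rcases (Nat.dvd_prime Nat.prime_two).mp h4 with rfl | rfl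
    · exfalso
      refine h1.ne (eq_of_le_of_card_ge h1.le ?_)
      rw [hj, Nat.card_zpowers, hx, mul_one]
    · rw [hj, hcard, pow_succ]
  have hfx : f x ^ 2 = 1 := by
    have h1 := congrArg f hxy
    rw [map_mul, map_mul, map_inv, mul_comm (f y) (f x), mul_inv_cancel_right, map_pow] at h1
    have h2 : f x ^ (2 ^ (n - 1) - 2) = 1 := by
      refine mul_right_cancel (b := f x) ?_
      rw [one_mul, ← pow_succ]
      have : 2 ^ 2 ≤ 2 ^ (n - 1) := Nat.pow_le_pow_right (by norm_num) (by omega)
      rw [show 2 ^ (n - 1) - 2 + 1 = 2 ^ (n - 1) - 1 by omega, ← h1]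
    have h3 : orderOf (f x) ∣ 2 ^ n := hx ▸ orderOf_map_dvd f x
    have h4 : orderOf (f x) ∣ 2 * (2 ^ (n - 2) - 1) := by
      have : 2 * (2 ^ (n - 2) - 1) = 2 ^ (n - 1) - 2 := by
        rw [Nat.mul_sub, ← pow_succ', show n - 2 + 1 = n - 1 by omega]
      exact this ▸ orderOf_dvd_of_pow_eq_one h2
    refine orderOf_dvd_iff_pow_eq_one.mp ?_
    obtain ⟨j, -, hj⟩ := (Nat.dvd_prime_pow Nat.prime_two).mp h3
    rw [hj] at h4 ⊢
    rcases j with - | - | j
    · simp
    · simp
    · exfalso
      rw [pow_succ'] at h4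
      have h5 : 2 ^ (j + 1) ∣ 2 ^ (n - 2) - 1 := Nat.dvd_of_mul_dvd_mul_left (by norm_num) h4
      have h6 : 2 ∣ 2 ^ (n - 2) - 1 := (dvd_pow_self 2 (by omega)).trans h5
      have h7 : 2 ∣ 2 ^ (n - 2) := dvd_pow_self 2 (by omega)
      have h8 : 1 ≤ 2 ^ (n - 2) := Nat.one_le_two_pow
      omega
  refine card_le_two_of_gen hc (f '' {x, y}) ?_ ?_
  · rw [← MonoidHom.map_closure, hgen, map_top_of_surjective f (QuotientGroup.mk'_surjective N)]
  · rintro _ ⟨z, (rfl | rfl), rfl⟩
    · exact hfx
    · rw [← map_pow, orderOf_dvd_iff_pow_eq_one.mp hy.dvd, map_one]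

/-- In a commutative group which is cyclic by cyclic there are at most four solutions of `x² = 1`. -/
theorem card_sq_one_le {S : Type*} [CommGroup S] [Finite S] (N : Subgroup S)
    (hN : IsCyclic N) (hc : IsCyclic (S ⧸ N)) : Nat.card {x : S // x ^ 2 = 1} ≤ 4 := by
  classical
  haveI := Fintype.ofFinite N
  haveI := Fintype.ofFinite (S ⧸ N)
  haveI := Fintype.ofFinite S
  set A : Finset S := Finset.univ.filter fun x => x ^ 2 = 1 with hA
  have hcard : Nat.card {x : S // x ^ 2 = 1} = A.card := by
    rw [Nat.card_eq_fintype_card, Fintype.card_subtype]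
  rw [hcard]
  set B : Finset (S ⧸ N) := Finset.univ.filter fun q => q ^ 2 = 1 with hB
  have hB2 : B.card ≤ 2 := IsCyclic.card_pow_eq_one_le (by norm_num)
  have hfib : ∀ q ∈ B, (A.filter fun x : S => (x : S ⧸ N) = q).card ≤ 2 := by
    intro q _
    rcases (A.filter fun x : S => (x : S ⧸ N) = q).eq_empty_or_nonempty with he | ⟨x₀, hx₀⟩
    · simp [he]
    simp only [hA, Finset.mem_filter, Finset.mem_univ, true_and] at hx₀
    refine le_trans (Finset.card_le_card_of_injOn
      (fun x => if h : x₀⁻¹ * x ∈ N then (⟨x₀⁻¹ * x, h⟩ : N) else 1) ?_ ?_)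
      (IsCyclic.card_pow_eq_one_le (α := N) (n := 2) (by norm_num))
    · intro x hx
      simp only [hA, Finset.coe_filter, Finset.mem_filter, Finset.mem_univ, true_and, Set.mem_setOf_eq] at hx ⊢
      rw [dif_pos (QuotientGroup.eq.mp (hx₀.2.trans hx.2.symm))]
      refine Subtype.ext ?_
      simp only [SubmonoidClass.coe_pow, mul_pow, inv_pow, hx₀.1, hx.1, inv_one, mul_one, OneMemClass.coe_one]
    · intro x hx y hy hxy
      simp only [hA, Finset.coe_filter, Finset.mem_filter, Finset.mem_univ, true_and, Set.mem_setOf_eq] at hx hy hxy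
      rw [dif_pos (QuotientGroup.eq.mp (hx₀.2.trans hx.2.symm)),
        dif_pos (QuotientGroup.eq.mp (hx₀.2.trans hy.2.symm))] at hxy
      exact mul_left_cancel (congrArg Subtype.val hxy)
  calc A.card ≤ 2 * B.card := Finset.card_le_mul_card_image_of_maps_to
        (f := fun x : S => (x : S ⧸ N)) (fun x hx => by
          simp only [hA, hB, Finset.mem_filter, Finset.mem_univ, true_and] at hx ⊢
          rw [← QuotientGroup.mk_pow, hx, QuotientGroup.mk_one]) 2 hfib
    _ ≤ 4 := by omega

universe u

theorem ext_solvable {G : Type u} [Group G] (N : Subgroup G) [N.Normal] [Group.IsSolvable N]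
    [Group.IsSolvable (G ⧸ N)] : Group.IsSolvable G :=
  Group.isSolvable_of_ker_le_range N.subtype (QuotientGroup.mk' N) (by simp)

/-- Groups with a normal 2-complement are soluble. -/
theorem solvable_of_complement
    (hodd : ∀ (H : Type u) [Group H] [Finite H], Odd (Nat.card H) → Group.IsSolvable H)
    {G : Type u} [Group G] [Finite G] (h : Cfsg.HasNormalPComplement 2 G) :
    Group.IsSolvable G := by
  haveI : Fact (Nat.Prime 2) := ⟨Nat.prime_two⟩
  obtain ⟨P, N, hN, hc⟩ := h
  haveI := hN
  haveI : Group.IsSolvable N := hodd _ (by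
    have h1 := P.not_dvd_index
    rw [hc.index_eq_card] at h1
    exact Nat.odd_iff.mpr (by omega))
  haveI : Group.IsSolvable (G ⧸ N) := by
    haveI : Group.IsNilpotent (G ⧸ N) := (IsPGroup.of_surjective P.2
      ((QuotientGroup.mk' N).comp (P : Subgroup G).subtype) (fun q => by
        obtain ⟨g, rfl⟩ := QuotientGroup.mk'_surjective N q
        obtain ⟨⟨⟨n, hn⟩, ⟨s, hs⟩⟩, hns⟩ := hc.2 g
        refine ⟨⟨s, hs⟩, ?_⟩
        rw [← hns]
        show (QuotientGroup.mk' N) s = (QuotientGroup.mk' N) (n * s)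
        rw [map_mul, show (QuotientGroup.mk' N) n = 1 from (QuotientGroup.eq_one_iff n).mpr hn,
          one_mul])).isNilpotent
    infer_instance
  exact ext_solvable N

theorem main
    (hodd : ∀ (H : Type u) [Group H] [Finite H], Odd (Nat.card H) → Group.IsSolvable H)
    {G : Type u} [Group G] [Finite G] (S : Sylow 2 G) (N : Subgroup ↥(S : Subgroup G)) [N.Normal]
    (hNc : IsCyclic N) (hQc : IsCyclic (↥(S : Subgroup G) ⧸ N))
    (hQ : 2 < Nat.card (↥(S : Subgroup G) ⧸ N)) : Group.IsSolvable G := by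
  haveI : Fact (Nat.Prime 2) := ⟨Nat.prime_two⟩
  by_cases hScyc : IsCyclic (S : Subgroup G)
  · refine solvable_of_complement hodd ?_
    have hne : 2 ∣ Nat.card G := by
      have h1 : Nat.card (↥(S : Subgroup G) ⧸ N) ∣ Nat.card ↥(S : Subgroup G) :=
        N.card_quotient_dvd_card
      obtain ⟨k, hk⟩ := IsPGroup.iff_card.mp S.2
      have hk0 : k ≠ 0 := by
        rintro rfl
        rw [hk, pow_zero, Nat.dvd_one] at h1
        omega
      exact ((dvd_pow_self 2 hk0).trans (dvd_of_eq hk.symm)).trans (card_subgroup_dvd_card _)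
    have hNC := IsCyclic.normalizer_le_centralizer (P := S) ((Nat.minFac_eq_two_iff _).2 hne) hScyc
    exact ⟨S, _, inferInstance, MonoidHom.ker_transferSylow_isComplement' S hNC⟩
  have hm : Cfsg.IsMetacyclic ↥(S : Subgroup G) := ⟨N, inferInstance, hNc, hQc⟩
  by_cases hh : ∃ n k : ℕ, Nonempty (↥(S : Subgroup G) ≃* Multiplicative (Fin k → ZMod (2 ^ n)))
  · obtain ⟨n, k, ⟨e⟩⟩ := hh
    letI : CommGroup ↥(S : Subgroup G) :=
      { (inferInstance : Group ↥(S : Subgroup G)) with
        mul_comm := fun a b => e.injective (by rw [map_mul, map_mul, mul_comm]) }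
    have hn : 2 ≤ n := by
      by_contra hlt
      have hsq : ∀ x : ↥(S : Subgroup G), x ^ 2 = 1 := fun x => e.injective (by
        rw [map_pow, map_one]
        refine Multiplicative.toAdd.injective (funext fun i => ?_)
        rw [toAdd_pow, toAdd_one, Pi.smul_apply, Pi.zero_apply, nsmul_eq_mul]
        have h0 : ((2 : ℕ) : ZMod (2 ^ n)) = 0 := by
          rw [CharP.cast_eq_zero_iff (ZMod (2 ^ n)) (2 ^ n)]
          interval_cases n <;> norm_num
        rw [h0, zero_mul])
      have := card_le_two_of_gen hQc Set.univ closure_univ fun q _ => by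
        obtain ⟨x, rfl⟩ := QuotientGroup.mk_surjective q
        rw [← QuotientGroup.mk_pow, hsq, QuotientGroup.mk_one]
      omega
    have hk2 : k = 2 := by
      have hk4 : k ≤ 2 := by
        have h2 : 2 ^ k ≤ Nat.card {x : ↥(S : Subgroup G) // x ^ 2 = 1} := by
          have hhalf : ((2 ^ (n - 1) : ℕ) : ZMod (2 ^ n)) + ((2 ^ (n - 1) : ℕ) : ZMod (2 ^ n)) = 0 := by
            rw [← Nat.cast_add, ← two_mul, ← pow_succ', show n - 1 + 1 = n by omega, ZMod.natCast_self]
          have hne : ((2 ^ (n - 1) : ℕ) : ZMod (2 ^ n)) ≠ 0 := by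
            rw [Ne, CharP.cast_eq_zero_iff (ZMod (2 ^ n)) (2 ^ n)]
            intro hd
            have h1 := Nat.le_of_dvd (by positivity) hd
            have h2 : 2 ^ (n - 1) < 2 ^ n := Nat.pow_lt_pow_right (by norm_num) (by omega)
            omega
          refine le_trans (le_of_eq ?_) (Nat.card_le_card_of_injective
            (fun b : Fin k → Bool => (⟨e.symm (Multiplicative.ofAdd fun i =>
              if b i then ((2 ^ (n - 1) : ℕ) : ZMod (2 ^ n)) else 0), ?_⟩ :
                {x : ↥(S : Subgroup G) // x ^ 2 = 1})) ?_)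
          · simp
          · rw [← map_pow, ← ofAdd_nsmul]
            refine (congrArg e.symm ?_).trans (map_one _)
            rw [← ofAdd_zero]
            congr 1
            funext i
            simp only [Pi.smul_apply, Pi.zero_apply, two_nsmul]
            split_ifs
            · exact hhalf
            · exact add_zero 0
          · intro b c hbc
            have h := Multiplicative.ofAdd.injective (e.symm.injective (congrArg Subtype.val hbc))
            funext i
            have hi := congrFun h i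
            cases hb : b i <;> cases hc : c i <;> simp [hb, hc] at hi ⊢ <;> first | exact hne (by push_cast; exact hi) | exact hne (by push_cast; exact hi.symm)
        have := h2.trans (card_sq_one_le N hNc hQc)
        by_contra hk3
        have : 2 ^ 3 ≤ 2 ^ k := Nat.pow_le_pow_right (by norm_num) (by omega)
        omega
      rcases k with - | - | - | k
      · exact absurd (isCyclic_of_surjective e.symm.toMonoidHom e.symm.surjective) hScyc
      · haveI : IsCyclic (Multiplicative (ZMod (2 ^ n))) := inferInstance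
        haveI : Unique (Fin (0 + 1)) := inferInstanceAs (Unique (Fin 1))
        refine absurd (isCyclic_of_surjective
          ((e.trans (AddEquiv.toMultiplicative (AddEquiv.piUnique fun _ : Fin (0 + 1) => ZMod (2 ^ n)))).symm.toMonoidHom)
          (MulEquiv.surjective _)) hScyc
      · rfl
      · omega
    subst hk2
    haveI := H1.pPrimeCore_normal' 2 G
    set O := Cfsg.pPrimeCore 2 G with hO
    haveI : Group.IsSolvable O :=
      hodd _ (Nat.coprime_two_right.mp (H1.card_pPrimeCore_coprime 2 G))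
    set π := QuotientGroup.mk' O with hπ
    have hπs : Function.Surjective π := QuotientGroup.mk'_surjective O
    have hinj : Function.Injective (π.subgroupMap (S : Subgroup G)) := by
      refine (injective_iff_map_eq_one _).mpr fun x hx => ?_
      have h1 : (x : G) ∈ O := (QuotientGroup.eq_one_iff _).mp (congrArg Subtype.val hx)
      obtain ⟨j, hj⟩ := S.2 x
      refine orderOf_eq_one_iff.mp (Nat.eq_one_of_dvd_coprimes
        ((H1.card_pPrimeCore_coprime 2 G).symm.pow_left j) (orderOf_dvd_of_pow_eq_one hj) ?_)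
      rw [← Subgroup.orderOf_coe]
      exact orderOf_dvd_natCard _ h1 |>.trans dvd_rfl
    set e₁ : ↥(S : Subgroup G) ≃* ↥(S.mapSurjective hπs : Subgroup (G ⧸ O)) :=
      (MulEquiv.ofBijective _ ⟨hinj, π.subgroupMap_surjective _⟩).trans
        (MulEquiv.subgroupCongr (Sylow.coe_mapSurjective hπs S).symm) with he₁
    obtain ⟨hnorm, -, hidx⟩ := Cfsg.Agent.S0949.result (S.mapSurjective hπs) n hn
      (e₁.symm.trans (e.trans (AddEquiv.toMultiplicative
        (RingEquiv.piFinTwo fun _ => ZMod (2 ^ n)).toAddEquiv))) (fun M hM hMo => by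
          have h1 : M ≤ Cfsg.pPrimeCore 2 (G ⧸ O) :=
            haveI := hM
            H1.le_pPrimeCore (Nat.coprime_two_right.mpr hMo)
          rw [H1.pPrimeCore_quotient_pPrimeCore] at h1
          exact le_bot_iff.mp h1)
    haveI : ((S.mapSurjective hπs : Subgroup (G ⧸ O))).Normal := hnorm
    haveI : Group.IsNilpotent ↥(S.mapSurjective hπs : Subgroup (G ⧸ O)) :=
      (S.mapSurjective hπs).2.isNilpotent
    haveI : Group.IsSolvable ((G ⧸ O) ⧸ (S.mapSurjective hπs : Subgroup (G ⧸ O))) := hodd _ (by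
      rw [← index_eq_card]
      rcases hidx with h | h <;> rw [h] <;> decide)
    haveI : Group.IsSolvable (G ⧸ O) :=
      ext_solvable (S.mapSurjective hπs : Subgroup (G ⧸ O))
    exact ext_solvable O
  have h4 : ∀ m : ℕ, (↥(S : Subgroup G) ≃* QuaternionGroup m) → Even m := by
    intro m eq
    obtain ⟨j, hj⟩ := IsPGroup.iff_card.mp S.2
    rw [Nat.card_congr eq.toEquiv] at hj
    rcases Nat.eq_zero_or_pos m with rfl | hm0
    · exact ⟨0, rfl⟩
    haveI : NeZero m := ⟨hm0.ne'⟩
    rw [Nat.card_eq_fintype_card, QuaternionGroup.card] at hj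
    by_contra hodd'
    rw [Nat.not_even_iff_odd] at hodd'
    have h5 : m ∣ 2 ^ j := ⟨4, by omega⟩
    obtain ⟨i, -, rfl⟩ := (Nat.dvd_prime_pow Nat.prime_two).mp h5
    rcases i with - | i
    · apply hScyc
      rw [pow_zero] at eq
      haveI := QuaternionGroup.quaternionGroup_one_isCyclic
      exact isCyclic_of_surjective eq.symm.toMonoidHom eq.symm.surjective
    · exact absurd hodd' (by simp [parity_simps, pow_succ])
  have hinner := Cfsg.Agent.S5212.result S.2 (Cfsg.groupFusionSystem (S : Subgroup G))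
    (H85.isSaturated_groupFusionSystem S) hm hh
    (fun ⟨m, ⟨ed⟩⟩ => by have := quot_dihedral ed N hQc; omega)
    (fun ⟨m, ⟨eq⟩⟩ => by have := quot_quaternion (h4 m eq) eq N hQc; omega)
    (fun hsd => by have := quot_quasiDihedral hsd N hQc; omega)
  refine solvable_of_complement hodd (H5.hasNormalPComplement_of_fusion S fun x hx g hg => ?_)
  have hmem : ((MulAut.conj g).toMonoidHom.comp (zpowers x).subtype) ∈
      (Cfsg.groupFusionSystem (S : Subgroup G)).Hom (zpowers x) := by
    refine ⟨zpowers_le.mpr hx, fun y => ?_, g, fun _ => rfl⟩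
    obtain ⟨i, hi⟩ := mem_zpowers_iff.mp y.2
    show g * (y : G) * g⁻¹ ∈ (S : Subgroup G)
    rw [← hi, ← conj_zpow]
    exact zpow_mem hg i
  rw [hinner] at hmem
  obtain ⟨-, s, hs, hsx⟩ := hmem
  exact ⟨s, hs, (hsx ⟨x, mem_zpowers x⟩).symm⟩

end H4.MetaSolv
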