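import Cfsg.Agent.H4.NilpotentHall
import Cfsg.Agent.H1.Cores

/-!
Sylow subgroups of the group inside a nilpotent subgroup.
-/

set_option autoImplicit false

namespace H4

open Subgroup
open scoped Pointwise

variable {G : Type*} [Group G] [Finite G]

/-- Sylow subgroups contained in a nilpotent subgroup are normal in it. -/
theorem le_normalizer_of_sylow_le {A : Subgroup G} (hA : Group.IsNilpotent A) {p : ℕ}
    [Fact p.Prime] (P : Sylow p G) (hP : (P : Subgroup G) ≤ A) :
    A ≤ normalizer ((P : Subgroup G) : Set G) := by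
  haveI := hA
  have h : ((P.subtype hP : Sylow p A) : Subgroup A).Normal :=
    Sylow.normal_of_normalizerCondition Group.normalizerCondition_of_isNilpotent _
  exact (Subgroup.normal_subgroupOf_iff_le_normalizer hP).mp h

theorem le_sylow_of_normalized {p : ℕ} [Fact p.Prime] (P : Sylow p G) {V : Subgroup G}
    (hV : IsPGroup p V) (hPV : (P : Subgroup G) ≤ normalizer (V : Set G)) :
    V ≤ (P : Subgroup G) := by
  have h := P.3 (IsPGroup.to_sup_of_normal_right' P.2 hV hPV) le_sup_left
  exact h ▸ le_sup_right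

theorem le_sylow_of_normalizes {p : ℕ} [Fact p.Prime] (P : Sylow p G) {V : Subgroup G}
    (hV : IsPGroup p V) (hVP : V ≤ normalizer ((P : Subgroup G) : Set G)) :
    V ≤ (P : Subgroup G) := by
  have h := P.3 (IsPGroup.to_sup_of_normal_left' P.2 hV hVP) le_sup_left
  exact h ▸ le_sup_right

/-- A `p`-subgroup of a nilpotent subgroup lies in any Sylow subgroup contained in it. -/
theorem pGroup_le_sylow_of_nilpotent {A : Subgroup G} (hA : Group.IsNilpotent A) {p : ℕ}
    [Fact p.Prime] (P : Sylow p G) (hP : (P : Subgroup G) ≤ A) {V : Subgroup G}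
    (hV : IsPGroup p V) (hVA : V ≤ A) : V ≤ (P : Subgroup G) :=
  le_sylow_of_normalizes P hV (hVA.trans (le_normalizer_of_sylow_le hA P hP))

theorem sylow_eq_of_nilpotent {A : Subgroup G} (hA : Group.IsNilpotent A) {p : ℕ}
    [Fact p.Prime] (P Q : Sylow p G) (hP : (P : Subgroup G) ≤ A) (hQ : (Q : Subgroup G) ≤ A) :
    (Q : Subgroup G) = P :=
  (Q.3 P.2 (pGroup_le_sylow_of_nilpotent hA P hP Q.2 hQ)).symm

/-- Subgroups of prime power order of distinct primes of a nilpotent subgroup commute. -/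
theorem le_centralizer_of_nilpotent {A : Subgroup G} (hA : Group.IsNilpotent A) {p r : ℕ}
    [Fact p.Prime] [hr : Fact r.Prime] (hne : r ≠ p) {V W : Subgroup G} (hV : IsPGroup p V)
    (hW : IsPGroup r W) (hVA : V ≤ A) (hWA : W ≤ A) : W ≤ centralizer (V : Set G) := by
  intro x hx
  rw [Subgroup.mem_centralizer_iff]
  intro y hy
  refine commute_of_mem_nilpotent hA (hVA hy) (hWA hx) (exists_orderOf_eq_pow hV hy) ?_
  obtain ⟨k, hk⟩ := exists_orderOf_eq_pow hW hx
  rw [hk]
  intro hd
  exact hne ((Nat.prime_dvd_prime_iff_eq Fact.out hr.out).mp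
    ((Fact.out : p.Prime).dvd_of_dvd_pow hd)).symm

theorem isPGroup_zpowers {p k : ℕ} [Fact p.Prime] {x : G} (hx : orderOf x = p ^ k) :
    IsPGroup p (zpowers x) :=
  IsPGroup.of_card (n := k) (by rw [Nat.card_zpowers, hx])

/-- A subgroup containing a Sylow subgroup of `G` inside `A` for every prime contains `A`. -/
theorem le_of_forall_sylow {A H : Subgroup G} (hA : (Nat.card A).Coprime A.index)
    (h : ∀ p : ℕ, ∀ [Fact p.Prime], p ∣ Nat.card A →
      ∃ P : Sylow p G, (P : Subgroup G) ≤ A ∧ (P : Subgroup G) ≤ H) : A ≤ H := by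
  rw [← Subgroup.relIndex_eq_one, Nat.eq_one_iff_not_exists_prime_dvd]
  intro p hp hd
  haveI := Fact.mk hp
  obtain ⟨P, hPA, hPH⟩ := h p (hd.trans (Subgroup.relIndex_dvd_card H A))
  refine P.not_dvd_index ?_
  refine (hd.trans (Subgroup.relIndex_dvd_of_le_left A hPH)).trans ?_
  exact Subgroup.relIndex_dvd_index_of_le hPA

/-- In a nilpotent Hall subgroup there is a central element of every prime order. -/
theorem exists_central_orderOf {A : Subgroup G} (hA : Group.IsNilpotent A)
    (hHall : (Nat.card A).Coprime A.index) {p : ℕ} [Fact p.Prime] (hp : p ∣ Nat.card A) :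
    ∃ z ∈ A, orderOf z = p ∧ A ≤ centralizer ({z} : Set G) := by
  obtain ⟨P, hP⟩ := exists_sylow_le_of_hall hHall hp
  have hne : Nontrivial (P : Subgroup G) :=
    (Subgroup.nontrivial_iff_ne_bot _).mpr (P.ne_bot_of_dvd_card
      (hp.trans (Subgroup.card_subgroup_dvd_card A)))
  haveI := hne
  haveI : Nontrivial (Subgroup.center (P : Subgroup G)) := P.2.center_nontrivial
  obtain ⟨k, hk⟩ := IsPGroup.iff_card.mp (P.2.to_subgroup (Subgroup.center (P : Subgroup G)))
  have hk0 : k ≠ 0 := by
    intro h0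
    rw [h0, pow_zero] at hk
    exact (Finite.one_lt_card (α := Subgroup.center (P : Subgroup G))).ne' hk
  obtain ⟨u, hu⟩ := exists_prime_orderOf_dvd_card'
    (G := Subgroup.center (P : Subgroup G)) p (hk ▸ dvd_pow_self p hk0)
  rw [← Subgroup.orderOf_coe, ← Subgroup.orderOf_coe] at hu
  set z : G := ((u : (P : Subgroup G)) : G) with hz
  refine ⟨z, hP (u : (P : Subgroup G)).2, hu, le_of_forall_sylow hHall fun r _ hr => ?_⟩
  obtain ⟨R, hR⟩ := exists_sylow_le_of_hall hHall hr
  refine ⟨R, hR, fun x hx => Subgroup.mem_centralizer_iff.mpr ?_⟩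
  rintro y rfl
  by_cases hrp : r = p
  · subst hrp
    have hxP : x ∈ (P : Subgroup G) := (sylow_eq_of_nilpotent hA P R hP hR).le hx
    exact (congrArg Subtype.val (Subgroup.mem_center_iff.mp u.2 ⟨x, hxP⟩)).symm
  · exact Subgroup.mem_centralizer_iff.mp
      (le_centralizer_of_nilpotent hA hrp P.2 R.2 hP hR hx) z (u : (P : Subgroup G)).2

/-- A subgroup normalizing a Hall subgroup, of order prime to its index, lies in it. -/
theorem le_of_le_normalizer_of_coprime {A U : Subgroup G} (hA : (Nat.card A).Coprime A.index)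
    (hU : (Nat.card U).Coprime A.index) (hUA : U ≤ normalizer (A : Set G)) : U ≤ A := by
  set N := normalizer (A : Set G) with hN
  haveI : (A.subgroupOf N).Normal := Subgroup.normal_in_normalizer
  have hcA : Nat.card (A.subgroupOf N) = Nat.card A :=
    Nat.card_congr (Subgroup.subgroupOfEquivOfLe le_normalizer).toEquiv
  have hcU : Nat.card (U.subgroupOf N) = Nat.card U :=
    Nat.card_congr (Subgroup.subgroupOfEquivOfLe hUA).toEquiv
  have h1 : Nat.card ↥(U.subgroupOf N ⊔ A.subgroupOf N) ∣ Nat.card U * Nat.card A := by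
    rw [← hcA, ← hcU]; exact H1.card_sup_dvd_mul _ _
  have h2 : Nat.card ↥(U.subgroupOf N ⊔ A.subgroupOf N) ∣ Nat.card A * A.index := by
    rw [A.card_mul_index]
    exact (Subgroup.card_subgroup_dvd_card _).trans (Subgroup.card_subgroup_dvd_card _)
  have h3 : (Nat.card ↥(U.subgroupOf N ⊔ A.subgroupOf N)).Coprime A.index :=
    Nat.Coprime.coprime_dvd_left h1 (hU.mul_left hA)
  have h4 : A.subgroupOf N = U.subgroupOf N ⊔ A.subgroupOf N :=
    Subgroup.eq_of_le_of_card_ge le_sup_right
      (Nat.le_of_dvd Nat.card_pos (hcA ▸ h3.dvd_of_dvd_mul_right h2))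
  intro x hx
  exact (h4 ▸ Subgroup.mem_sup_left (Subgroup.mem_subgroupOf.mpr hx) :
    (⟨x, hUA hx⟩ : N) ∈ A.subgroupOf N)

/-- A `p`-subgroup whose normaliser grows no further inside `U` is a Sylow subgroup. -/
theorem exists_sylow_eq_of_normalizer_le {p : ℕ} [Fact p.Prime] {W U : Subgroup G}
    (hW : IsPGroup p W) (hU : normalizer (W : Set G) ≤ U)
    (hmax : ∀ V : Subgroup G, IsPGroup p V → W ≤ V → V ≤ U → V = W) :
    ∃ S : Sylow p G, (S : Subgroup G) = W := by
  obtain ⟨S, hS⟩ := hW.exists_le_sylow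
  refine ⟨S, ?_⟩
  by_contra hne
  haveI : Group.IsNilpotent (S : Subgroup G) := S.2.isNilpotent
  have hlt : W.subgroupOf (S : Subgroup G) < ⊤ :=
    lt_top_iff_ne_top.mpr fun h => hne (le_antisymm (Subgroup.subgroupOf_eq_top.mp h) hS)
  obtain ⟨s, hs, hsW⟩ :=
    SetLike.exists_of_lt (Group.normalizerCondition_of_isNilpotent _ hlt)
  have hsn : (s : G) ∈ normalizer (W : Set G) := by
    have h := congrArg (Subgroup.map (S : Subgroup G).subtype)
      (conj_smul_eq_of_mem_normalizer hs)
    have hmap : (MulAut.conj s • W.subgroupOf (S : Subgroup G)).map (S : Subgroup G).subtype =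
        MulAut.conj (s : G) • (W.subgroupOf (S : Subgroup G)).map (S : Subgroup G).subtype := by
      show ((W.subgroupOf (S : Subgroup G)).map (MulAut.conj s).toMonoidHom).map _ =
        ((W.subgroupOf (S : Subgroup G)).map _).map (MulAut.conj (s : G)).toMonoidHom
      rw [Subgroup.map_map, Subgroup.map_map]; rfl
    rw [hmap, Subgroup.map_subgroupOf_eq_of_le hS] at h
    exact mem_normalizer_of_conj_smul_eq h
  have hVS : W ⊔ zpowers (s : G) ≤ (S : Subgroup G) := sup_le hS (Subgroup.zpowers_le.mpr s.2)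
  have := hmax (W ⊔ zpowers (s : G)) (S.2.to_le hVS) le_sup_left
    (sup_le (le_normalizer.trans hU) (Subgroup.zpowers_le.mpr (hU hsn)))
  exact hsW (Subgroup.mem_subgroupOf.mpr (this.le (Subgroup.mem_sup_right (mem_zpowers _))))

end H4
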