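import Cfsg.Agent.H16.FTEnd
import Cfsg.Agent.H10.PF14.Main

/-! The odd order theorem in the form the deductions of `H4` take as a hypothesis. -/

set_option autoImplicit false

universe u

namespace H4.OddUse

theorem odd_solvable : ∀ (H : Type u) [Group H] [Finite H],
    Odd (Nat.card H) → Group.IsSolvable H := fun H _ _ h =>
  H16.FT.oddOrder_of_shape44 (fun K _ _ hK => by
    haveI := Fintype.ofFinite K
    exact H10.PF14.shape1544 hK) h

end H4.OddUse
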