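import Cfsg.Agent.CompLayer

set_option autoImplicit false

/-!
Conjugacy of cyclic 2-subgroups of equal order leaves room for one component (helper4), given that
groups of odd order are solvable.
-/

namespace H4

namespace OneComp

open Cfsg.Comp

universe u

variable {G : Type u} [Group G]

/-- The element commutes with every component. -/
def CentE (x : G) : Prop := ∀ K : Subgroup G, Cfsg.IsComponent K → ∀ y ∈ K, x * y = y * x

theorem CentE.mul {x y : G} (hx : CentE x) (hy : CentE y) : CentE (x * y) := fun K hK a ha =>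
  (Commute.mul_left (show Commute x a from hx K hK a ha) (show Commute y a from hy K hK a ha)).eq

theorem CentE.inv {x : G} (hx : CentE x) : CentE x⁻¹ := fun K hK a ha =>
  ((show Commute x a from hx K hK a ha).inv_left).eq

theorem CentE.pow {x : G} (hx : CentE x) (n : ℕ) : CentE (x ^ n) := fun K hK a ha =>
  ((show Commute x a from hx K hK a ha).pow_left n).eq

theorem CentE.zpow {x : G} (hx : CentE x) (n : ℤ) : CentE (x ^ n) := fun K hK a ha =>
  ((show Commute x a from hx K hK a ha).zpow_left n).eq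

theorem CentE.conj {x : G} (hx : CentE x) (g : G) : CentE (g * x * g⁻¹) := by
  intro K hK a ha
  have h := hx _ (isComponent_conj hK g⁻¹) (g⁻¹ * a * g) ⟨a, ha, by simp⟩
  calc g * x * g⁻¹ * a = g * (x * (g⁻¹ * a * g)) * g⁻¹ := by group
    _ = g * (g⁻¹ * a * g * x) * g⁻¹ := by rw [h]
    _ = a * (g * x * g⁻¹) := by group

theorem center_solvable {X : Type*} [Group X] : Group.IsSolvable (Subgroup.center X) := by
  apply isSolvable_of_comm
  intro a b
  exact Subtype.ext (Subgroup.mem_center_iff.mp b.2 a)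

variable [Finite G]

theorem centE_of_central {L : Subgroup G} (hL : Cfsg.IsComponent L) {x : G} (hx : x ∈ L)
    (h : ∀ y ∈ L, x * y = y * x) : CentE x := by
  intro K hK a ha
  rcases component_eq_or_commute hL hK with e | e
  · exact h a (e ▸ ha)
  · exact Subgroup.mem_centralizer_iff.mp
      (Subgroup.commutator_eq_bot_iff_le_centralizer.mp e hx) a ha |>.symm

/-- Every component has a 2-element outside its centre. -/
theorem exists_two_elt
    (hodd : ∀ (H : Type u) [Group H] [Finite H], Odd (Nat.card H) → Group.IsSolvable H)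
    {L : Subgroup G} (hL : Cfsg.IsComponent L) :
    ∃ x ∈ L, ¬ CentE x ∧ ∃ k : ℕ, orderOf x = 2 ^ k := by
  haveI : Fact (Nat.Prime 2) := ⟨Nat.prime_two⟩
  by_contra hcon
  let S : Sylow 2 L := default
  have hS : (S : Subgroup L) ≤ Subgroup.center L := by
    intro x hx
    obtain ⟨k, hk⟩ := IsPGroup.iff_orderOf.mp S.2 ⟨x, hx⟩
    rw [Subgroup.mem_center_iff]
    intro y
    have hc : CentE (x : G) := by
      by_contra hne
      exact hcon ⟨x, x.2, hne, k, by rw [Subgroup.orderOf_coe, ← hk, ← Subgroup.orderOf_coe ⟨x, hx⟩]⟩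
    exact Subtype.ext (hc L hL y y.2).symm
  have hodd' : Odd (Nat.card (L ⧸ Subgroup.center L)) := by
    rw [Nat.odd_iff, ← Nat.two_dvd_ne_zero]
    intro h2
    exact S.not_dvd_index (h2.trans (Subgroup.index_dvd_of_le hS))
  haveI := hodd _ hodd'
  haveI := center_solvable (X := L)
  exact isComponent_not_isSolvable hL (Group.isSolvable_of_ker_le_range (Subgroup.center L).subtype
    (QuotientGroup.mk' (Subgroup.center L)) (by rw [QuotientGroup.ker_mk', Subgroup.range_subtype]))

theorem unique_component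
    (hodd : ∀ (H : Type u) [Group H] [Finite H], Odd (Nat.card H) → Group.IsSolvable H)
    (hP : ∀ (p : ℕ), p.Prime → ∀ A B : Subgroup G, IsCyclic ↥A → IsCyclic ↥B → IsPGroup p ↥A →
      Nat.card ↥A = Nat.card ↥B → ∃ g : G, B = A.map (MulAut.conj g).toMonoidHom)
    {L₁ L₂ : Subgroup G} (h₁ : Cfsg.IsComponent L₁) (h₂ : Cfsg.IsComponent L₂) : L₁ = L₂ := by
  classical
  by_contra h12
  have hex : ∃ k : ℕ, ∃ L : Subgroup G, Cfsg.IsComponent L ∧
      ∃ x ∈ L, ¬ CentE x ∧ orderOf x = 2 ^ k := by
    obtain ⟨x, hx, hxc, k, hk⟩ := exists_two_elt hodd h₁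
    exact ⟨k, L₁, h₁, x, hx, hxc, hk⟩
  set e := Nat.find hex with he
  obtain ⟨L, hL, x, hxL, hxc, hxe⟩ := Nat.find_spec hex
  rw [← he] at hxe
  obtain ⟨M, hM, hML⟩ : ∃ M : Subgroup G, Cfsg.IsComponent M ∧ M ≠ L := by
    by_cases h : L₁ = L
    · exact ⟨L₂, h₂, fun e' => h12 (h.trans e'.symm)⟩
    · exact ⟨L₁, h₁, h⟩
  -- transfer along conjugacy of cyclic subgroups
  have hconj : ∀ a b : G, ∀ f : ℕ, orderOf a = 2 ^ f → orderOf b = 2 ^ f →
      ∃ g : G, ∃ n : ℤ, b = (g * a * g⁻¹) ^ n := by
    intro a b f ha hb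
    obtain ⟨g, hg⟩ := hP 2 Nat.prime_two (Subgroup.zpowers a) (Subgroup.zpowers b) inferInstance
      inferInstance (IsPGroup.of_card (n := f) (by rw [Nat.card_zpowers, ha]))
      (by rw [Nat.card_zpowers, Nat.card_zpowers, ha, hb])
    obtain ⟨_, ⟨n, rfl⟩, hn⟩ := hg ▸ Subgroup.mem_zpowers b
    exact ⟨g, n, hn.symm.trans (map_zpow (MulAut.conj g).toMonoidHom a n)⟩
  have hcent : ∀ a b : G, ∀ f : ℕ, orderOf a = 2 ^ f → orderOf b = 2 ^ f → CentE a → CentE b := by
    intro a b f ha hb hca
    obtain ⟨g, n, rfl⟩ := hconj a b f ha hb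
    exact (hca.conj g).zpow n
  have hpow : ∀ a : G, ∀ i j : ℕ, orderOf a = 2 ^ (i + j) → orderOf (a ^ 2 ^ j) = 2 ^ i := by
    intro a i j ha
    rw [orderOf_pow_of_dvd (pow_ne_zero _ two_ne_zero) (ha ▸ pow_dvd_pow 2 (by omega)), ha,
      pow_add, Nat.mul_div_cancel _ (by positivity)]
  -- smaller 2-elements of a component are central
  have hsmall : ∀ (K : Subgroup G), Cfsg.IsComponent K → ∀ a ∈ K, ∀ f : ℕ, f < e →
      orderOf a = 2 ^ f → CentE a := by
    intro K hK a ha f hf hfa
    by_contra hne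
    exact Nat.find_min hex hf ⟨K, hK, a, ha, hne, hfa⟩
  -- a minimal element of the other component has the same order
  obtain ⟨y0, hy0, hy0c, k0, hk0⟩ := exists_two_elt hodd hM
  have hexM : ∃ k : ℕ, ∃ y ∈ M, ¬ CentE y ∧ orderOf y = 2 ^ k := ⟨k0, y0, hy0, hy0c, hk0⟩
  obtain ⟨y, hyM, hyc, hye⟩ := Nat.find_spec hexM
  have hle : e ≤ Nat.find hexM := Nat.find_min' hex ⟨M, hM, y, hyM, hyc, hye⟩
  have hye' : orderOf y = 2 ^ e := by
    rcases hle.lt_or_eq with hlt | heq
    · exfalso
      have hw := hpow y e (Nat.find hexM - e) (by rw [hye]; congr 1; omega)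
      refine hxc (hcent _ x e hw hxe ?_)
      by_contra hne
      exact Nat.find_min hexM hlt ⟨_, M.pow_mem hyM _, hne, hw⟩
    · rw [heq]; exact hye
  have hxy : Commute x y := by
    rcases component_eq_or_commute hL hM with h | h
    · exact absurd h.symm hML
    · exact (Subgroup.mem_centralizer_iff.mp
        (Subgroup.commutator_eq_bot_iff_le_centralizer.mp h hxL) y hyM).symm
  have hdvd : orderOf (x * y) ∣ 2 ^ e := by
    refine (hxy.orderOf_mul_dvd_lcm).trans ?_
    rw [hxe, hye', Nat.lcm_self]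
  obtain ⟨f, hf, hfz⟩ := (Nat.dvd_prime_pow Nat.prime_two).mp hdvd
  have hz : ¬ CentE (x * y) := by
    intro hc
    refine hxc (centE_of_central hL hxL fun a ha => ?_)
    have h1 : Commute (x * y) a := hc L hL a ha
    have h2 : Commute y a := by
      rcases component_eq_or_commute hM hL with h | h
      · exact absurd h hML
      · exact (Subgroup.mem_centralizer_iff.mp
          (Subgroup.commutator_eq_bot_iff_le_centralizer.mp h hyM) a ha).symm
    have h3 : Commute (x * y * y⁻¹) a := h1.mul_left h2.inv_left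
    rwa [mul_inv_cancel_right] at h3
  rcases hf.lt_or_eq with hlt | rfl
  · have hu := hpow x f (e - f) (by rw [hxe]; congr 1; omega)
    exact hz (hcent _ _ f hu hfz (hsmall L hL _ (L.pow_mem hxL _) f hlt hu))
  · obtain ⟨g, n, hgn⟩ := hconj x (x * y) _ hxe hfz
    have hK := isComponent_conj hL g
    have hzK : x * y ∈ L.map (MulAut.conj g).toMonoidHom := by
      rw [hgn]
      exact Subgroup.zpow_mem (L.map (MulAut.conj g).toMonoidHom)
        (Subgroup.mem_map_of_mem (MulAut.conj g).toMonoidHom hxL) n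
    rcases component_eq_or_commute hK hL with h | h
    · rw [h] at hzK
      have hyL : y ∈ L := by simpa using L.mul_mem (L.inv_mem hxL) hzK
      refine hyc (centE_of_central hM hyM fun a ha => ?_)
      rcases component_eq_or_commute hL hM with h' | h'
      · exact absurd h'.symm hML
      · exact (Subgroup.mem_centralizer_iff.mp
          (Subgroup.commutator_eq_bot_iff_le_centralizer.mp h' hyL) a ha).symm
    · refine hxc (centE_of_central hL hxL fun a ha => ?_)
      have h1 : Commute (x * y) a := (Subgroup.mem_centralizer_iff.mp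
        (Subgroup.commutator_eq_bot_iff_le_centralizer.mp h hzK) a ha).symm
      have h2 : Commute y a := by
        rcases component_eq_or_commute hM hL with h' | h'
        · exact absurd h' hML
        · exact (Subgroup.mem_centralizer_iff.mp
            (Subgroup.commutator_eq_bot_iff_le_centralizer.mp h' hyM) a ha).symm
      have h3 : Commute (x * y * y⁻¹) a := h1.mul_left h2.inv_left
      rwa [mul_inv_cancel_right] at h3

/-- The content of the statement on the layer. -/
theorem layer_simple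
    (hodd : ∀ (H : Type u) [Group H] [Finite H], Odd (Nat.card H) → Group.IsSolvable H)
    (hP : ∀ (p : ℕ), p.Prime → ∀ A B : Subgroup G, IsCyclic ↥A → IsCyclic ↥B → IsPGroup p ↥A →
      Nat.card ↥A = Nat.card ↥B → ∃ g : G, B = A.map (MulAut.conj g).toMonoidHom)
    (hE : Cfsg.layer G ≠ ⊥) :
    IsSimpleGroup (↥(Cfsg.layer G) ⧸ Subgroup.center ↥(Cfsg.layer G)) ∧
      ¬ IsMulCommutative (↥(Cfsg.layer G) ⧸ Subgroup.center ↥(Cfsg.layer G)) := by
  obtain ⟨L, hL⟩ : ∃ L : Subgroup G, Cfsg.IsComponent L := by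
    by_contra hcon
    exact hE (le_bot_iff.mp (layer_le_iff.mpr fun L hL => absurd ⟨L, hL⟩ hcon))
  have he : Cfsg.layer G = L :=
    le_antisymm (layer_le_iff.mpr fun K hK => (unique_component hodd hP hK hL).le) (le_layer hL)
  rw [he]
  refine ⟨hL.2.2, fun hc => isComponent_not_isSolvable hL ?_⟩
  haveI := center_solvable (X := L)
  haveI : Group.IsSolvable (L ⧸ Subgroup.center L) := isSolvable_of_comm fun a b => hc.is_comm.comm a b
  exact Group.isSolvable_of_ker_le_range (Subgroup.center L).subtype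
    (QuotientGroup.mk' (Subgroup.center L)) (by rw [QuotientGroup.ker_mk', Subgroup.range_subtype])

end OneComp

end H4
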