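import Cfsg.Agent.H4.ComplementOrderFive
import Cfsg.Agent.H2.FrobeniusKernel
import Cfsg.Agent.S0042

set_option autoImplicit false

/-!
The order type determines being a Frobenius group, and its solvability (helper4).
-/

namespace H4

universe u v w

open scoped Pointwise

theorem sameOrderType_count {F : Type*} {G : Type*} [Group F] [Finite F] [Group G] [Finite G]
    (hT : ∀ m : ℕ, Nat.card {g : F // orderOf g = m} = Nat.card {g : G // orderOf g = m}) :
    ∃ e : F ≃ G, ∀ x : F, orderOf (e x) = orderOf x := by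
  classical
  let eq := fun m => (Finite.card_eq.mp (hT m)).some
  exact ⟨Equiv.ofFiberEquiv eq, fun x => Equiv.ofFiberEquiv_map eq x⟩

/-- Shape of the element orders in a Frobenius group. -/
theorem frobenius_order_facts {F : Type*} [Group F] [Finite F] {H : Subgroup F}
    (hH : Cfsg.IsFrobeniusComplement H) :
    (∀ g : F, orderOf g ∣ H.index ∨ orderOf g ∣ Nat.card H) ∧
    (∀ p a : ℕ, p.Prime → p ^ a ∣ H.index → ¬ p ^ (a + 1) ∣ H.index →
      Nat.card {g : F // orderOf g ∣ p ^ a} = p ^ a) := by
  classical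
  obtain ⟨N, hNc, hNn, hc⟩ := H2.exists_kernel hH
  haveI := hNn
  have hcard : Nat.card N = H.index := hc.index_eq_card.symm
  have hcop := H2.coprime_card_index hH
  refine ⟨fun g => ?_, fun p a hp ha ha1 => ?_⟩
  · by_cases hg : g ∈ N
    · exact Or.inl (hcard ▸ Subgroup.orderOf_dvd_natCard N hg)
    · have hg' : g ∉ Cfsg.frobeniusKernel H := fun h => hg (by
        rw [← SetLike.mem_coe, hNc]; exact h)
      simp only [Cfsg.frobeniusKernel, Set.mem_ofPred_eq, not_or, not_forall, not_not] at hg'
      obtain ⟨-, x, hx⟩ := hg'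
      rw [H2.mem_conj_smul] at hx
      right
      have e : orderOf (x⁻¹ * g * x) = orderOf g := by
        rw [show x⁻¹ * g * x = MulAut.conj x⁻¹ g by simp, MulEquiv.orderOf_eq]
      exact e ▸ Subgroup.orderOf_dvd_natCard H hx
  haveI : Fact p.Prime := ⟨hp⟩
  obtain ⟨N', hN'c, hN'n, hnil⟩ := Cfsg.Agent.S0042.result H hH
  obtain rfl : N' = N := SetLike.coe_injective (hN'c.trans hNc.symm)
  let P : Sylow p N' := default
  haveI : (P : Subgroup N').Normal :=
    (Group.isNilpotent_of_finite_tfae.out 0 3 rfl rfl).mp hnil p inferInstance P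
  have hP : Nat.card (P : Subgroup N') = p ^ a := by
    rw [P.card_eq_multiplicity, hcard]
    congr 1
    have h0 : H.index ≠ 0 := Subgroup.index_ne_zero_of_finite
    refine le_antisymm ?_ ((hp.pow_dvd_iff_le_factorization h0).mp ha)
    by_contra hlt
    exact ha1 ((hp.pow_dvd_iff_le_factorization h0).mpr (by omega))
  have hmem : ∀ g : F, orderOf g ∣ p ^ a → g ∈ N' := by
    intro g hg
    have h1 : orderOf (QuotientGroup.mk' N' g) ∣ H.index :=
      ((orderOf_map_dvd _ g).trans hg).trans ha
    have h2 : orderOf (QuotientGroup.mk' N' g) ∣ Nat.card H := by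
      rw [← hc.symm.index_eq_card]
      exact orderOf_dvd_natCard _
    exact (QuotientGroup.eq_one_iff g).mp
      (orderOf_eq_one_iff.mp (Nat.eq_one_of_dvd_coprimes hcop h2 h1))
  refine Eq.trans (Nat.card_congr (β := (P : Subgroup N'))
    { toFun := fun g => ⟨⟨g.1, hmem g.1 g.2⟩, ?_⟩
      invFun := fun x => ⟨((x : N') : F), ?_⟩
      left_inv := fun g => rfl
      right_inv := fun x => rfl }) hP
  · have hpg : IsPGroup p (Subgroup.zpowers (⟨g.1, hmem g.1 g.2⟩ : N')) := by
      obtain ⟨j, -, hj⟩ := (Nat.dvd_prime_pow hp).mp g.2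
      refine IsPGroup.of_card (n := j) ?_
      rw [Nat.card_zpowers, ← hj, ← Subgroup.orderOf_coe]
    obtain ⟨Q, hQ⟩ := hpg.exists_le_sylow
    haveI := Sylow.unique_of_normal P inferInstance
    obtain rfl : Q = P := Subsingleton.elim _ _
    exact hQ (Subgroup.mem_zpowers _)
  · rw [Subgroup.orderOf_coe, ← hP]
    exact Subgroup.orderOf_dvd_natCard _ x.2

theorem card_sup_dvd_mul {G : Type*} [Group G] [Finite G] (A B : Subgroup G) [B.Normal] :
    Nat.card (A ⊔ B : Subgroup G) ∣ Nat.card A * Nat.card B := by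
  rw [← (B.subgroupOf (A ⊔ B)).card_mul_index,
    Nat.card_congr (Subgroup.subgroupOfEquivOfLe (le_sup_right : B ≤ A ⊔ B)).toEquiv, mul_comm]
  refine mul_dvd_mul_right ?_ _
  show B.relIndex (A ⊔ B) ∣ _
  rw [Subgroup.relIndex_sup_right]
  exact Subgroup.index_dvd_card _

/-- Transfer of the Frobenius structure along an order-preserving bijection. -/
theorem frobenius_of_orderType {F G : Type*} [Group F] [Finite F] [Group G] [Finite G]
    {H : Subgroup F} (hH : Cfsg.IsFrobeniusComplement H)
    (e : F ≃ G) (he : ∀ x : F, orderOf (e x) = orderOf x) :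
    ∃ (M C : Subgroup G) (_ : M.Normal), Group.IsNilpotent M ∧ Subgroup.IsComplement' M C ∧
      Cfsg.IsFrobeniusComplement C ∧ Nat.card M = H.index ∧ Nat.card C = Nat.card H := by
  classical
  obtain ⟨hmix, hpow⟩ := frobenius_order_facts hH
  have hcop := H2.coprime_card_index hH
  set k := H.index with hk
  have hk0 : k ≠ 0 := Subgroup.index_ne_zero_of_finite
  have hcardG : Nat.card G = k * Nat.card H := by
    rw [← Nat.card_congr e, ← H.card_mul_index, mul_comm]
  have hmixG : ∀ g : G, orderOf g ∣ k ∨ orderOf g ∣ Nat.card H := fun g => by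
    have := hmix (e.symm g)
    rwa [← he, e.apply_symm_apply] at this
  have hsyl : ∀ p ∈ k.primeFactors, ∃ P : Subgroup G, P.Normal ∧
      Nat.card P = p ^ k.factorization p := by
    intro p hp
    obtain ⟨hpp, hpk, -⟩ := Nat.mem_primeFactors.mp hp
    haveI : Fact p.Prime := ⟨hpp⟩
    have hfac : (Nat.card G).factorization p = k.factorization p := by
      have hnd : ¬ p ∣ Nat.card H := fun h => hpp.one_lt.ne'
        (Nat.eq_one_of_dvd_coprimes hcop h hpk)
      rw [hcardG, Nat.factorization_mul hk0 Nat.card_pos.ne', Finsupp.add_apply,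
        Nat.factorization_eq_zero_of_not_dvd hnd, add_zero]
    set a := k.factorization p
    have hcount : Nat.card {g : G // orderOf g ∣ p ^ a} = p ^ a :=
      (Nat.card_congr (e.subtypeEquiv fun x => by rw [he])).symm.trans
        (hpow p a hpp (Nat.ordProj_dvd k p) (Nat.pow_succ_factorization_not_dvd hk0 hpp))
    let P : Sylow p G := default
    have hPc : Nat.card (P : Subgroup G) = p ^ a := by rw [P.card_eq_multiplicity, hfac]
    have hset : ((P : Subgroup G) : Set G) = {g : G | orderOf g ∣ p ^ a} := by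
      refine Set.eq_of_subset_of_ncard_le (fun g hg => hPc ▸ Subgroup.orderOf_dvd_natCard _ hg) ?_
        (Set.toFinite _)
      rw [← Nat.card_coe_set_eq, ← Nat.card_coe_set_eq]
      exact le_of_eq (hcount.trans hPc.symm)
    refine ⟨P, ⟨fun x hx g => ?_⟩, hPc⟩
    rw [← SetLike.mem_coe, hset, Set.mem_ofPred_eq] at hx ⊢
    rwa [show g * x * g⁻¹ = MulAut.conj g x by simp, MulEquiv.orderOf_eq]
  choose P hPn hPc using hsyl
  have key : ∀ s : Finset ℕ, ∀ hs : s ⊆ k.primeFactors, ∃ M : Subgroup G, M.Normal ∧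
      Nat.card M ∣ ∏ p ∈ s, p ^ k.factorization p ∧ ∀ p (hp : p ∈ s), P p (hs hp) ≤ M := by
    intro s
    induction s using Finset.induction_on with
    | empty => intro _; exact ⟨⊥, inferInstance, by simp, fun p hp => absurd hp (by simp)⟩
    | @insert q s hq ih =>
      intro hs
      obtain ⟨M, hM, hMd, hMle⟩ := ih ((Finset.subset_insert q s).trans hs)
      haveI := hM
      haveI := hPn q (hs (Finset.mem_insert_self q s))
      refine ⟨P q (hs (Finset.mem_insert_self q s)) ⊔ M, Subgroup.sup_normal _ _, ?_, fun p hp => ?_⟩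
      · rw [Finset.prod_insert hq]
        exact (card_sup_dvd_mul _ M).trans (mul_dvd_mul (hPc _ _).dvd hMd)
      · rcases Finset.mem_insert.mp hp with rfl | hp'
        · exact le_sup_left
        · exact (hMle p hp').trans le_sup_right
  obtain ⟨M, hMn, hMd, hMle⟩ := key k.primeFactors subset_rfl
  haveI := hMn
  have hMk : Nat.card M = k := by
    have e1 : ∏ p ∈ k.primeFactors, p ^ k.factorization p = k := by
      conv_rhs => rw [← Nat.prod_factorization_pow_eq_self hk0]
      rfl
    refine Nat.dvd_antisymm (e1 ▸ hMd) ?_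
    conv_lhs => rw [← e1]
    refine Finset.prod_dvd_of_isRelPrime ?_ ?_
    · intro p hp q hq hpq
      exact Nat.coprime_iff_isRelPrime.mp (Nat.coprime_pow_primes _ _
        (Nat.prime_of_mem_primeFactors hp) (Nat.prime_of_mem_primeFactors hq) hpq)
    · exact fun p hp => (hPc p hp) ▸ Subgroup.card_dvd_of_le (hMle p hp)
  have hMnil : Group.IsNilpotent M := by
    refine (Group.isNilpotent_of_finite_tfae.out 0 3 rfl rfl).mpr fun p hp Q => ?_
    haveI := hp
    by_cases hpk : p ∈ k.primeFactors
    · haveI := hPn p hpk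
      have hle : IsPGroup p ((P p hpk).subgroupOf M) :=
        IsPGroup.of_card ((Nat.card_congr (Subgroup.subgroupOfEquivOfLe (hMle p hpk)).toEquiv).trans
          (hPc p hpk))
      let Q₀ : Sylow p M := Sylow.ofCard ((P p hpk).subgroupOf M) (by
        rw [hMk, Nat.card_congr (Subgroup.subgroupOfEquivOfLe (hMle p hpk)).toEquiv, hPc])
      have hQ₀ : (Q₀ : Subgroup M) = (P p hpk).subgroupOf M := Sylow.coe_ofCard _ _
      haveI : (Q₀ : Subgroup M).Normal := hQ₀ ▸ inferInstance
      haveI := Sylow.unique_of_normal Q₀ inferInstance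
      rw [Subsingleton.elim Q Q₀]
      infer_instance
    · have hQ : (Q : Subgroup M) = ⊥ := by
        rw [Subgroup.eq_bot_iff_card, Q.card_eq_multiplicity, hMk,
          Nat.factorization_eq_zero_of_not_dvd (fun h => hpk (Nat.mem_primeFactors.mpr ⟨hp.out, h, hk0⟩)),
          pow_zero]
      rw [hQ]
      infer_instance
  have hMcop : (Nat.card M).Coprime M.index := by
    have h1 := M.card_mul_index
    rw [hcardG, hMk] at h1
    rw [hMk, Nat.eq_of_mul_eq_mul_left (Nat.pos_of_ne_zero hk0) h1]
    exact hcop.symm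
  obtain ⟨C, hC⟩ := Subgroup.exists_right_complement'_of_coprime hMcop
  have hCc : Nat.card C = Nat.card H := by
    have h1 := hC.card_mul
    rw [hcardG, hMk] at h1
    exact Nat.eq_of_mul_eq_mul_left (Nat.pos_of_ne_zero hk0) h1
  have hk1 : 1 < k := Subgroup.one_lt_index_of_ne_top hH.2.1
  refine ⟨M, C, hMn, hMnil, hC, ?_, hMk, hCc⟩
  refine H2.frobenius_of_fpf hC (fun h => ?_) (fun h => ?_) fun y hy hy1 => ?_
  · rw [h, Subgroup.card_bot] at hMk; omega
  · rw [h, Subgroup.card_bot] at hCc
    exact hH.1 (Subgroup.card_eq_one.mp hCc.symm)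
  · rw [eq_bot_iff]
    rintro x ⟨hxM, hxc⟩
    rw [Subgroup.mem_bot]
    by_contra hx1
    have h1 : orderOf x ∣ k := hMk ▸ Subgroup.orderOf_dvd_natCard M hxM
    have h2 : orderOf y ∣ Nat.card H := hCc ▸ Subgroup.orderOf_dvd_natCard C hy
    have hcm : Commute x y := Subgroup.mem_centralizer_singleton_iff.mp hxc
    have h3 : orderOf (x * y) = orderOf x * orderOf y := hcm.orderOf_mul_eq_mul_orderOf_of_coprime
      (Nat.Coprime.coprime_dvd_left h1 (Nat.Coprime.coprime_dvd_right h2 hcop.symm))
    rcases hmixG (x * y) with h | h <;> rw [h3] at h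
    · exact hy1 (orderOf_eq_one_iff.mp
        (Nat.eq_one_of_dvd_coprimes hcop h2 ((dvd_mul_left _ _).trans h)))
    · exact hx1 (orderOf_eq_one_iff.mp
        (Nat.eq_one_of_dvd_coprimes hcop ((dvd_mul_right _ _).trans h) h1))

/-- Solvability of a Frobenius group read from its elements of order five. -/
theorem solvable_iff_order_five (hcore : H2.PerfectComplementIsSL25.{u}) {G : Type u} [Group G]
    [Finite G] {C : Subgroup G} (hC : Cfsg.IsFrobeniusComplement C) :
    Group.IsSolvable G ↔
      (5 ∣ C.index ∨ Nat.card {g : G // orderOf g = 5} ≤ 4 * C.index) := by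
  classical
  obtain ⟨M, hMc, hMn, hc⟩ := H2.exists_kernel hC
  haveI := hMn
  have hMk : Nat.card M = C.index := hc.index_eq_card.symm
  obtain ⟨M', hM'c, hM'n, hnil⟩ := Cfsg.Agent.S0042.result C hC
  obtain rfl : M' = M := SetLike.coe_injective (hM'c.trans hMc.symm)
  haveI := hnil
  have hfc : H28.FCInt C := H28.fcInt_of_isFC hC
  have hiff : Group.IsSolvable G ↔ Group.IsSolvable C := by
    constructor
    · intro h
      infer_instance
    · intro h
      haveI : Group.IsSolvable (G ⧸ M') :=
        Group.isSolvable_of_surjective (f := (QuotientGroup.mk' M').comp C.subtype) (by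
          intro q
          obtain ⟨g, rfl⟩ := QuotientGroup.mk_surjective q
          obtain ⟨x, hx, y, hy, rfl⟩ := H2.complement_decomp hc g
          refine ⟨⟨y, hy⟩, ?_⟩
          show QuotientGroup.mk' M' y = QuotientGroup.mk' M' (x * y)
          rw [map_mul, show QuotientGroup.mk' M' x = 1 from (QuotientGroup.eq_one_iff x).mpr hx, one_mul])
      exact solvable_of_ker_le_range M'.subtype (QuotientGroup.mk' M')
        (by rw [QuotientGroup.ker_mk', Subgroup.range_subtype])
  rw [hiff]
  by_cases h5 : 5 ∣ C.index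
  · refine iff_of_true (isSolvable_of_card_order_five hcore hfc ?_) (Or.inl h5)
    have : IsEmpty {x : C // orderOf x = 5} := ⟨fun x => by
      have h1 : 5 ∣ Nat.card C := x.2 ▸ orderOf_dvd_natCard x.1
      exact absurd (Nat.eq_one_of_dvd_coprimes (H2.coprime_card_index hC) h1 h5) (by norm_num)⟩
    simp
  rw [or_iff_right h5]
  have hcount : Nat.card {g : G // orderOf g = 5} =
      C.index * Nat.card {x : C // orderOf x = 5} := by
    let m : (G ⧸ C) × {x : C // orderOf x = 5} → {g : G // orderOf g = 5} := fun p =>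
      ⟨p.1.out * (p.2.1 : G) * p.1.out⁻¹, by
        rw [show p.1.out * (p.2.1 : G) * p.1.out⁻¹ = MulAut.conj p.1.out (p.2.1 : G) by simp,
          MulEquiv.orderOf_eq, Subgroup.orderOf_coe, p.2.2]⟩
    have hne : ∀ x : {x : C // orderOf x = 5}, (x.1 : G) ≠ 1 := fun x e => by
      have := x.2
      rw [← Subgroup.orderOf_coe, e, orderOf_one] at this
      omega
    have hm : Function.Bijective m := by
      refine ⟨?_, ?_⟩
      · rintro ⟨c, x⟩ ⟨d, y⟩ h
        have := H2.conjParam_injective hC (a₁ := (c, ⟨x.1, hne x⟩)) (a₂ := (d, ⟨y.1, hne y⟩))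
          (congrArg Subtype.val h)
        simp only [Prod.mk.injEq, Subtype.mk.injEq] at this
        exact Prod.ext this.1 (Subtype.ext this.2)
      · rintro ⟨g, hg⟩
        have hgN : g ∉ Cfsg.frobeniusKernel C := by
          rw [← hMc, SetLike.mem_coe]
          intro h
          exact h5 (hg ▸ hMk ▸ Subgroup.orderOf_dvd_natCard M' h)
        obtain ⟨⟨c, x⟩, hx⟩ := H2.mem_range_conjParam.mpr hgN
        have hx' : c.out * (x.1 : G) * c.out⁻¹ = g := hx
        refine ⟨(c, ⟨x.1, ?_⟩), Subtype.ext hx'⟩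
        rw [← hg, ← hx', show c.out * (x.1 : G) * c.out⁻¹ = MulAut.conj c.out (x.1 : G) by simp,
          MulEquiv.orderOf_eq, Subgroup.orderOf_coe]
    rw [← Nat.card_eq_of_bijective m hm, Nat.card_prod, Subgroup.index]
  have hpos : 0 < C.index := Nat.pos_of_ne_zero Subgroup.index_ne_zero_of_finite
  rw [hcount, mul_comm 4, Nat.mul_le_mul_left_iff hpos]
  exact ⟨fun h => by haveI := h; exact card_order_five_le hfc,
    isSolvable_of_card_order_five hcore hfc⟩

theorem orderType_frobenius {F : Type v} {G : Type w} [Group F] [Finite F] [Group G] [Finite G]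
    (hcoreF : H2.PerfectComplementIsSL25.{v}) (hcoreG : H2.PerfectComplementIsSL25.{w})
    (hF : ∃ C : Subgroup F, Cfsg.IsFrobeniusComplement C)
    (hT : ∀ m : ℕ, Nat.card {g : F // orderOf g = m} = Nat.card {h : G // orderOf h = m}) :
    (∃ C : Subgroup G, Cfsg.IsFrobeniusComplement C) ∧ (Group.IsSolvable G ↔ Group.IsSolvable F) := by
  obtain ⟨H, hH⟩ := hF
  obtain ⟨e, he⟩ := sameOrderType_count hT
  obtain ⟨M, C, hM, -, hc, hC, hMk, -⟩ := frobenius_of_orderType hH e he
  refine ⟨⟨C, hC⟩, ?_⟩
  rw [solvable_iff_order_five hcoreG hC, solvable_iff_order_five hcoreF hH,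
    hc.index_eq_card, hMk, hT 5]

end H4
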