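import Cfsg.Agent.H4.OrderType
import Cfsg.Agent.H1.Hall

set_option autoImplicit false

/-!
Groups whose prime graph splits (helper4): separation of element orders and the solvable case of
the theorem of Gruenberg and Kegel.
-/

namespace H4

namespace PGraph

universe u

variable {G : Type u} [Group G]

/-- All prime divisors of `n` lie in `A`. -/
def PrimesIn (A : Set ℕ) (n : ℕ) : Prop := ∀ p : ℕ, p.Prime → p ∣ n → p ∈ A

/-- No element order mixes primes in `A` with primes outside `A`. -/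
def Separated (A : Set ℕ) (G : Type u) [Group G] : Prop :=
  ∀ g : G, PrimesIn A (orderOf g) ∨ PrimesIn Aᶜ (orderOf g)

theorem PrimesIn.of_dvd {A : Set ℕ} {m n : ℕ} (h : PrimesIn A n) (hd : m ∣ n) : PrimesIn A m :=
  fun p hp hpm => h p hp (hpm.trans hd)

theorem PrimesIn.mul {A : Set ℕ} {m n : ℕ} (h : PrimesIn A m) (h' : PrimesIn A n) :
    PrimesIn A (m * n) :=
  fun p hp hd => (hp.dvd_mul.mp hd).elim (h p hp) (h' p hp)

theorem primesIn_one (A : Set ℕ) : PrimesIn A 1 :=
  fun _ hp hd => absurd (Nat.dvd_one.mp hd) hp.one_lt.ne'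

theorem PrimesIn.coprime {A : Set ℕ} {m n : ℕ} (h : PrimesIn A m) (h' : PrimesIn Aᶜ n) :
    m.Coprime n :=
  Nat.coprime_of_dvd fun p hp hm hn => h' p hp hn (h p hp hm)

theorem primesIn_of_pGroup [Finite G] {A : Set ℕ} {p : ℕ} [Fact p.Prime] (h : IsPGroup p G)
    (hp : p ∈ A) : PrimesIn A (Nat.card G) := by
  intro q hq hd
  obtain ⟨n, hn⟩ := IsPGroup.iff_card.mp h
  rw [hn] at hd
  exact ((Nat.prime_dvd_prime_iff_eq hq Fact.out).mp (hq.dvd_of_dvd_pow hd)) ▸ hp

theorem Separated.compl {A : Set ℕ} (h : Separated A G) : Separated Aᶜ G :=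
  fun g => (compl_compl A).symm ▸ (h g).symm

theorem separated_of_no_mixed [Finite G] {A : Set ℕ}
    (h : ∀ a ∈ A, ∀ b ∉ A, a.Prime → b.Prime → a ∣ Nat.card G → b ∣ Nat.card G →
      ¬ ∃ g : G, orderOf g = a * b) : Separated A G := by
  intro g
  by_contra hcon
  simp only [not_or, PrimesIn, not_forall, exists_prop, Set.mem_compl_iff, not_not] at hcon
  obtain ⟨⟨b, hb, hbd, hbA⟩, ⟨a, ha, had, haA⟩⟩ := hcon
  have hne : a ≠ b := fun e => hbA (e ▸ haA)
  have hab : a * b ∣ orderOf g :=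
    ((Nat.coprime_primes ha hb).mpr hne).mul_dvd_of_dvd_of_dvd had hbd
  refine h a haA b hbA ha hb (had.trans (orderOf_dvd_natCard g)) (hbd.trans (orderOf_dvd_natCard g))
    ⟨g ^ (orderOf g / (a * b)), ?_⟩
  have hpos : 0 < orderOf g := orderOf_pos g
  rw [orderOf_pow_of_dvd (Nat.div_pos (Nat.le_of_dvd hpos hab) (Nat.mul_pos ha.pos hb.pos)).ne'
    (Nat.div_dvd_of_dvd hab), Nat.div_div_self hab hpos.ne']

theorem Separated.subgroup {A : Set ℕ} (h : Separated A G) (H : Subgroup G) : Separated A H :=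
  fun g => Subgroup.orderOf_coe g ▸ h g

theorem Separated.of_surjective {H : Type u} [Group H] {A : Set ℕ} (h : Separated A G)
    (f : G →* H) (hf : Function.Surjective f) : Separated A H := by
  intro y
  obtain ⟨g, rfl⟩ := hf y
  exact (h g).imp (·.of_dvd (orderOf_map_dvd f g)) (·.of_dvd (orderOf_map_dvd f g))

theorem Separated.commute_trivial [Finite G] {A : Set ℕ} (h : Separated A G) {x y : G}
    (hx : PrimesIn A (orderOf x)) (hy : PrimesIn Aᶜ (orderOf y)) (hc : Commute x y) :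
    x = 1 ∨ y = 1 := by
  have h1 := hc.orderOf_mul_eq_mul_orderOf_of_coprime (hx.coprime hy)
  rcases h (x * y) with h2 | h2 <;> rw [h1] at h2
  · exact Or.inr (orderOf_eq_one_iff.mp
      ((Nat.coprime_self _).mp ((h2.of_dvd (dvd_mul_left _ _)).coprime hy)))
  · exact Or.inl (orderOf_eq_one_iff.mp
      ((Nat.coprime_self _).mp (hx.coprime (h2.of_dvd (dvd_mul_right _ _)))))

theorem exists_max_normal [Finite G] (A : Set ℕ) :
    ∃ N : Subgroup G, N.Normal ∧ PrimesIn A (Nat.card N) ∧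
      ∀ L : Subgroup G, L.Normal → PrimesIn A (Nat.card L) → L ≤ N := by
  obtain ⟨N, ⟨hNn, hNA⟩, hmax⟩ := (wellFounded_gt (α := Subgroup G)).has_min
    {L : Subgroup G | L.Normal ∧ PrimesIn A (Nat.card L)}
    ⟨⊥, inferInstance, by rw [Subgroup.card_bot]; exact primesIn_one A⟩
  refine ⟨N, hNn, hNA, fun L hL hLA => ?_⟩
  haveI := hNn
  haveI := hL
  have hmem : (L ⊔ N).Normal ∧ PrimesIn A (Nat.card (L ⊔ N : Subgroup G)) :=
    ⟨inferInstance, (hLA.mul hNA).of_dvd (card_sup_dvd_mul L N)⟩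
  have := hmax (L ⊔ N) hmem
  by_contra hle
  exact this (lt_of_le_of_ne le_sup_right fun e => hle (by rw [e]; exact le_sup_left))

theorem card_comap_mk [Finite G] (N : Subgroup G) [N.Normal] (L : Subgroup (G ⧸ N)) :
    Nat.card (L.comap (QuotientGroup.mk' N)) = Nat.card N * Nat.card L :=
  (Nat.card_congr (QuotientGroup.preimageMkEquivSubgroupProdSet N (L : Set (G ⧸ N)))).trans
    (Nat.card_prod _ _)

theorem primesIn_comap [Finite G] {A : Set ℕ} (N : Subgroup G) [N.Normal]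
    (hN : PrimesIn A (Nat.card N)) (L : Subgroup (G ⧸ N)) (hL : PrimesIn A (Nat.card L)) :
    PrimesIn A (Nat.card (L.comap (QuotientGroup.mk' N))) :=
  (hN.mul hL).of_dvd (card_comap_mk N L).dvd

/-- A normal subgroup with a complement on the other side gives a Frobenius group. -/
theorem frobenius_of_split [Finite G] {A : Set ℕ} (h : Separated A G) (N : Subgroup G) [N.Normal]
    (hN : PrimesIn A (Nat.card N)) (hNi : PrimesIn Aᶜ N.index) (hN0 : N ≠ ⊥) (hN1 : N ≠ ⊤) :
    ∃ C : Subgroup G, Subgroup.IsComplement' N C ∧ Cfsg.IsFrobeniusComplement C ∧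
      Cfsg.frobeniusKernel C = (N : Set G) := by
  obtain ⟨C, hC⟩ := Subgroup.exists_right_complement'_of_coprime (hN.coprime hNi)
  have hCc : Nat.card C = N.index := hC.symm.index_eq_card.symm
  have hF : Cfsg.IsFrobeniusComplement C := by
    refine H2.frobenius_of_fpf hC hN0 ?_ fun y hy hy1 => ?_
    · intro e
      rw [e, Subgroup.card_bot] at hCc
      exact hN1 (Subgroup.index_eq_one.mp hCc.symm)
    · rw [eq_bot_iff]
      rintro x ⟨hxN, hxc⟩
      exact Subgroup.mem_bot.mpr ((h.commute_trivial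
        (hN.of_dvd (Subgroup.orderOf_dvd_natCard N hxN))
        (hNi.of_dvd (hCc ▸ Subgroup.orderOf_dvd_natCard C hy))
        (Subgroup.mem_centralizer_singleton_iff.mp hxc)).resolve_right hy1)
  exact ⟨C, hC, hF, (H2.coe_eq_frobeniusKernel hC hF).symm⟩

theorem primesIn_index_subgroupOf [Finite G] {A : Set ℕ} (N : Subgroup G) [N.Normal]
    (L : Subgroup (G ⧸ N)) (hL : PrimesIn A (Nat.card L)) :
    PrimesIn A (N.subgroupOf (L.comap (QuotientGroup.mk' N))).index := by
  have hle : N ≤ L.comap (QuotientGroup.mk' N) := fun x hx => by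
    rw [Subgroup.mem_comap, show QuotientGroup.mk' N x = 1 from (QuotientGroup.eq_one_iff x).mpr hx]
    exact L.one_mem
  have h2 := (N.subgroupOf (L.comap (QuotientGroup.mk' N))).card_mul_index
  rw [Nat.card_congr (Subgroup.subgroupOfEquivOfLe hle).toEquiv, card_comap_mk N L] at h2
  rwa [Nat.eq_of_mul_eq_mul_left Nat.card_pos h2]

theorem exists_top_part [Finite G] [Nontrivial G] [Group.IsSolvable G] {A : Set ℕ}
    (hmax : ∀ L : Subgroup G, L.Normal → PrimesIn A (Nat.card L) → L = ⊥) :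
    ∃ L : Subgroup G, L.Normal ∧ L ≠ ⊥ ∧ PrimesIn Aᶜ (Nat.card L) := by
  obtain ⟨p, P, hp, hPn, hP0, hPp⟩ := H1.exists_normal_pgroup_ne_bot G
  haveI : Fact p.Prime := ⟨hp⟩
  refine ⟨P, hPn, hP0, primesIn_of_pGroup hPp fun hA => hP0 (hmax P hPn (primesIn_of_pGroup hPp hA))⟩

/-- The part of a solvable group with split prime graph above a Frobenius complement. -/
theorem upper_part {Q : Type u} [Group Q] [Finite Q] [Group.IsSolvable Q] {A : Set ℕ}
    (h : Separated A Q) (R : Subgroup Q) [R.Normal] (hR : PrimesIn Aᶜ (Nat.card R)) (hR0 : R ≠ ⊥)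
    (hR1 : R ≠ ⊤) (hfc : H28.FCInt R)
    (hmax : ∀ L : Subgroup Q, L.Normal → PrimesIn Aᶜ (Nat.card L) → L ≤ R) :
    ∃ C : Subgroup Q, Cfsg.IsFrobeniusComplement C ∧ Cfsg.frobeniusKernel C = (R : Set Q) := by
  classical
  haveI : Nontrivial (Q ⧸ R) := QuotientGroup.nontrivial_iff.mpr hR1
  obtain ⟨P, hPn, hP0, hPA⟩ := exists_top_part (G := Q ⧸ R) (A := Aᶜ) fun L hL hLA => by
    rw [eq_bot_iff]
    intro x hx
    obtain ⟨x, rfl⟩ := QuotientGroup.mk_surjective x
    exact Subgroup.mem_bot.mpr ((QuotientGroup.eq_one_iff x).mpr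
      (hmax _ (hL.comap _) (primesIn_comap R hR L hLA) hx))
  rw [compl_compl] at hPA
  set T := P.comap (QuotientGroup.mk' R) with hT
  have hRT : R ≤ T := fun x hx => by
    rw [hT, Subgroup.mem_comap, show QuotientGroup.mk' R x = 1 from (QuotientGroup.eq_one_iff x).mpr hx]
    exact P.one_mem
  have eR := Subgroup.subgroupOfEquivOfLe hRT
  have hTi : PrimesIn Aᶜᶜ (R.subgroupOf T).index := by
    rw [compl_compl]
    exact primesIn_index_subgroupOf R P hPA
  have hRT0 : R.subgroupOf T ≠ ⊥ := fun e => hR0 (by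
    rw [← Subgroup.card_eq_one, ← Nat.card_congr eR.toEquiv, e, Subgroup.card_bot])
  have hRT1 : R.subgroupOf T ≠ ⊤ := fun e => hP0 (by
    rw [eq_bot_iff]
    intro x hx
    obtain ⟨x, rfl⟩ := QuotientGroup.mk_surjective x
    exact Subgroup.mem_bot.mpr ((QuotientGroup.eq_one_iff x).mpr
      ((Subgroup.subgroupOf_eq_top.mp e) hx)))
  obtain ⟨D, hD, hDF, hDk⟩ := frobenius_of_split (h.compl.subgroup T) (R.subgroupOf T)
    (by rw [Nat.card_congr eR.toEquiv]; exact hR) hTi hRT0 hRT1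
  haveI hRnil : Group.IsNilpotent R := by
    obtain ⟨N', hN'c, -, hnil⟩ := Cfsg.Agent.S0042.result D hDF
    obtain rfl : N' = R.subgroupOf T := SetLike.coe_injective (hN'c.trans hDk)
    exact Group.nilpotent_of_mulEquiv eR
  have hAe : ∀ x : Q, x ≠ 1 → PrimesIn A (orderOf x) → (∀ r ∈ R, Commute x r) → False := by
    intro x hx1 hxA hxc
    obtain ⟨r, hr, hr1⟩ := (R.bot_or_exists_ne_one).resolve_left hR0
    exact hr1 ((h.commute_trivial hxA (hR.of_dvd (Subgroup.orderOf_dvd_natCard R hr))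
      (hxc r hr)).resolve_left hx1)
  have hodd : ¬ 2 ∣ Nat.card R := by
    intro h2
    haveI : Fact (Nat.Prime 2) := ⟨Nat.prime_two⟩
    obtain ⟨z, hz⟩ := exists_prime_orderOf_dvd_card' (G := R) 2 h2
    obtain ⟨d, hd, hd1⟩ := (D.bot_or_exists_ne_one).resolve_left hDF.1
    have hzc : ∀ g : Q, g * (z : Q) * g⁻¹ = z := by
      intro g
      have hm : g * (z : Q) * g⁻¹ ∈ R := (inferInstance : R.Normal).conj_mem _ z.2 g
      have ho : orderOf (⟨_, hm⟩ : R) = 2 := by
        rw [← Subgroup.orderOf_coe]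
        show orderOf (g * (z : Q) * g⁻¹) = 2
        rw [show g * (z : Q) * g⁻¹ = MulAut.conj g (z : Q) by simp, MulEquiv.orderOf_eq,
          Subgroup.orderOf_coe, hz]
      exact congrArg Subtype.val (H2.fcInt_involution_unique hfc ho hz)
    have hdA : PrimesIn A (orderOf (d : Q)) := by
      have := hTi.of_dvd (hD.symm.index_eq_card ▸ Subgroup.orderOf_dvd_natCard D hd)
      rwa [compl_compl, ← Subgroup.orderOf_coe] at this
    rcases h.commute_trivial hdA (hR.of_dvd (Subgroup.orderOf_dvd_natCard R z.2))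
      (mul_inv_eq_iff_eq_mul.mp (hzc d)) with e | e
    · exact hd1 (Subtype.ext e)
    · rw [← Subgroup.orderOf_coe, e, orderOf_one] at hz
      omega
  haveI : IsZGroup R := ⟨fun p hp P => by
    haveI : Fact p.Prime := ⟨hp⟩
    by_cases hp2 : p = 2
    · subst hp2
      have : (P : Subgroup R) = ⊥ := by
        rw [Subgroup.eq_bot_iff_card, P.card_eq_multiplicity,
          Nat.factorization_eq_zero_of_not_dvd hodd, pow_zero]
      rw [this]
      infer_instance
    · exact H2.fcInt_isCyclic_sylow hfc hp2 P.2⟩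
  haveI hRc : IsCyclic R := inferInstance
  let φ : Q →* MulAut R := MulAut.conjNormal
  have hker : φ.ker ≤ R := by
    refine hmax _ (MonoidHom.normal_ker _) fun p hp hpd hpA => ?_
    haveI : Fact p.Prime := ⟨hp⟩
    obtain ⟨x, hx⟩ := exists_prime_orderOf_dvd_card' (G := φ.ker) p hpd
    rw [← Subgroup.orderOf_coe] at hx
    refine hAe (x : Q) (fun e => ?_) (fun q hq hqd => ?_) fun r hr => ?_
    · rw [e, orderOf_one] at hx
      exact hp.one_lt.ne hx
    · rw [hx] at hqd
      exact (Nat.prime_dvd_prime_iff_eq hq hp).mp hqd ▸ hpA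
    · have := congrArg Subtype.val (DFunLike.congr_fun (MonoidHom.mem_ker.mp x.2) ⟨r, hr⟩)
      exact mul_inv_eq_iff_eq_mul.mp this
  have hcomm : ∀ a b : Q ⧸ R, a * b = b * a := by
    intro a b
    obtain ⟨a, rfl⟩ := QuotientGroup.mk_surjective a
    obtain ⟨b, rfl⟩ := QuotientGroup.mk_surjective b
    obtain ⟨g, hg⟩ := hRc.exists_generator
    have hab : φ (a * b) = φ (b * a) := by
      rw [map_mul, map_mul]
      obtain ⟨i, hi⟩ := Subgroup.mem_zpowers_iff.mp (hg (φ a g))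
      obtain ⟨j, hj⟩ := Subgroup.mem_zpowers_iff.mp (hg (φ b g))
      refine MulEquiv.ext fun r => ?_
      obtain ⟨k, rfl⟩ := Subgroup.mem_zpowers_iff.mp (hg r)
      rw [map_zpow, map_zpow]
      congr 1
      show φ a (φ b g) = φ b (φ a g)
      rw [← hi, ← hj, map_zpow, map_zpow, ← hi, ← hj, ← zpow_mul, ← zpow_mul, mul_comm]
    rw [← QuotientGroup.mk_mul, ← QuotientGroup.mk_mul, QuotientGroup.eq]
    exact hker (MonoidHom.mem_ker.mpr (by rw [map_mul, map_inv, hab, inv_mul_cancel]))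
  have hRi : PrimesIn Aᶜᶜ R.index := by
    intro p hp hpd hpA
    haveI : Fact p.Prime := ⟨hp⟩
    obtain ⟨x, hx⟩ := exists_prime_orderOf_dvd_card' (G := Q ⧸ R) p hpd
    haveI : (Subgroup.zpowers x).Normal := ⟨fun y hy g => by
      rw [hcomm g y, mul_inv_cancel_right]; exact hy⟩
    have hle := hmax _ (Subgroup.Normal.comap inferInstance (QuotientGroup.mk' R))
      (primesIn_comap R hR (Subgroup.zpowers x) (fun q hq hqd => by
        rw [Nat.card_zpowers, hx] at hqd
        exact (Nat.prime_dvd_prime_iff_eq hq hp).mp hqd ▸ hpA))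
    obtain ⟨y, rfl⟩ := QuotientGroup.mk_surjective x
    have hy : y ∈ R := hle (Subgroup.mem_zpowers _)
    rw [(QuotientGroup.eq_one_iff y).mpr hy, orderOf_one] at hx
    exact hp.one_lt.ne hx
  obtain ⟨C, -, hC, hCk⟩ := frobenius_of_split h.compl R hR hRi hR0 hR1
  exact ⟨C, hC, hCk⟩

/-- The theorem of Gruenberg and Kegel for solvable groups. -/
theorem solvable_split [Finite G] [Group.IsSolvable G] {A : Set ℕ}
    (h : Separated A G) (hA : ¬ PrimesIn A (Nat.card G)) {N : Subgroup G} [N.Normal]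
    (hN : PrimesIn A (Nat.card N)) (hN0 : N ≠ ⊥)
    (hmax : ∀ L : Subgroup G, L.Normal → PrimesIn A (Nat.card L) → L ≤ N) :
    (∃ C : Subgroup G, Cfsg.IsFrobeniusComplement C) ∨
    (∃ (H K : Subgroup G) (_ : H.Normal), K.Normal ∧ H < K ∧
      (∃ C : Subgroup ↥K, Cfsg.IsFrobeniusComplement C ∧
        Cfsg.frobeniusKernel C = (H.subgroupOf K : Set ↥K)) ∧
      (∃ C : Subgroup (G ⧸ H), Cfsg.IsFrobeniusComplement C ∧
        Cfsg.frobeniusKernel C = (K.map (QuotientGroup.mk' H) : Set (G ⧸ H)))) := by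
  have hN1 : N ≠ ⊤ := fun e => hA (by rwa [e, Subgroup.card_top] at hN)
  haveI : Nontrivial (G ⧸ N) := QuotientGroup.nontrivial_iff.mpr hN1
  obtain ⟨R, hRn, hRA, hRmax⟩ := exists_max_normal (G := G ⧸ N) Aᶜ
  haveI := hRn
  have hR0 : R ≠ ⊥ := by
    obtain ⟨L, hL, hL0, hLA⟩ := exists_top_part (G := G ⧸ N) (A := A) fun L hL hLA => by
      rw [eq_bot_iff]
      intro x hx
      obtain ⟨x, rfl⟩ := QuotientGroup.mk_surjective x
      exact Subgroup.mem_bot.mpr ((QuotientGroup.eq_one_iff x).mpr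
        (hmax _ (hL.comap _) (primesIn_comap N hN L hLA) hx))
    exact fun e => hL0 (le_bot_iff.mp (e ▸ hRmax L hL hLA))
  by_cases hR1 : R = ⊤
  · left
    obtain ⟨C, -, hC, -⟩ := frobenius_of_split h N hN
      (by rw [hR1, Subgroup.card_top] at hRA; exact hRA) hN0 hN1
    exact ⟨C, hC⟩
  right
  set M := R.comap (QuotientGroup.mk' N) with hM
  haveI : M.Normal := hRn.comap _
  have hNM : N ≤ M := fun x hx => by
    rw [hM, Subgroup.mem_comap, show QuotientGroup.mk' N x = 1 from (QuotientGroup.eq_one_iff x).mpr hx]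
    exact R.one_mem
  have eN := Subgroup.subgroupOfEquivOfLe hNM
  have hmap : M.map (QuotientGroup.mk' N) = R :=
    Subgroup.map_comap_eq_self_of_surjective (QuotientGroup.mk'_surjective N) R
  have hlt : N < M := lt_of_le_of_ne hNM fun e => hR0 (by
    rw [← hmap, ← e, (Subgroup.map_eq_bot_iff _).mpr (le_of_eq (QuotientGroup.ker_mk' N).symm)])
  obtain ⟨C, hC, hCF, hCk⟩ := frobenius_of_split (h.subgroup M) (N.subgroupOf M)
    (by rw [Nat.card_congr eN.toEquiv]; exact hN) (primesIn_index_subgroupOf N R hRA)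
    (fun e => hN0 (by rw [← Subgroup.card_eq_one, ← Nat.card_congr eN.toEquiv, e, Subgroup.card_bot]))
    (fun e => hlt.not_ge (Subgroup.subgroupOf_eq_top.mp e))
  refine ⟨N, M, inferInstance, inferInstance, hlt, ⟨C, hCF, hCk⟩, ?_⟩
  rw [hmap]
  refine upper_part (h.of_surjective _ (QuotientGroup.mk'_surjective N)) R hRA hR0 hR1 ?_ hRmax
  -- `R` is isomorphic to the complement `C`
  let f : C →* R := ((QuotientGroup.mk' N).comp (M.subtype.comp C.subtype)).codRestrict R fun x => x.1.2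
  have hf : Function.Bijective f := by
    refine ⟨(injective_iff_map_eq_one f).mpr fun x hx => ?_, fun y => ?_⟩
    · have hxN : ((x : M) : G) ∈ N := (QuotientGroup.eq_one_iff _).mp (congrArg Subtype.val hx)
      exact Subtype.ext (H2.complement_inf hC (Subgroup.mem_subgroupOf.mpr hxN) x.2)
    · obtain ⟨⟨g⟩, hg⟩ := y
      obtain ⟨a, ha, b, hb, hab⟩ := H2.complement_decomp hC (⟨g, hg⟩ : M)
      refine ⟨⟨b, hb⟩, Subtype.ext ?_⟩
      show QuotientGroup.mk' N (b : G) = QuotientGroup.mk' N g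
      rw [show g = (a : G) * (b : G) from congrArg Subtype.val hab, map_mul,
        show QuotientGroup.mk' N (a : G) = 1 from
          (QuotientGroup.eq_one_iff _).mpr (Subgroup.mem_subgroupOf.mp ha), one_mul]
  exact H28.fcInt_congr (MulEquiv.ofBijective f hf) (H28.fcInt_of_isFC hCF)

theorem solvable_disconnected [Finite G] [Group.IsSolvable G]
    (hdisc : (∃ A : Set ℕ, (∃ a ∈ A, a.Prime ∧ a ∣ Nat.card G) ∧ (∃ b ∉ A, b.Prime ∧ b ∣ Nat.card G) ∧
      ∀ a ∈ A, ∀ b ∉ A, a.Prime → b.Prime → a ∣ Nat.card G → b ∣ Nat.card G →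
        ¬ ∃ g : G, orderOf g = a * b)) :
    (∃ C : Subgroup G, Cfsg.IsFrobeniusComplement C) ∨
    (∃ (H K : Subgroup G) (_ : H.Normal), K.Normal ∧ H < K ∧
      (∃ C : Subgroup ↥K, Cfsg.IsFrobeniusComplement C ∧
        Cfsg.frobeniusKernel C = (H.subgroupOf K : Set ↥K)) ∧
      (∃ C : Subgroup (G ⧸ H), Cfsg.IsFrobeniusComplement C ∧
        Cfsg.frobeniusKernel C = (K.map (QuotientGroup.mk' H) : Set (G ⧸ H)))) := by
  obtain ⟨A, ⟨a, haA, ha, had⟩, ⟨b, hbA, hb, hbd⟩, hno⟩ := hdisc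
  have hsep := separated_of_no_mixed hno
  haveI : Nontrivial G := Finite.one_lt_card_iff_nontrivial.mp
    (ha.one_lt.trans_le (Nat.le_of_dvd Nat.card_pos had))
  obtain ⟨p, P, hp, hPn, hP0, hPp⟩ := H1.exists_normal_pgroup_ne_bot G
  haveI : Fact p.Prime := ⟨hp⟩
  by_cases hpA : p ∈ A
  · obtain ⟨N, hNn, hN, hmax⟩ := exists_max_normal (G := G) A
    haveI := hNn
    exact solvable_split hsep (fun h => hbA (h b hb hbd)) hN
      (fun e => hP0 (le_bot_iff.mp (e ▸ hmax P hPn (primesIn_of_pGroup hPp hpA)))) hmax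
  · obtain ⟨N, hNn, hN, hmax⟩ := exists_max_normal (G := G) Aᶜ
    haveI := hNn
    exact solvable_split hsep.compl (fun h => h a ha had haA) hN
      (fun e => hP0 (le_bot_iff.mp (e ▸ hmax P hPn (primesIn_of_pGroup hPp hpA)))) hmax

end PGraph

end H4
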