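import Mathlib.GroupTheory.OrderOfElement
import Mathlib.Algebra.Group.Submonoid.Membership
import Mathlib

/-!
An involution in a group generated by two quadratic elements commutes with both of them.
-/

set_option autoImplicit false

namespace H4.RealZJ

/-- The normal form `c₀ + c₁x + c₂y + c₃xy` of `g`, with the matching form of `g⁻¹`. -/
def PairForm {R : Type*} [Ring R] (x y u v : R) : Prop :=
  ∃ c₀ c₁ c₂ c₃ : R, ((Commute c₀ x ∧ Commute c₀ y) ∧ (Commute c₁ x ∧ Commute c₁ y) ∧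
      (Commute c₂ x ∧ Commute c₂ y) ∧ (Commute c₃ x ∧ Commute c₃ y)) ∧
    u = c₀ + c₁ * x + c₂ * y + c₃ * (x * y) ∧ v = c₀ - c₁ * x - c₂ * y + c₃ * (y * x)

variable {R : Type*} [Ring R] {x y : R}

theorem commute_anticomm (hx : x * x = 0) : Commute (x * y + y * x) x := by
  show (x * y + y * x) * x = x * (x * y + y * x)
  rw [add_mul, mul_add, mul_assoc y x x, hx, mul_zero, ← mul_assoc x x y, hx, zero_mul,
    ← mul_assoc, add_zero, zero_add]

theorem PairForm.mul_left_elem {u v : R} (hx : x * x = 0) (hy : y * y = 0)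
    (h : PairForm x y u v) : PairForm x y (u * (1 + x)) ((1 - x) * v) := by
  obtain ⟨c₀, c₁, c₂, c₃, ⟨h0, h1, h2, h3⟩, rfl, rfl⟩ := h
  have hT : Commute (x * y + y * x) x := commute_anticomm hx
  have hT' : Commute (x * y + y * x) y := by
    rw [add_comm]; exact commute_anticomm hy
  refine ⟨c₀ + c₂ * (x * y + y * x), c₀ + c₁ + c₃ * (x * y + y * x), c₂, c₃ - c₂,
    ⟨⟨h0.1.add_left (h2.1.mul_left hT), h0.2.add_left (h2.2.mul_left hT')⟩,
     ⟨(h0.1.add_left h1.1).add_left (h3.1.mul_left hT), (h0.2.add_left h1.2).add_left (h3.2.mul_left hT')⟩,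
     h2, ⟨h3.1.sub_left h2.1, h3.2.sub_left h2.2⟩⟩, ?_, ?_⟩
  · have e1 : x * y * x = (x * y + y * x) * x := by rw [add_mul, mul_assoc y x x, hx, mul_zero, add_zero]
    linear_combination (norm := noncomm_ring) c₁ * hx + c₃ * e1
  · have e2 : x * (y * x) = (x * y + y * x) * x := by rw [add_mul, mul_assoc y x x, hx, mul_zero, add_zero, mul_assoc]
    have k0 := h0.1.eq
    have k1 := h1.1.eq
    have k2 := h2.1.eq
    have k3 := h3.1.eq
    symm
    calc c₀ + c₂ * (x * y + y * x) - (c₀ + c₁ + c₃ * (x * y + y * x)) * x - c₂ * y +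
          (c₃ - c₂) * (y * x)
        = c₀ - c₀ * x - c₁ * x - c₂ * y + c₃ * (y * x) + c₁ * (x * x) + c₂ * (x * y)
            - c₃ * ((x * y + y * x) * x) := by rw [hx]; noncomm_ring
      _ = c₀ - x * c₀ - c₁ * x - c₂ * y + c₃ * (y * x) + (x * c₁) * x + (x * c₂) * y
            - (x * c₃) * (y * x) := by
          rw [← k0, ← k1, ← k2, ← k3, ← e2]; noncomm_ring
      _ = (1 - x) * (c₀ - c₁ * x - c₂ * y + c₃ * (y * x)) := by noncomm_ring

theorem PairForm.mul_right_elem {u v : R} (hy : y * y = 0) (h : PairForm x y u v) :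
    PairForm x y (u * (1 + y)) ((1 - y) * v) := by
  obtain ⟨c₀, c₁, c₂, c₃, ⟨h0, h1, h2, h3⟩, rfl, rfl⟩ := h
  refine ⟨c₀, c₁, c₀ + c₂, c₁ + c₃, ⟨h0, h1, ⟨h0.1.add_left h2.1, h0.2.add_left h2.2⟩,
    ⟨h1.1.add_left h3.1, h1.2.add_left h3.2⟩⟩, ?_, ?_⟩
  · calc (c₀ + c₁ * x + c₂ * y + c₃ * (x * y)) * (1 + y)
        = c₀ + c₁ * x + (c₀ + c₂) * y + (c₁ + c₃) * (x * y) + c₂ * (y * y) + c₃ * x * (y * y) := by
          noncomm_ring
      _ = _ := by rw [hy]; noncomm_ring
  · calc (1 - y) * (c₀ - c₁ * x - c₂ * y + c₃ * (y * x))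
        = c₀ - y * c₀ - c₁ * x + (y * c₁) * x - c₂ * y + (y * c₂) * y + c₃ * (y * x)
            - (y * c₃) * (y * x) := by noncomm_ring
      _ = c₀ - c₀ * y - c₁ * x + (c₁ * y) * x - c₂ * y + c₂ * (y * y) + c₃ * (y * x)
            - c₃ * ((y * y) * x) := by
          rw [← h0.2.eq, ← h1.2.eq, ← h2.2.eq, ← h3.2.eq]; noncomm_ring
      _ = _ := by rw [hy]; noncomm_ring

/-- An involution in the group generated by two quadratic elements is central. -/
theorem pair_involution_commute {A : Type*} [Group A] [Finite A] {K : Type*} [Field K]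
    {W : Type*} [AddCommGroup W] [Module K W] (h2 : (2 : K) ≠ 0)
    (ρ : A →* Module.End K W) (hinj : Function.Injective ρ) (a b : A)
    (ha : (ρ a - 1) * (ρ a - 1) = 0) (hb : (ρ b - 1) * (ρ b - 1) = 0) (z : A)
    (hz : z ∈ Subgroup.closure ({a, b} : Set A)) (hz2 : z * z = 1) : z * a = a * z := by
  set x := ρ a - 1 with hxdef
  set y := ρ b - 1 with hydef
  have hx : x * x = 0 := ha
  have hy : y * y = 0 := hb
  have hinv : ∀ c : A, (ρ c - 1) * (ρ c - 1) = 0 → ρ c⁻¹ = 1 - (ρ c - 1) := by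
    intro c hc
    have h1 : ρ c * (1 - (ρ c - 1)) = 1 := by
      calc ρ c * (1 - (ρ c - 1)) = 1 - (ρ c - 1) * (ρ c - 1) := by noncomm_ring
        _ = 1 := by rw [hc, sub_zero]
    calc ρ c⁻¹ = ρ c⁻¹ * (ρ c * (1 - (ρ c - 1))) := by rw [h1, mul_one]
      _ = 1 - (ρ c - 1) := by rw [← mul_assoc, ← map_mul, inv_mul_cancel, map_one, one_mul]
  have key : ∀ g ∈ Submonoid.closure ({a, b} : Set A), PairForm x y (ρ g) (ρ g⁻¹) := by
    intro g hg
    induction hg using Submonoid.closure_induction_right with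
    | one => exact ⟨1, 0, 0, 0, ⟨⟨.one_left _, .one_left _⟩, ⟨.zero_left _, .zero_left _⟩,
        ⟨.zero_left _, .zero_left _⟩, ⟨.zero_left _, .zero_left _⟩⟩, by simp, by simp⟩
    | mul_right g hg c hc ih =>
      rw [mul_inv_rev, map_mul, map_mul]
      rcases hc with rfl | hc
      · rw [hinv c ha, show ρ c = 1 + x by rw [hxdef, add_sub_cancel]]
        convert ih.mul_left_elem hx hy using 2 <;> simp [hxdef]
      · obtain rfl := Set.mem_singleton_iff.mp hc
        rw [hinv c hb, show ρ c = 1 + y by rw [hydef, add_sub_cancel]]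
        convert ih.mul_right_elem hy using 2 <;> simp [hydef]
  have hzm : z ∈ Submonoid.closure ({a, b} : Set A) := by
    rw [← Subgroup.closure_toSubmonoid_of_finite]; exact hz
  obtain ⟨c₀, c₁, c₂, c₃, ⟨h0, -, -, h3⟩, hu, hv⟩ := key z hzm
  rw [inv_eq_of_mul_eq_one_right hz2] at hv
  have hsum : ρ z + ρ z = (c₀ + c₀) + c₃ * (x * y + y * x) := by
    conv_lhs => arg 1; rw [hu]
    conv_lhs => arg 2; rw [hv]
    noncomm_ring
  have hc : Commute (ρ z + ρ z) x :=
    hsum ▸ (h0.1.add_left h0.1).add_left (h3.1.mul_left (commute_anticomm hx))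
  have h3' : (2 : K) • (ρ z * x) = (2 : K) • (x * ρ z) := by
    rw [two_smul, two_smul, ← add_mul, ← mul_add, hc.eq]
  have h4 : ρ z * x = x * ρ z := (smul_right_injective _ h2) h3'
  apply hinj
  rw [map_mul, map_mul, show ρ a = x + 1 by rw [hxdef, sub_add_cancel]]
  rw [mul_add, add_mul, h4, mul_one, one_mul]

end H4.RealZJ
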