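import Cfsg.Agent.H4.RealZJStep

/-!
If a nontrivial `p`-element (`p` odd) of a finite group is inverted by some element, then some
nontrivial element of a Sylow `p`-subgroup `P` is inverted by an element of `N(Z(J(P)))`.
-/

set_option autoImplicit false
set_option linter.style.haveILetI false

universe u

namespace H4.RealZJ

open Subgroup

/-- The conjugate of an inversion in `N(Z(J(·)))` under a homomorphism injective on the subgroup. -/
theorem map_inverted {G H : Type*} [Group G] [Finite G] [Group H] [Finite H] (f : G →* H)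
    (hf : Function.Injective f) (S : Subgroup G) {y v : G} (hy : y ∈ S) (hy1 : y ≠ 1)
    (hv : v ∈ normalizer (Cfsg.centerThompsonAOf S : Set G)) (hvy : v * y * v⁻¹ = y⁻¹) :
    f y ∈ S.map f ∧ f y ≠ 1 ∧ f v ∈ normalizer (Cfsg.centerThompsonAOf (S.map f) : Set H) ∧
      f v * f y * (f v)⁻¹ = (f y)⁻¹ := by
  refine ⟨⟨y, hy, rfl⟩, fun h => hy1 (hf (h.trans (map_one f).symm)), ?_,
    by rw [← map_mul, ← map_inv, ← map_mul, hvy, map_inv]⟩
  rw [← H11.map_centerThompsonAOf f S (fun x _ h => hf (h.trans (map_one f).symm))]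
  exact le_normalizer_map _ ⟨v, hv, rfl⟩

variable {p : ℕ} [hp : Fact p.Prime]

/-- An inverted nontrivial `p`-element gives one in `N(Z(J(P)))`. -/
theorem exists_inverted_in_zj_normalizer (hp2 : p ≠ 2) :
    ∀ (n : ℕ) (G : Type u) [Group G] [Finite G], Nat.card G ≤ n → ∀ (P : Sylow p G) (x g : G),
      IsPGroup p (zpowers x) → x ≠ 1 → g * x * g⁻¹ = x⁻¹ →
      ∃ y ∈ (P : Subgroup G), y ≠ 1 ∧
        ∃ v ∈ normalizer (Cfsg.centerThompsonAOf (P : Subgroup G) : Set G), v * y * v⁻¹ = y⁻¹ := by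
  intro n
  induction n with
  | zero => intro G _ _ hn; exact absurd (Nat.card_pos (α := G)) (by omega)
  | succ n ih =>
  intro G _ _ hn P x g hxp hx1 hgx
  by_contra hgoal
  push Not at hgoal
  -- proper subgroups
  have descend : ∀ M : Subgroup G, M ≠ ⊤ → ∀ R : Subgroup G, IsPGroup p R → R ≤ M →
      ∀ y ∈ M, IsPGroup p (zpowers y) → y ≠ 1 → ∀ w ∈ M, w * y * w⁻¹ = y⁻¹ →
      ∃ S : Subgroup G, IsPGroup p S ∧ R ≤ S ∧ S ≤ M ∧ ∃ y' ∈ S, y' ≠ 1 ∧
        ∃ v ∈ normalizer (Cfsg.centerThompsonAOf S : Set G), v * y' * v⁻¹ = y'⁻¹ := by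
    intro M hM R hR hRM y hy hyp hy1 w hw hwy
    obtain ⟨S, hS⟩ := (hR.comap_of_injective M.subtype M.subtype_injective :
      IsPGroup p (R.subgroupOf M)).exists_le_sylow
    have hlt := lt_of_le_of_ne (card_le_card_group M) fun e => hM (eq_top_of_card_eq M e)
    have hyp' : IsPGroup p (zpowers (⟨y, hy⟩ : M)) :=
      (hyp.comap_of_injective M.subtype M.subtype_injective).to_le
        (zpowers_le.mpr (mem_zpowers y))
    obtain ⟨y', hy', hy1', v, hv, hvy⟩ := ih M (by omega) S ⟨y, hy⟩ ⟨w, hw⟩ hyp'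
      (fun h => hy1 (congrArg Subtype.val h)) (Subtype.ext hwy)
    obtain ⟨h1, h2, h3, h4⟩ := map_inverted M.subtype M.subtype_injective _ hy' hy1' hv hvy
    refine ⟨(S : Subgroup M).map M.subtype, S.isPGroup'.map _, ?_, map_subtype_le _, _, h1, h2, _,
      h3, h4⟩
    conv_lhs => rw [← map_subgroupOf_eq_of_le hRM]
    exact map_mono hS
  have hover : ∀ M : Subgroup G, M ≠ ⊤ → (P : Subgroup G) ≤ M →
      ∀ y ∈ M, IsPGroup p (zpowers y) → y ≠ 1 → ∀ w ∈ M, w * y * w⁻¹ = y⁻¹ → False := by
    intro M hM hPM y hy hyp hy1 w hw hwy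
    obtain ⟨S, hSp, hPS, -, y', hy', hy1', v, hv, hvy⟩ :=
      descend M hM P P.isPGroup' hPM y hy hyp hy1 w hw hwy
    obtain rfl := P.is_maximal' hSp hPS
    exact hgoal y' hy' hy1' v hv hvy
  -- climbing through the normalizers of `Z(J(·))`
  have climb : ∀ (k : ℕ) (S : Subgroup G), IsPGroup p S → Nat.card G - Nat.card S = k →
      (∀ S' : Subgroup G, IsPGroup p S' → S ≤ S' → ¬ (Cfsg.centerThompsonAOf S').Normal) →
      ∀ y ∈ S, y ≠ 1 → ∀ v ∈ normalizer (Cfsg.centerThompsonAOf S : Set G),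
        v * y * v⁻¹ = y⁻¹ → False := by
    intro k
    induction k using Nat.strong_induction_on with
    | _ k ihk =>
    intro S hS hk hnn y hy hy1 v hv hvy
    obtain ⟨T, hT⟩ := hS.exists_le_sylow
    by_cases hTS : (T : Subgroup G) = S
    · obtain ⟨h, hh⟩ := MulAction.exists_smul_eq G T P
      have hmap : S.map (MulAut.conj h).toMonoidHom = (P : Subgroup G) := by
        rw [← hh, ← hTS]
        rfl
      obtain ⟨h1, h2, h3, h4⟩ := map_inverted (MulAut.conj h).toMonoidHom
        (MulAut.conj h).injective S hy hy1 hv hvy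
      rw [hmap] at h1 h3
      exact hgoal _ h1 h2 _ h3 h4
    · have hlt : S.subgroupOf (T : Subgroup G) < ⊤ := by
        refine lt_top_iff_ne_top.mpr fun h => hTS (le_antisymm ?_ hT)
        exact subgroupOf_eq_top.mp h
      haveI : Group.IsNilpotent (T : Subgroup G) := T.isPGroup'.isNilpotent
      obtain ⟨t, htN, htS⟩ := SetLike.exists_of_lt
        (Group.normalizerCondition_of_isNilpotent _ hlt)
      set R := (T : Subgroup G) ⊓ normalizer (S : Set G) with hR
      have htR : (t : G) ∈ R := by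
        refine ⟨t.2, mem_normalizer_iff.mpr fun s => ?_⟩
        constructor
        · intro hs
          exact mem_subgroupOf.mp ((mem_normalizer_iff.mp htN ⟨s, hT hs⟩).mp (mem_subgroupOf.mpr hs))
        · intro hs
          have hsT : s ∈ (T : Subgroup G) := by
            have := (T : Subgroup G).mul_mem ((T : Subgroup G).mul_mem
              ((T : Subgroup G).inv_mem t.2) (hT hs)) t.2
            simpa [mul_assoc] using this
          exact mem_subgroupOf.mp
            ((mem_normalizer_iff.mp htN ⟨s, hsT⟩).mpr (mem_subgroupOf.mpr hs))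
      have hSR : S ≤ R := le_inf hT Subgroup.le_normalizer
      set M := normalizer (Cfsg.centerThompsonAOf S : Set G) with hMdef
      have hM : M ≠ ⊤ := fun h => hnn S hS le_rfl (normalizer_eq_top_iff.mp h)
      have hRM : R ≤ M :=
        inf_le_right.trans (H11.normalizer_le_normalizer_centerThompsonAOf S)
      obtain ⟨S₁, hS₁, hRS₁, -, y₁, hy₁, hy₁1, v₁, hv₁, hvy₁⟩ :=
        descend M hM R (T.isPGroup'.to_le inf_le_left) hRM y
          (hRM (hSR hy)) (hS.to_le (zpowers_le.mpr hy)) hy1 v hv hvy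
      have hlt' : Nat.card S < Nat.card S₁ := by
        refine lt_of_le_of_ne (card_le_of_le (hSR.trans hRS₁)) fun e => htS ?_
        rw [mem_subgroupOf, eq_of_le_of_card_ge (hSR.trans hRS₁) e.ge]
        exact hRS₁ htR
      have hle : Nat.card S₁ ≤ Nat.card G := card_le_card_group S₁
      exact ihk _ (by omega) S₁ hS₁ rfl (fun S' h1 h2 => hnn S' h1 ((hSR.trans hRS₁).trans h2))
        y₁ hy₁ hy₁1 v₁ hv₁ hvy₁
  set Q := Cfsg.pCore p G with hQ
  haveI hQn : Q.Normal := H1.pCore_normal' p G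
  have hQp : IsPGroup p Q := H1.isPGroup_pCore p G
  have hQP : Q ≤ (P : Subgroup G) := H1.pCore_le_sylow P
  have hodd : ∀ {H : Type u} [Group H] (y : H), IsPGroup p (zpowers y) → y * y = 1 → y = 1 := by
    intro H _ y hy hy2
    obtain ⟨i, hi⟩ := hy ⟨y, mem_zpowers y⟩
    refine orderOf_eq_one_iff.mp (Nat.eq_one_of_dvd_coprimes (Nat.Coprime.pow_right i
      ((Nat.coprime_primes Nat.prime_two hp.out).mpr (Ne.symm hp2)))
      (orderOf_dvd_of_pow_eq_one ((pow_two y).trans hy2))
      (orderOf_dvd_of_pow_eq_one (congrArg Subtype.val hi)))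
  have hPn : ∀ D : Subgroup G, IsPGroup p D → D.Normal → D ≤ Q := fun D hD hDn => by
    haveI := hDn
    exact H1.le_pCore hD
  by_cases hQ1 : Q = ⊥
  · refine climb _ (zpowers x) hxp rfl ?_ x (mem_zpowers x) hx1 g ?_ hgx
    · intro S' hS' hle hnor
      have hS'1 : S' ≠ ⊥ := fun h => hx1 (by
        have := hle (mem_zpowers x)
        rwa [h, Subgroup.mem_bot] at this)
      refine H11.centerThompsonAOf_ne_bot hS' hS'1 (le_bot_iff.mp ?_)
      rw [← hQ1]
      exact hPn _ (hS'.to_le (H11.centerThompsonAOf_le S')) hnor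
    · refine H11.normalizer_le_normalizer_centerThompsonAOf _ ?_
      refine mem_normalizer_iff_map_conj_eq.mpr ?_
      rw [MonoidHom.map_zpowers]
      show zpowers (g * x * g⁻¹) = zpowers x
      rw [hgx, zpowers_inv]
  set π := QuotientGroup.mk' Q with hπ
  have hπs : Function.Surjective π := QuotientGroup.mk'_surjective Q
  by_cases hquot : ∃ a b : G ⧸ Q, IsPGroup p (zpowers a) ∧ a ≠ 1 ∧ b * a * b⁻¹ = a⁻¹
  · obtain ⟨a, b, hap, ha1, hba⟩ := hquot
    set P' := P.mapSurjective hπs with hP'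
    have hcard : Nat.card (G ⧸ Q) ≤ n := by
      have h1 := card_eq_card_quotient_mul_card_subgroup Q
      have h2 : 1 < Nat.card Q := Q.one_lt_card_iff_ne_bot.mpr hQ1
      have h3 : 0 < Nat.card (G ⧸ Q) := Nat.card_pos
      nlinarith
    obtain ⟨y', hy', hy1', v', hv', hvy'⟩ := ih (G ⧸ Q) hcard P' a b hap ha1 hba
    have hy'p : IsPGroup p (zpowers y') := P'.isPGroup'.to_le (zpowers_le.mpr hy')
    set M := (normalizer (Cfsg.centerThompsonAOf (P' : Subgroup (G ⧸ Q)) : Set (G ⧸ Q))).comap π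
      with hMdef
    have hM : M ≠ ⊤ := by
      intro h
      have hnor : (Cfsg.centerThompsonAOf (P' : Subgroup (G ⧸ Q))).Normal := by
        refine normalizer_eq_top_iff.mp ?_
        rw [← map_comap_eq_self_of_surjective hπs
          (normalizer (Cfsg.centerThompsonAOf (P' : Subgroup (G ⧸ Q)) : Set (G ⧸ Q))), ← hMdef, h,
          map_top_of_surjective π hπs]
      refine H11.centerThompsonAOf_ne_bot P'.isPGroup' ?_ (le_bot_iff.mp ?_)
      · intro hbot
        rw [hbot, Subgroup.mem_bot] at hy'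
        exact hy1' hy'
      · rw [← H1.pCore_quotient_pCore p G]
        exact H1.le_pCore (P'.isPGroup'.to_le (H11.centerThompsonAOf_le _))
    have hPM : (P : Subgroup G) ≤ M := by
      rw [hMdef, ← map_le_iff_le_comap, ← Sylow.coe_mapSurjective hπs P, ← hP']
      exact Subgroup.le_normalizer.trans (H11.normalizer_le_normalizer_centerThompsonAOf _)
    obtain ⟨v, rfl⟩ := hπs v'
    obtain ⟨y, hy, rfl⟩ : y' ∈ (P : Subgroup G).map π := by
      rwa [← Sylow.coe_mapSurjective hπs P, ← hP']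
    set R := (zpowers (π y)).comap π with hR
    have hRp : IsPGroup p R := hy'p.comap_of_ker_isPGroup π (by rw [QuotientGroup.ker_mk']; exact hQp)
    have hRM : R ≤ M := by
      refine comap_mono (zpowers_le.mpr ?_)
      exact Subgroup.le_normalizer.trans (H11.normalizer_le_normalizer_centerThompsonAOf _) hy'
    have hvR : v ∈ normalizer (R : Set G) := by
      refine le_normalizer_comap π ?_
      refine mem_comap.mpr (mem_normalizer_iff_map_conj_eq.mpr ?_)
      rw [MonoidHom.map_zpowers]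
      show zpowers (π v * π y * (π v)⁻¹) = zpowers (π y)
      rw [hvy', zpowers_inv]
    obtain ⟨z, hz, hz1, w, hw, hwz⟩ := exists_inverted_of_map π R (y := y) (mem_zpowers (π y)) hvR
      hvy' (fun h => hy1' (hodd (π y) hy'p h))
    exact hover M hM hPM z (hRM hz) (hRp.to_le (zpowers_le.mpr hz)) hz1 w
      ((zpowers_le.mpr (show v ∈ M from hv')) hw) hwz
  -- so `x ∈ Q`
  have hxQ : x ∈ Q := by
    refine (QuotientGroup.eq_one_iff x).mp ?_
    by_contra h1
    exact hquot ⟨π x, π g, by rw [← MonoidHom.map_zpowers]; exact hxp.map π, h1,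
      by rw [← map_mul, ← map_inv, ← map_mul, hgx, map_inv]⟩
  set C := centralizer (Q : Set G) with hC
  haveI hCn : C.Normal := inferInstance
  set L := (Cfsg.pCore p (G ⧸ C)).comap (QuotientGroup.mk' C) with hLdef
  haveI hLn : L.Normal := (H1.pCore_normal' p (G ⧸ C)).comap _
  have hL : (P : Subgroup G) ⊓ L ≤ Q := by
    by_contra hnot
    set T := (P : Subgroup G) ⊓ L with hT
    set M := normalizer (T : Set G) with hMdef
    have hM : M ≠ ⊤ := fun h => hnot (hPn T (P.isPGroup'.to_le inf_le_left)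
      (normalizer_eq_top_iff.mp h))
    have hPM : (P : Subgroup G) ≤ M := fun s hs => H11.mem_normalizer_of_forall fun w hw =>
      ⟨(P : Subgroup G).mul_mem ((P : Subgroup G).mul_mem hs hw.1) ((P : Subgroup G).inv_mem hs),
        hLn.conj_mem w hw.2 s⟩
    have hsup : C ⊔ M = ⊤ := by
      refine top_le_iff.mp ?_
      rw [← H11.normalizer_inf_sup_eq_top P L]
      exact sup_le le_sup_right ((le_sup_inf_of_pQuotient P C).trans
        (sup_le le_sup_left (le_sup_of_le_right Subgroup.le_normalizer)))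
    obtain ⟨c, hc, m, hm, hcm⟩ := mem_sup_of_normal_left.mp (show g ∈ C ⊔ M from hsup ▸ mem_top g)
    refine hover M hM hPM x (hPM (hQP hxQ)) hxp hx1 m hm ?_
    have h1 : c * (m * x * m⁻¹) = m * x * m⁻¹ * c :=
      (mem_centralizer_iff.mp hc _ (hQn.conj_mem x hxQ m)).symm
    calc m * x * m⁻¹ = c * (m * x * m⁻¹) * c⁻¹ := by rw [h1, mul_inv_cancel_right]
      _ = (c * m) * x * (c * m)⁻¹ := by group
      _ = x⁻¹ := by rw [hcm, hgx]
  -- stability for the elements that occur
  have hnor : (Cfsg.centerThompsonAOf (P : Subgroup G)).Normal := by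
    refine zj_normal_of_stable hp2 P hL fun N _ hN A hA a ha hZA hq => ?_
    by_contra hna
    obtain ⟨M, hM, hMc, y, hy, hyp, hy1, w, hw, hwy⟩ :=
      exists_proper_real_of_quad hp2 N hN a hq hna
    have hAM : A ≤ M := fun b hb => hMc b (H11.comm_of_mulCommutative hA.2.1 hb ha).eq
    obtain ⟨S, hS, hAS, -, y', hy', hy1', v, hv, hvy⟩ :=
      descend M hM A (P.isPGroup'.to_le hA.1) hAM y hy hyp hy1 w hw hwy
    refine climb _ S hS rfl (fun S' hS' hle hn' => hZA ?_) y' hy' hy1' v hv hvy
    set Z := Cfsg.centerThompsonAOf (P : Subgroup G) with hZ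
    set Z' := Cfsg.centerThompsonAOf S' with hZ'
    obtain ⟨T, hT⟩ := hS'.exists_le_sylow
    obtain ⟨h, hh⟩ := MulAction.exists_smul_eq G T P
    set e := (MulAut.conj h).toMonoidHom with he
    have hinj : Function.Injective e := (MulAut.conj h).injective
    have hS'P : S'.map e ≤ (P : Subgroup G) := by
      rw [← hh]
      exact map_mono hT
    have hcard : ∀ B : Subgroup G, Nat.card (B.map e) = Nat.card B := fun B =>
      card_map_of_injective hinj
    have hAe : A.map e ∈ H11.maxFam (fun B : Subgroup G => IsMulCommutative B) (P : Subgroup G) :=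
      ⟨(map_mono (hAS.trans hle)).trans hS'P, H11.isMulCommutative_map hA.2.1 e,
        fun B hB hB' => (hcard A).symm ▸ hA.2.2 B hB hB'⟩
    have hAS' : A ∈ H11.maxFam (fun B : Subgroup G => IsMulCommutative B) S' :=
      ⟨hAS.trans hle, hA.2.1, fun B hB hB' => by
        rw [← hcard B]
        exact hA.2.2 _ ((map_mono hB).trans hS'P) (H11.isMulCommutative_map hB' e)⟩
    have hZZ : Z ≤ Cfsg.centerThompsonAOf (S'.map e) := by
      rw [hZ, H11.centerThompsonAOf_eq, H11.centerThompsonAOf_eq]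
      exact sInf_le_sInf (H11.maxFam_subset_of_mem hS'P hAe (map_mono (hAS.trans hle)))
    rw [← H11.map_centerThompsonAOf e S' (fun w _ hw1 => hinj (hw1.trans (map_one e).symm)),
      ← hZ'] at hZZ
    have hfix : Z'.map e = Z' := hn'.map_conj_eq (H := Z') h
    rw [hfix] at hZZ
    haveI := hn'
    refine ⟨hZZ.trans (hPn Z' (hS'.to_le (H11.centerThompsonAOf_le S')) hn'),
      (normalClosure_le_normal hZZ).trans ?_⟩
    rw [hZ', H11.centerThompsonAOf_eq]
    exact sInf_le hAS'
  exact hgoal x (hQP hxQ) hx1 g (by rw [normalizer_eq_top_iff.mpr hnor]; exact mem_top g) hgx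

end H4.RealZJ
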