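import Cfsg.Agent.H4.RealLift
import Cfsg.Agent.H4.QuadInvolution
import Cfsg.Agent.H11.PStable
import Cfsg.Agent.H10.PStability
import Cfsg.Agent.H65.BaerSuzuki
import Cfsg.Agent.H1.CoprimeAction2

/-!
Two steps towards "an inverted `p`-element gives one in `N(Z(J(P)))`": a quadratic element outside
`O_p` gives a proper subgroup of even order containing its centralizer part, and a variant of the
ZJ-theorem in which stability is only asked for the elements that occur in the proof.
-/

set_option autoImplicit false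
set_option linter.style.haveILetI false

namespace H4.RealZJ

open Subgroup
open scoped commutatorElement

variable {G : Type*} [Group G] [Finite G] {p : ℕ} [hp : Fact p.Prime]

/-- The subgroup constructed from a quadratic element that is not `p`-stable. -/
theorem exists_proper_real_of_quad (hp2 : p ≠ 2) (N : Subgroup G) [hNn : N.Normal]
    (hN : IsPGroup p N) (a : G) (hq : ⁅⁅N, zpowers a⁆, zpowers a⁆ = ⊥)
    (hna : (QuotientGroup.mk a : G ⧸ centralizer (N : Set G)) ∉
      Cfsg.pCore p (G ⧸ centralizer (N : Set G))) :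
    ∃ M : Subgroup G, M ≠ ⊤ ∧ (∀ b, b * a = a * b → b ∈ M) ∧
      ∃ y ∈ M, IsPGroup p (zpowers y) ∧ y ≠ 1 ∧ ∃ g ∈ M, g * y * g⁻¹ = y⁻¹ := by
  set Φ := (frattini ↥N).map N.subtype with hΦ
  haveI hΦn : Φ.Normal := H10.map_frattini_subtype_normal hNn
  set π := QuotientGroup.mk' Φ with hπ
  have hπs : Function.Surjective π := QuotientGroup.mk'_surjective Φ
  set V := N.map π with hV
  haveI hVn : V.Normal := hNn.map π hπs
  obtain ⟨hΦ1, hΦ2⟩ := H10.elementaryAbelian_pCore_section.frattini_quotient (p := p) hN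
  have hmk : ∀ z : ↥N, z ∈ frattini ↥N → π (z : G) = 1 := fun z hz =>
    (QuotientGroup.eq_one_iff _).mpr ⟨z, hz, rfl⟩
  have hVel : Cfsg.IsElementaryAbelian p V := by
    refine ⟨⟨⟨?_⟩⟩, ?_⟩
    · rintro ⟨_, x, hx, rfl⟩ ⟨_, y, hy, rfl⟩
      refine Subtype.ext ?_
      have := hmk _ (hΦ1 ⟨x, hx⟩ ⟨y, hy⟩)
      simp only [coe_mul, coe_inv, map_mul, map_inv] at this
      rw [mul_inv_eq_one, mul_inv_eq_iff_eq_mul] at this
      exact this
    · rintro _ ⟨x, hx, rfl⟩
      have := hmk _ (hΦ2 ⟨x, hx⟩)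
      simpa using this
  set q := QuotientGroup.mk' (centralizer (V : Set (G ⧸ Φ))) with hqdef
  set f := q.comp π with hf
  have hfs : Function.Surjective f := (QuotientGroup.mk'_surjective _).comp hπs
  have hker : ∀ d : G, f d = 1 ↔ ∀ k ∈ N, d * k * d⁻¹ * k⁻¹ ∈ Φ := by
    intro d
    refine (QuotientGroup.eq_one_iff (π d)).trans ⟨fun h k hk => ?_, fun h => ?_⟩
    · refine (QuotientGroup.eq_one_iff _).mp ?_
      show π (d * k * d⁻¹ * k⁻¹) = 1
      rw [map_mul, map_mul, map_mul, ← mem_centralizer_iff.mp h (π k) ⟨k, hk, rfl⟩, map_inv,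
        map_inv]
      group
    · refine mem_centralizer_iff.mpr ?_
      rintro _ ⟨k, hk, rfl⟩
      have h1 : π (d * k * d⁻¹ * k⁻¹) = 1 := (QuotientGroup.eq_one_iff _).mpr (h k hk)
      rw [map_mul, map_mul, map_mul, map_inv, map_inv, mul_inv_eq_one, mul_inv_eq_iff_eq_mul] at h1
      exact h1.symm
  set C := centralizer (N : Set G) with hC
  haveI hCn : C.Normal := inferInstance
  have hCker : ∀ c ∈ C, f c = 1 := fun c hc => (hker c).mpr fun k hk => by
    rw [← mem_centralizer_iff.mp hc k hk, mul_inv_cancel_right, mul_inv_cancel]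
    exact one_mem _
  -- the kernel of the action on `N / Φ(N)` is a `p`-group modulo `C`
  have hdp : ∀ d : G, f d = 1 → ∃ j, d ^ p ^ j ∈ C := by
    intro d hd
    obtain ⟨u, v, huv, ⟨j, hj⟩, hv, hud, hvd⟩ := H5.exists_p_decomposition (p := p) d
    refine ⟨j, ?_⟩
    have hvC : v ∈ C := by
      refine H1.le_centralizer_of_frattini (A := zpowers v) ?_ ?_ ?_ (mem_zpowers v)
      · rw [normalizer_eq_top]; exact le_top
      · rw [Nat.card_zpowers]
        obtain ⟨n, hn⟩ := IsPGroup.iff_card.mp (hN.to_subgroup (frattini ↥N))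
        rw [hn]
        exact hv.pow_right n
      · intro w hw k hk
        refine (hker w).mp ?_ k hk
        exact (show zpowers v ≤ f.ker from zpowers_le.mpr ((zpowers_le.mpr
          (show d ∈ f.ker from hd)) hvd)) hw
    have hcm : Commute u v := by
      obtain ⟨i, rfl⟩ := hud
      obtain ⟨i', rfl⟩ := hvd
      exact (Commute.refl d).zpow_zpow i i'
    rw [huv, hcm.mul_pow, hj, one_mul]
    exact pow_mem hvC _
  have hX := H1.pCore_normal' p ((G ⧸ Φ) ⧸ centralizer (V : Set (G ⧸ Φ)))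
  have hna' : f a ∉ Cfsg.pCore p ((G ⧸ Φ) ⧸ centralizer (V : Set (G ⧸ Φ))) := by
    intro h
    apply hna
    set L := (Cfsg.pCore p ((G ⧸ Φ) ⧸ centralizer (V : Set (G ⧸ Φ)))).comap f with hL
    haveI : (L.map (QuotientGroup.mk' C)).Normal :=
      (hX.comap f).map _ (QuotientGroup.mk'_surjective C)
    refine H1.le_pCore (N := L.map (QuotientGroup.mk' C)) ?_ ⟨a, h, rfl⟩
    rintro ⟨_, w, hw, rfl⟩
    obtain ⟨i, hi⟩ := H1.isPGroup_pCore p _ ⟨f w, hw⟩
    obtain ⟨j, hj⟩ := hdp (w ^ p ^ i) (by rw [map_pow]; exact congrArg Subtype.val hi)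
    refine ⟨i + j, Subtype.ext ?_⟩
    show QuotientGroup.mk' C w ^ p ^ (i + j) = 1
    rw [pow_add, pow_mul, ← map_pow, ← map_pow]
    exact (QuotientGroup.eq_one_iff _).mpr hj
  obtain ⟨n, ρ, hinj, hquad⟩ := H10.exists_quotient_rep V hVel
  have haq : H10.IsQuadEnd ρ (f a) := hquad (π a) (H10.IsQuadOn.map π (by rw [hq]; exact bot_le))
  obtain ⟨g, hg⟩ : ∃ g, ¬ IsPGroup p ↥(closure ({f a, g * f a * g⁻¹} : Set _)) := by
    by_contra hall
    push Not at hall
    exact hna' (H65.mem_pCore_of_pairs hall)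
  set B := closure ({f a, g * f a * g⁻¹} : Set _) with hB
  have hgen : closure ({(⟨f a, subset_closure (Set.mem_insert _ _)⟩ : B),
      ⟨g * f a * g⁻¹, subset_closure (Set.mem_insert_of_mem _ rfl)⟩} : Set B) = ⊤ := by
    apply map_injective B.subtype_injective
    rw [MonoidHom.map_closure, Set.image_pair, ← MonoidHom.range_eq_map, range_subtype]
    rfl
  haveI : Fact (Nat.Prime 2) := ⟨Nat.prime_two⟩
  obtain ⟨T⟩ := (inferInstance : Nonempty (Sylow 2 B))
  have hTc := H10.end_pair_not_comm (ρ := ρ.comp B.subtype) hp2 (hinj.comp B.subtype_injective)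
    hgen haq (haq.conj g) hg T
  have h2B : 2 ∣ Nat.card B := by
    by_contra hodd
    apply hTc
    have h1 : Nat.card (T : Subgroup B) = 1 := by
      obtain ⟨k, hk⟩ := IsPGroup.iff_card.mp T.isPGroup'
      rcases k with _ | k
      · rw [hk, pow_zero]
      · exact absurd ((dvd_pow_self 2 k.succ_ne_zero).trans (hk ▸ card_subgroup_dvd_card _)) hodd
    rw [eq_bot_of_card_eq _ h1]
    exact H11.isMulCommutative_bot
  obtain ⟨z, hz⟩ := exists_prime_orderOf_dvd_card' (G := B) 2 h2B
  have hzsq : (z : _) * (z : (G ⧸ Φ) ⧸ centralizer (V : Set (G ⧸ Φ))) = 1 := by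
    rw [← coe_mul, ← pow_two, ← hz, pow_orderOf_eq_one, coe_one]
  have hzne : (z : (G ⧸ Φ) ⧸ centralizer (V : Set (G ⧸ Φ))) ≠ 1 := fun h => by
    rw [show z = 1 from Subtype.ext h, orderOf_one] at hz
    omega
  have h2K : (2 : AlgebraicClosure (ZMod p)) ≠ 0 := by
    refine Ring.two_ne_zero ?_
    rw [ringChar.eq (AlgebraicClosure (ZMod p)) p]
    exact hp2
  have hza := pair_involution_commute h2K ρ hinj (f a) (g * f a * g⁻¹) haq (haq.conj g)
    (z : _) z.2 hzsq
  -- the preimage of the centralizer of the image of `a`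
  set M := (centralizer ({f a} : Set ((G ⧸ Φ) ⧸ centralizer (V : Set (G ⧸ Φ))))).comap f with hM
  refine ⟨M, ?_, ?_, ?_⟩
  · intro htop
    apply hna'
    haveI : (zpowers (f a)).Normal := by
      refine ⟨fun w hw x => ?_⟩
      obtain ⟨x, rfl⟩ := hfs x
      have hxM : f x ∈ centralizer ({f a} : Set _) := (htop ▸ mem_top x : x ∈ M)
      obtain ⟨i, rfl⟩ := hw
      have hc : Commute (f x) (f a) := (mem_centralizer_iff.mp hxM (f a) rfl).symm
      show f x * f a ^ i * (f x)⁻¹ ∈ _
      rw [(hc.zpow_right i).eq, mul_inv_cancel_right]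
      exact zpow_mem (mem_zpowers _) i
    refine H1.le_pCore (N := zpowers (f a)) ?_ (mem_zpowers _)
    refine IsPGroup.of_card_dvd_pow (n := 1) ?_
    rw [Nat.card_zpowers, pow_one]
    exact orderOf_dvd_of_pow_eq_one (haq.pow_eq_one hinj)
  · intro b hb
    refine mem_centralizer_iff.mpr ?_
    rintro _ rfl
    rw [← map_mul, ← map_mul, hb]
  obtain ⟨t₀, ht₀⟩ := hfs z
  obtain ⟨m, k, ⟨j, hj⟩, hk⟩ := exists_odd_pow_two_pow t₀
  have hft : f (t₀ ^ m) = z := by
    rw [map_pow, ht₀, hj, pow_succ, pow_mul, pow_two, hzsq, one_pow, one_mul]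
  have htM : t₀ ^ m ∈ M := by
    refine mem_comap.mpr ?_
    rw [hft]
    refine mem_centralizer_iff.mpr ?_
    rintro _ rfl
    exact hza.symm
  obtain ⟨y, hy, hy1, g', hg', hgy⟩ := exists_inverted_of_two_pow N k (t₀ ^ m) hk
    (by rw [normalizer_eq_top]; exact mem_top _)
    (fun hc => hzne (by rw [← hft]; exact hCker _ hc))
  have hyM : y ∈ M := by
    refine mem_comap.mpr ?_
    rw [(hker y).mpr fun k hk => ⟨⟨y, hy⟩ * ⟨k, hk⟩ * ⟨y, hy⟩⁻¹ * ⟨k, hk⟩⁻¹, hΦ1 _ _, rfl⟩]
    exact one_mem _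
  exact ⟨y, hyM, hN.to_le (zpowers_le.mpr hy), hy1, g', (zpowers_le.mpr htM) hg', hgy⟩

/-- A `p`-quotient is covered by the Sylow subgroup. -/
theorem le_sup_inf_of_pQuotient (S : Sylow p G) (C : Subgroup G) [C.Normal] :
    (Cfsg.pCore p (G ⧸ C)).comap (QuotientGroup.mk' C) ≤
      C ⊔ (S : Subgroup G) ⊓ (Cfsg.pCore p (G ⧸ C)).comap (QuotientGroup.mk' C) := by
  intro w hw
  obtain ⟨s, hs, hse⟩ : (QuotientGroup.mk w : G ⧸ C) ∈ (S : Subgroup G).map (QuotientGroup.mk' C) := by
    rw [← Sylow.coe_mapSurjective (QuotientGroup.mk'_surjective C)]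
    exact H1.pCore_le_sylow _ hw
  have hsw : w * s⁻¹ ∈ C := by
    refine (QuotientGroup.eq_one_iff _).mp ?_
    rw [QuotientGroup.mk_mul, QuotientGroup.mk_inv,
      show (QuotientGroup.mk s : G ⧸ C) = QuotientGroup.mk w from hse, mul_inv_cancel]
  have hsL : s ∈ (Cfsg.pCore p (G ⧸ C)).comap (QuotientGroup.mk' C) := by
    refine mem_comap.mpr ?_
    rw [hse]
    exact hw
  rw [show w = w * s⁻¹ * s by group]
  exact mul_mem (mem_sup_left hsw) (mem_sup_right ⟨hs, hsL⟩)

/-- The ZJ-theorem with stability only for the elements that occur in the proof. -/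
theorem zj_normal_of_stable (hp2 : p ≠ 2) (S : Sylow p G)
    (hL : (S : Subgroup G) ⊓ ((Cfsg.pCore p (G ⧸ centralizer (Cfsg.pCore p G : Set G))).comap
        (QuotientGroup.mk' (centralizer (Cfsg.pCore p G : Set G)))) ≤ Cfsg.pCore p G)
    (hst : ∀ (N : Subgroup G) [N.Normal], IsPGroup p N →
      ∀ A ∈ H11.maxFam (fun A : Subgroup G => IsMulCommutative A) (S : Subgroup G), ∀ a ∈ A,
      ¬ (Cfsg.centerThompsonAOf (S : Subgroup G) ≤ Cfsg.pCore p G ∧
          normalClosure (Cfsg.centerThompsonAOf (S : Subgroup G) : Set G) ≤ A) →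
      ⁅⁅N, zpowers a⁆, zpowers a⁆ = ⊥ →
      (QuotientGroup.mk a : G ⧸ centralizer (N : Set G)) ∈
        Cfsg.pCore p (G ⧸ centralizer (N : Set G))) :
    (Cfsg.centerThompsonAOf (S : Subgroup G)).Normal := by
  rw [H11.centerThompsonAOf_eq] at hst ⊢
  have hP := H11.replProp_comm (G := G)
  set P := fun A : Subgroup G => IsMulCommutative A with hPdef
  set Z := sInf (H11.maxFam P (S : Subgroup G)) with hZdef
  have hZS : Z ≤ (S : Subgroup G) := H11.sInf_maxFam_le hP _
  have hZc : IsMulCommutative Z := H11.isMulCommutative_sInf_maxFam hP _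
  have hSZ : (S : Subgroup G) ≤ normalizer (Z : Set G) :=
    Subgroup.le_normalizer.trans (H11.normalizer_le_normalizer_sInf_maxFam hP _)
  have hQS : Cfsg.pCore p G ≤ (S : Subgroup G) := H1.pCore_le_sylow S
  have hQn := H1.pCore_normal' p G
  have hQp := H1.isPGroup_pCore p G
  have hZQ : Z ≤ Cfsg.pCore p G := by
    intro a ha
    by_contra haQ
    obtain ⟨A, hA⟩ := H11.maxFam_nonempty (P := P) H11.isMulCommutative_bot (S : Subgroup G)
    have hq : ⁅⁅Cfsg.pCore p G, zpowers a⁆, zpowers a⁆ = ⊥ := by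
      have hle : ⁅Cfsg.pCore p G, zpowers a⁆ ≤ Z := by
        rw [commutator_le]
        intro q hq x hx
        have hxZ : x ∈ Z := zpowers_le.mpr ha hx
        rw [commutatorElement_def]
        exact mul_mem ((mem_normalizer_iff.mp (hSZ (hQS hq)) x).mp hxZ) (inv_mem hxZ)
      rw [eq_bot_iff]
      refine (commutator_mono hle (zpowers_le.mpr ha)).trans ?_
      rw [commutator_le]
      intro x hx y hy
      rw [Subgroup.mem_bot, commutatorElement_eq_one_iff_mul_comm]
      exact (H11.comm_of_mulCommutative hZc hx hy).eq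
    exact haQ (hL ⟨hZS ha, hst (Cfsg.pCore p G) hQp A hA a (sInf_le hA ha)
      (fun h => haQ (h.1 ha)) hq⟩)
  suffices H : ∀ n : ℕ, ∀ B : Subgroup G, B.Normal → IsPGroup p B → Nat.card B ≤ n →
      (B ⊓ Z).Normal by
    have := H _ _ hQn hQp le_rfl
    rwa [inf_eq_right.mpr hZQ] at this
  intro n
  induction n with
  | zero => intro B _ _ h; exact absurd h (not_le.mpr Nat.card_pos)
  | succ n ih =>
    intro B hBn hBp hBc
    set B1 := normalClosure ((B ⊓ Z : Subgroup G) : Set G) with hB1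
    have hB1B : B1 ≤ B := normalClosure_le_normal inf_le_left
    by_cases hB1eq : B1 = B
    swap
    · have hlt : Nat.card B1 < Nat.card B :=
        lt_of_le_of_ne (card_le_of_le hB1B) fun heq =>
          hB1eq (eq_of_le_of_card_ge hB1B heq.ge)
      have := ih B1 normalClosure_normal (hBp.to_le hB1B) (by omega)
      have heq : B1 ⊓ Z = B ⊓ Z := le_antisymm (inf_le_inf_right Z hB1B)
        (le_inf le_normalClosure inf_le_right)
      rwa [heq] at this
    by_cases hBbot : B = ⊥
    · rw [hBbot, bot_inf_eq]; infer_instance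
    have hBS : B ≤ (S : Subgroup G) := hBp.le_sylow_of_normal S
    have hB'lt : ⁅B, B⁆ < B := by
      have : Nontrivial B := (nontrivial_iff_ne_bot B).mpr hBbot
      have : Group.IsNilpotent B := hBp.isNilpotent
      have h := Group.IsSolvable.commutator_lt_top_of_nontrivial (G := B)
      have h2 := (map_lt_map_iff_of_injective B.subtype_injective).mpr h
      rwa [_root_.commutator_def, map_commutator, ← MonoidHom.range_eq_map, range_subtype] at h2
    have hT : (⁅B, B⁆ ⊓ Z).Normal := by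
      refine ih _ (commutator_normal B B) (hBp.to_le hB'lt.le) ?_
      have : Nat.card ↥⁅B, B⁆ < Nat.card B :=
        lt_of_le_of_ne (card_le_of_le hB'lt.le) fun heq =>
          hB'lt.ne (eq_of_le_of_card_ge hB'lt.le heq.ge)
      omega
    have hB'Z : ⁅B, B⁆ ≤ Z := by
      set T := ⁅B, B⁆ ⊓ Z with hTdef
      have : (B.map (QuotientGroup.mk' T)).Normal := hBn.map _ (QuotientGroup.mk'_surjective T)
      have hle : B1 ≤ (centralizer ((B.map (QuotientGroup.mk' T) : Subgroup (G ⧸ T)) :
          Set (G ⧸ T))).comap (QuotientGroup.mk' T) := by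
        refine normalClosure_le_normal ?_
        intro x hx
        rw [SetLike.mem_coe, mem_comap, mem_centralizer_iff]
        rintro _ ⟨y, hy, rfl⟩
        rw [← commutatorElement_eq_one_iff_mul_comm, ← map_commutatorElement,
          QuotientGroup.mk'_apply, QuotientGroup.eq_one_iff]
        refine mem_inf.mpr ⟨commutator_mem_commutator hy hx.1, ?_⟩
        rw [commutatorElement_def]
        exact mul_mem ((mem_normalizer_iff.mp (hSZ (hBS hy)) x).mp hx.2) (inv_mem hx.2)
      rw [hB1eq] at hle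
      refine (?_ : ⁅B, B⁆ ≤ T).trans inf_le_right
      rw [commutator_le]
      intro x hx y hy
      have := hle hy
      rw [mem_comap, mem_centralizer_iff] at this
      rw [← QuotientGroup.eq_one_iff, ← QuotientGroup.mk'_apply, map_commutatorElement,
        commutatorElement_eq_one_iff_mul_comm]
      exact this _ ⟨x, hx, rfl⟩
    by_cases hall : ∀ U ∈ H11.maxFam P (S : Subgroup G), B ≤ U
    · rw [inf_eq_left.mpr (le_sInf hall)]
      exact hBn
    push Not at hall
    obtain ⟨U, hU, hUB⟩ := hall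
    obtain ⟨A, hA, -, hAB, hAn⟩ := H11.exists_normalized_of_not_le hP hp2 (S : Subgroup G)
      S.isPGroup' (S : Subgroup G) B le_rfl hBS Subgroup.le_normalizer
      (by rw [normalizer_eq_top]; exact le_top) ⟨U, hU, hB'Z.trans (sInf_le hU), hUB⟩
    exfalso
    apply hAB
    set C := centralizer (B : Set G) with hC
    have hCn : C.Normal := inferInstance
    set L := (Cfsg.pCore p (G ⧸ C)).comap (QuotientGroup.mk' C) with hLdef
    have hLn : L.Normal := (H1.pCore_normal' p (G ⧸ C)).comap _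
    have hBZ : ¬ normalClosure (Z : Set G) ≤ A := fun h => hAB
      (hB1eq ▸ (normalClosure_mono (show ((B ⊓ Z : Subgroup G) : Set G) ⊆ Z from
        fun _ hx => hx.2)).trans h)
    have hAL : A ≤ L := by
      intro a ha
      refine hst B hBp A hA a ha (fun h => hBZ h.2) ?_
      have hle : ⁅B, zpowers a⁆ ≤ A := by
        rw [commutator_le]
        intro y hy x hx
        have hxA : x ∈ A := zpowers_le.mpr ha hx
        rw [commutatorElement_def]
        exact mul_mem ((mem_normalizer_iff.mp (hAn hy) x).mp hxA) (inv_mem hxA)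
      rw [eq_bot_iff]
      refine (commutator_mono hle (zpowers_le.mpr ha)).trans ?_
      rw [commutator_le]
      intro x hx y hy
      rw [Subgroup.mem_bot, commutatorElement_eq_one_iff_mul_comm]
      exact (H11.comm_of_mulCommutative (hP.comm A hA.2.1) hx hy).eq
    have hNT := H11.normalizer_inf_sup_eq_top S L
    set T := (S : Subgroup G) ⊓ L with hTdef
    have hLle : L ≤ C ⊔ T := le_sup_inf_of_pQuotient S C
    set Z1 := sInf (H11.maxFam P T) with hZ1
    have hAfam : A ∈ H11.maxFam P T := H11.mem_maxFam_of_mem inf_le_left hA (le_inf hA.1 hAL)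
    have hZZ1 : Z ≤ Z1 := sInf_le_sInf (H11.maxFam_subset_of_mem inf_le_left hA (le_inf hA.1 hAL))
    have hK : (B ⊓ Z1).Normal := by
      rw [← normalizer_eq_top_iff, eq_top_iff, ← hNT]
      have hN : normalizer (T : Set G) ≤ normalizer ((B ⊓ Z1 : Subgroup G) : Set G) :=
        fun g hg => H11.mem_normalizer_of_forall fun x hx => ⟨hBn.conj_mem x hx.1 g,
          (mem_normalizer_iff.mp (H11.normalizer_le_normalizer_sInf_maxFam hP T hg) x).mp hx.2⟩
      refine sup_le hN (hLle.trans (sup_le ?_ (Subgroup.le_normalizer.trans hN)))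
      intro g hg
      refine H11.mem_normalizer_of_forall fun x hx => ?_
      have : g * x * g⁻¹ = x := by
        rw [← mem_centralizer_iff.mp hg x hx.1, mul_inv_cancel_right]
      rw [this]
      exact hx
    have hBK : B1 ≤ B ⊓ Z1 := normalClosure_le_normal (fun x hx => ⟨hx.1, hZZ1 hx.2⟩)
    rw [hB1eq] at hBK
    exact (hBK.trans inf_le_right).trans (sInf_le hAfam)

end H4.RealZJ
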