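import Cfsg.Agent.H4.NilpotentHall
import Cfsg.Agent.H3.SsTower

/-!
Supersolvable Hall subgroups of the same order are conjugate.
-/

set_option autoImplicit false

namespace H4

open Pointwise

universe u

variable {G : Type u} [Group G] [Finite G]

theorem ss_conj_smul {H : Subgroup G} (hH : Cfsg.IsSupersolvable H) (x : G) :
    Cfsg.IsSupersolvable (MulAut.conj x • H : Subgroup G) :=
  H3.ss_congr (Subgroup.equivSMul (MulAut.conj x) H) hH

theorem exists_sylow_le_normalizer_of_ss {H : Subgroup G} (hss : Cfsg.IsSupersolvable H)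
    (hH : (Nat.card H).Coprime H.index) {p : ℕ} [Fact p.Prime] (hp : p ∣ Nat.card H)
    (hmax : ∀ q : ℕ, q.Prime → q ∣ Nat.card H → q ≤ p) :
    ∃ T : Sylow p G, (T : Subgroup G) ≤ H ∧
      H ≤ Subgroup.normalizer ((T : Subgroup G) : Set G) := by
  obtain ⟨T, hT⟩ := exists_sylow_le_of_hall hH hp
  refine ⟨T, hT, ?_⟩
  have := H3.exists_normal_sylow_of_max_prime hss p hmax (T.subtype hT)
  rw [Sylow.coe_subtype] at this
  exact (Subgroup.normal_subgroupOf_iff_le_normalizer hT).mp this

theorem ss_hall_conj_aux : ∀ (n : ℕ) {G : Type u} [Group G] [Finite G] (H K : Subgroup G),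
    Nat.card G = n → Cfsg.IsSupersolvable H → Cfsg.IsSupersolvable K →
    Nat.card H = Nat.card K → (Nat.card H).Coprime H.index → ∃ x : G, MulAut.conj x • H = K := by
  intro n
  induction n using Nat.strong_induction_on with
  | _ n ih =>
  intro G _ _ H K hn hH hK hcard hHall
  have hKHall : (Nat.card K).Coprime K.index := by
    have h : K.index = H.index := by
      have h1 := K.card_mul_index
      rw [← H.card_mul_index, ← hcard] at h1
      exact Nat.eq_of_mul_eq_mul_left Nat.card_pos h1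
    rw [← hcard, h]; exact hHall
  by_cases h1 : Nat.card H = 1
  · exact ⟨1, by rw [map_one, one_smul, H.eq_bot_of_card_eq h1, K.eq_bot_of_card_eq (hcard ▸ h1)]⟩
  have hne : (Nat.card H).primeFactors.Nonempty :=
    Nat.nonempty_primeFactors.mpr (lt_of_le_of_ne Nat.card_pos (Ne.symm h1))
  set p := (Nat.card H).primeFactors.max' hne
  obtain ⟨hp, hpd, -⟩ := Nat.mem_primeFactors.mp (Finset.max'_mem _ hne)
  have hmax : ∀ q : ℕ, q.Prime → q ∣ Nat.card H → q ≤ p := fun q hq hqd =>
    Finset.le_max' _ q (Nat.mem_primeFactors.mpr ⟨hq, hqd, Nat.card_pos.ne'⟩)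
  haveI : Fact p.Prime := ⟨hp⟩
  obtain ⟨T₁, hT₁, hN₁⟩ := exists_sylow_le_normalizer_of_ss hH hHall hpd hmax
  obtain ⟨T₂, hT₂, hN₂⟩ := exists_sylow_le_normalizer_of_ss hK hKHall (hcard ▸ hpd) (hcard ▸ hmax)
  obtain ⟨g, hg⟩ := MulAction.exists_smul_eq G T₁ T₂
  set H₁ := MulAut.conj g • H with hH₁
  set T : Subgroup G := (T₂ : Subgroup G) with hTdef
  have hgT : MulAut.conj g • (T₁ : Subgroup G) = T := by rw [hTdef, ← hg, Sylow.coe_subgroup_smul]
  have hTH₁ : T ≤ H₁ := hgT ▸ Subgroup.pointwise_smul_le_pointwise_smul_iff.mpr hT₁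
  set N := Subgroup.normalizer (T : Set G)
  have hH₁N : H₁ ≤ N := by
    rintro _ ⟨h, hh, rfl⟩
    refine mem_normalizer_of_conj_smul_eq ?_
    show MulAut.conj (g * h * g⁻¹) • T = T
    rw [← hgT, conj_smul_conj_smul, inv_mul_cancel_right, ← conj_smul_conj_smul,
      conj_smul_eq_of_mem_normalizer (hN₁ hh)]
  haveI : (T.subgroupOf N).Normal := Subgroup.normal_in_normalizer
  set π := QuotientGroup.mk' (T.subgroupOf N) with hπdef
  have hπ : Function.Surjective π := QuotientGroup.mk'_surjective _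
  set Hb := (H₁.subgroupOf N).map π
  set Kb := (K.subgroupOf N).map π
  have hss : ∀ X : Subgroup G, X ≤ N → Cfsg.IsSupersolvable X →
      Cfsg.IsSupersolvable ((X.subgroupOf N).map π) := fun X hXN hX =>
    H3.ss_of_surjective _ (π.subgroupMap_surjective _)
      (H3.ss_congr (Subgroup.subgroupOfEquivOfLe hXN).symm hX)
  have hback : ∀ X : Subgroup G, T ≤ X → ((X.subgroupOf N).map π).comap π = X.subgroupOf N := by
    intro X hX
    rw [Subgroup.comap_map_eq, QuotientGroup.ker_mk', sup_eq_left]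
    exact fun y hy => hX hy
  have hindex : ∀ X : Subgroup G, T ≤ X → X ≤ N → ((X.subgroupOf N).map π).index ∣ X.index := by
    intro X hX hXN
    rw [← Subgroup.index_comap_of_surjective _ hπ, hback X hX]
    exact Subgroup.relIndex_dvd_index_of_le hXN
  have hcardb : Nat.card Hb = Nat.card Kb := by
    have hi : Hb.index = Kb.index := by
      rw [← Subgroup.index_comap_of_surjective Hb hπ, ← Subgroup.index_comap_of_surjective Kb hπ,
        hback H₁ hTH₁, hback K hT₂]
      have a1 := (H₁.subgroupOf N).card_mul_index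
      have a2 := (K.subgroupOf N).card_mul_index
      rw [Nat.card_congr (Subgroup.subgroupOfEquivOfLe hH₁N).toEquiv, card_conj_smul, hcard] at a1
      rw [Nat.card_congr (Subgroup.subgroupOfEquivOfLe hN₂).toEquiv] at a2
      exact Nat.eq_of_mul_eq_mul_left Nat.card_pos (a1.trans a2.symm)
    have b1 := Hb.card_mul_index
    rw [← Kb.card_mul_index, hi] at b1
    exact Nat.eq_of_mul_eq_mul_right (Nat.pos_of_ne_zero Subgroup.index_ne_zero_of_finite) b1
  have hHallb : (Nat.card Hb).Coprime Hb.index := by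
    refine Nat.Coprime.coprime_dvd_left ?_
      ((hall_conj_smul hHall g).coprime_dvd_right (hindex H₁ hTH₁ hH₁N))
    refine (Subgroup.card_map_dvd _ π).trans ?_
    rw [Nat.card_congr (Subgroup.subgroupOfEquivOfLe hH₁N).toEquiv]
  have hlt : Nat.card (N ⧸ T.subgroupOf N) < n := by
    rw [← hn]
    refine lt_of_lt_of_le ?_ (Subgroup.card_le_card_group N)
    apply H3.card_quotient_lt
    intro h
    have h2 : T = ⊥ := by
      rw [Subgroup.subgroupOf_eq_bot, disjoint_iff, inf_eq_left.mpr (Subgroup.le_normalizer)] at h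
      exact h
    exact T₂.ne_bot_of_dvd_card (hpd.trans (Subgroup.card_subgroup_dvd_card _)) h2
  obtain ⟨c, hc⟩ := ih _ hlt Hb Kb rfl (hss H₁ hH₁N (ss_conj_smul hH g)) (hss K hN₂ hK) hcardb hHallb
  obtain ⟨c, rfl⟩ := hπ c
  refine ⟨(c : G) * g, Subgroup.eq_of_le_of_card_ge ?_ ?_⟩
  · intro z hz
    rw [← conj_smul_conj_smul, mem_conj_smul_iff] at hz
    have hzN : (c : G)⁻¹ * z * c ∈ N := hH₁N hz
    have hzN' : z ∈ N := by
      have := N.mul_mem (N.mul_mem c.2 hzN) (N.inv_mem c.2)
      simpa [mul_assoc] using this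
    have h3 : π ⟨z, hzN'⟩ ∈ MulAut.conj (π c) • Hb := by
      rw [mem_conj_smul_iff]
      refine ⟨c⁻¹ * ⟨z, hzN'⟩ * c, ?_, by simp⟩
      exact hz
    rw [hc] at h3
    exact (hback K hT₂).le h3
  · rw [card_conj_smul, hcard]

end H4
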