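import Cfsg.Agent.H5.TIHall
import Cfsg.Agent.H5.PResidual
import Cfsg.Agent.H79.CoprimeGen
import Cfsg.Agent.H79.SolvableSPE
import Cfsg.Agent.H83.TrivAction
import Cfsg.Agent.H1.SchurZassenhausConj
import Cfsg.Agent.H1.Cores
import Cfsg.Agent.H3.SystemNormalizer
import Cfsg.Agent.H4.ProductCard
import Mathlib.GroupTheory.SpecificGroups.Quaternion
import Mathlib.GroupTheory.SpecificGroups.ZGroup

/-!
TI Hall subgroups of π-separable groups: the fixed points of a complement in the normalizer.
-/

set_option autoImplicit false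

namespace H4

open Subgroup
open scoped Pointwise commutatorElement

variable {G : Type*} [Group G] [Finite G]

/-- If `D` has a normal `p`-complement `E` and `Q` centralizes the Sylow `p`-subgroup `P` of `D`,
then `[D, Q]` lies in `E`. -/
theorem exists_pComplement_of_central {p : ℕ} [Fact p.Prime] {D P : Subgroup G} (hPD : P ≤ D)
    (hP : IsPGroup p P) (hidx : ¬ p ∣ P.relIndex D) (hPc : P ≤ centralizer (P : Set G))
    (hN : D ⊓ normalizer (P : Set G) ≤ centralizer (P : Set G)) :
    ∃ E : Subgroup G, E ≤ D ∧ ¬ p ∣ Nat.card E ∧ normalizer (D : Set G) ≤ normalizer (E : Set G) ∧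
      ∀ d ∈ D, ∀ q ∈ normalizer (D : Set G), q ∈ centralizer (P : Set G) → ⁅d, q⁆ ∈ E := by
  set S : Sylow p D := (hP.comap_of_injective D.subtype D.subtype_injective).toSylow hidx
  have hS : normalizer ((S : Subgroup D) : Set D) ≤ centralizer ((S : Subgroup D) : Set D) := by
    intro x hx
    rw [Subgroup.mem_centralizer_iff]
    intro y hy
    refine Subtype.ext (Subgroup.mem_centralizer_iff.mp (hN ⟨x.2, ?_⟩) y hy)
    show (x : G) ∈ normalizer (P : Set G)
    rw [Subgroup.mem_normalizer_iff]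
    intro z
    constructor
    · intro hz
      exact (Subgroup.mem_normalizer_iff.mp hx ⟨z, hPD hz⟩).mp hz
    · intro hz
      have hzD : z ∈ D := by
        have := D.mul_mem (D.mul_mem (D.inv_mem x.2) (hPD hz)) x.2
        simpa [mul_assoc] using this
      exact (Subgroup.mem_normalizer_iff.mp hx ⟨z, hzD⟩).mpr hz
  have hc := MonoidHom.ker_transferSylow_isComplement' S hS
  have hnpc : Cfsg.HasNormalPComplement p D := ⟨S, _, inferInstance, hc⟩
  set E := (Cfsg.pResidual p D).map D.subtype with hE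
  have hnorm : normalizer (D : Set G) ≤ normalizer (E : Set G) :=
    H83.le_normalizer_map_of_characteristic le_rfl _
  refine ⟨E, Subgroup.map_subtype_le _, ?_, hnorm, ?_⟩
  · rw [hE, Subgroup.card_map_of_injective D.subtype_injective]
    exact H5.hasNormalPComplement_iff_not_dvd.mp hnpc
  · intro d hd q hq hqc
    have hmem : (⟨d, hd⟩ : D) ∈ Cfsg.pResidual p D ⊔ (S : Subgroup D) :=
      (H5.pResidual_sup_sylow S).symm ▸ Subgroup.mem_top _
    obtain ⟨e, he, u, hu, heu⟩ := Subgroup.mem_sup_of_normal_left.mp hmem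
    have hd' : d = (e : G) * u := (congrArg Subtype.val heu).symm
    have hu' : q * (u : G) = u * q := (Subgroup.mem_centralizer_iff.mp hqc u hu).symm
    have h1 : (e : G) ∈ E := ⟨e, he, rfl⟩
    have h2 : q * (e : G)⁻¹ * q⁻¹ ∈ E :=
      (Subgroup.mem_normalizer_iff.mp (hnorm hq) _).mp (E.inv_mem h1)
    have h3 : ⁅d, q⁆ = (e : G) * (q * (e : G)⁻¹ * q⁻¹) := by
      rw [commutatorElement_def, hd', mul_inv_rev]
      calc (e : G) * u * q * ((u : G)⁻¹ * (e : G)⁻¹) * q⁻¹
          = (e : G) * (u * q) * (u : G)⁻¹ * (e : G)⁻¹ * q⁻¹ := by group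
        _ = (e : G) * (q * u) * (u : G)⁻¹ * (e : G)⁻¹ * q⁻¹ := by rw [hu']
        _ = (e : G) * (q * (e : G)⁻¹ * q⁻¹) := by group
    rw [h3]
    exact E.mul_mem h1 h2

/-- A cyclic group `P = [P, Q]` has no nontrivial `Q`-fixed element. -/
theorem fixed_absurd {p : ℕ} [Fact p.Prime] {P Q : Subgroup G} [IsCyclic P] (hPp : IsPGroup p P)
    (hQP : Q ≤ normalizer (P : Set G)) (hPQ : (Nat.card P).Coprime (Nat.card Q))
    (hcomm : ⁅P, Q⁆ = P) {x : G} (hxP : x ∈ P) (hxQ : x ∈ centralizer (Q : Set G)) (hx : x ≠ 1) :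
    False := by
  let _ := MulDistribMulAction.compHom P (P.normalizerMonoidHom.comp (Subgroup.inclusion hQP))
  haveI hZ := hPp
  have key : ∀ (k : Q) (g : P), ((k • g : P) : G) = k * g * (k : G)⁻¹ := fun k g => rfl
  rcases hPp.smul_mul_inv_trivial_or_surjective (K := Q) hPQ with h | h
  · have hbot : P = ⊥ := by
      rw [← hcomm, Subgroup.commutator_eq_bot_iff_le_centralizer]
      intro g hg
      rw [Subgroup.mem_centralizer_iff]
      intro k hk
      have := congrArg Subtype.val (h ⟨g, hg⟩ ⟨k, hk⟩)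
      simp only [Subgroup.coe_mul, Subgroup.coe_inv, key, Subgroup.coe_one] at this
      rw [mul_inv_eq_one, mul_inv_eq_iff_eq_mul] at this
      exact this
    rw [hbot, Subgroup.mem_bot] at hxP
    exact hx hxP
  · obtain ⟨g₀, hg₀⟩ := IsCyclic.exists_zpow_surjective (G := P)
    obtain ⟨k, q, hq⟩ := h g₀
    obtain ⟨i, hi⟩ := hg₀ q
    have hi' : q = g₀ ^ i := hi.symm
    -- `k` moves the generator to a generating difference
    let f : P →* P := MulDistribMulAction.toMonoidHom P k
    have hf : ∀ y : P, f y = k • y := fun _ => rfl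
    letI : CommGroup P := IsCyclic.commGroup
    let δ : P →* P := f * (MonoidHom.id P)⁻¹
    have hδ : ∀ y : P, δ y = k • y * y⁻¹ := fun _ => rfl
    have hsurj : Function.Surjective δ := by
      intro y
      obtain ⟨j, hj⟩ := hg₀ y
      exact ⟨q ^ j, by rw [map_zpow, hδ, hq]; exact hj⟩
    have hinj : Function.Injective δ := Finite.injective_iff_surjective.mpr hsurj
    refine hx (congrArg Subtype.val (hinj (a₁ := ⟨x, hxP⟩) (a₂ := 1) ?_))
    rw [map_one, hδ, mul_inv_eq_one]
    refine Subtype.ext ?_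
    rw [key, Subgroup.mem_centralizer_iff.mp hxQ k k.2, mul_inv_cancel_right]

/-- The normalizer of a TI Hall subgroup of a π-separable group supplements the π'-core. -/
theorem frattini_ti' {H K : Subgroup G} (hsol : Group.IsSolvable H ∨ K ≤ centralizer (H : Set G))
    (hTI : Cfsg.IsTISubset (H : Set G))
    (hHall : (Nat.card H).Coprime H.index)
    (hsep : ∃ (n : ℕ) (M : Fin (n + 1) → Subgroup G), M 0 = ⊥ ∧ M (Fin.last n) = ⊤ ∧ Monotone M ∧
      (∀ i, (M i).Normal) ∧
      ∀ i : Fin n, (∀ q : ℕ, q.Prime → q ∣ (M i.castSucc).relIndex (M i.succ) → q ∣ Nat.card H) ∨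
        ((M i.castSucc).relIndex (M i.succ)).Coprime (Nat.card H))
    (hH0 : H ≠ ⊥) (hKn : K.Normal) (hKc : (Nat.card K).Coprime (Nat.card H))
    (hKbig : ∀ R : Subgroup G, R.Normal → (Nat.card R).Coprime (Nat.card H) → R ≤ K) :
    K ⊔ normalizer (H : Set G) = ⊤ := by
  haveI := hKn
  obtain ⟨n, M, hM0, hMl, -, hMn, hfac⟩ := hsep
  have hlast : ¬ M (Fin.last n) ≤ K := fun h => hH0 (H.eq_bot_of_card_eq (Nat.eq_one_of_dvd_coprimes
    hKc (Subgroup.card_dvd_of_le (le_top.trans (hMl ▸ h))) dvd_rfl))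
  obtain ⟨i, hi1, hi2⟩ : ∃ i : Fin n, M i.castSucc ≤ K ∧ ¬ M i.succ ≤ K := by
    by_contra hcon
    push Not at hcon
    exact hlast (Fin.induction (motive := fun j => M j ≤ K) (hM0 ▸ bot_le) hcon (Fin.last n))
  haveI := hMn i.succ
  set R := M i.succ ⊔ K with hR
  have hKR : K.relIndex R ∣ (M i.castSucc).relIndex (M i.succ) := by
    have hA : K.relIndex R = (K ⊓ M i.succ).relIndex (M i.succ) := by
      rw [hR, Subgroup.relIndex_sup_right, Subgroup.inf_relIndex_right]
    rw [hA, Subgroup.inf_relIndex_right]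
    exact Subgroup.relIndex_dvd_of_le_left _ hi1
  have hcardR : Nat.card R = Nat.card K * K.relIndex R := by
    have h := Subgroup.relIndex_mul_relIndex ⊥ K R bot_le le_sup_right
    rw [Subgroup.relIndex_bot_left, Subgroup.relIndex_bot_left] at h
    exact h.symm
  have hπ : ∀ q : ℕ, q.Prime → q ∣ (M i.castSucc).relIndex (M i.succ) → q ∣ Nat.card H := by
    refine (hfac i).resolve_right fun hc => hi2 (le_sup_left.trans (hKbig R inferInstance ?_))
    rw [hcardR]
    exact hKc.mul_left (hc.coprime_dvd_left hKR)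
  set H₀ := H ⊓ R with hH₀
  have hRK : R = K ⊔ H₀ := by
    refine le_antisymm ?_ (sup_le le_sup_right inf_le_right)
    rw [← Subgroup.relIndex_eq_one]
    refine Nat.eq_one_iff_not_exists_prime_dvd.mpr fun q hq hd => ?_
    have h1 : q ∣ H.index := by
      refine (hd.trans ?_).trans (H3.relIndex_normal_dvd_index H R)
      rw [← Subgroup.inf_relIndex_right H R]
      exact Subgroup.relIndex_dvd_of_le_left _ le_sup_right
    have h2 : q ∣ Nat.card H :=
      hπ q hq ((hd.trans (Subgroup.relIndex_dvd_of_le_left _ le_sup_left)).trans hKR)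
    exact Nat.not_coprime_of_dvd_of_dvd hq.one_lt h2 h1 hHall
  have hH₀ne : H₀ ≠ ⊥ := fun h => hi2 (le_sup_left.trans (by rw [← hR, hRK, h, sup_bot_eq]))
  rw [eq_top_iff]
  intro g _
  have hgR : MulAut.conj g • H₀ ≤ K ⊔ H₀ := by
    rw [← hRK, ← H3.normalizer_iff_conj.mp (show g ∈ normalizer (R : Set G) by
      rw [Subgroup.normalizer_eq_top]; exact Subgroup.mem_top g)]
    exact Subgroup.pointwise_smul_le_pointwise_smul_iff.mpr inf_le_right
  obtain ⟨d, hd, hde⟩ : ∃ d ∈ K, MulAut.conj d • H₀ = MulAut.conj g • H₀ := by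
    rcases hsol with hsol | hcen
    · exact H1.exists_conj_eq_of_coprime (D := K) (H := H₀)
        (K := MulAut.conj g • H₀) (by rw [Subgroup.normalizer_eq_top]; exact le_top)
        (hKc.coprime_dvd_right (Subgroup.card_dvd_of_le inf_le_left))
        (Or.inr (H1.isSolvable_mono hsol inf_le_left)) hgR (H1.card_conj_smul _ _)
    · refine ⟨1, one_mem _, ?_⟩
      rw [map_one, one_smul]
      refine (Subgroup.eq_of_le_of_card_ge (fun y hy => ?_) (H1.card_conj_smul _ _).ge).symm
      obtain ⟨k, hk, h, hh, hkh⟩ := Subgroup.mem_sup_of_normal_left.mp (hgR hy)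
      have hkh' : Commute k h := (Subgroup.mem_centralizer_iff.mp (hcen hk) h hh.1).symm
      have h1 : y ^ Nat.card H = 1 := by
        rw [H1.mem_conj_smul_iff] at hy
        have h3 : (g⁻¹ * y * g) ^ Nat.card H = 1 := by
          exact orderOf_dvd_iff_pow_eq_one.mp (Subgroup.orderOf_dvd_natCard H hy.1)
        have h4 : y = g * (g⁻¹ * y * g) * g⁻¹ := by group
        rw [h4, conj_pow, h3, mul_one, mul_inv_cancel]
      have h2 : h ^ Nat.card H = 1 := by
        exact orderOf_dvd_iff_pow_eq_one.mp (Subgroup.orderOf_dvd_natCard H hh.1)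
      rw [← hkh, hkh'.mul_pow, h2, mul_one] at h1
      have hk1 : k = 1 := orderOf_eq_one_iff.mp (Nat.eq_one_of_dvd_coprimes hKc
        (Subgroup.orderOf_dvd_natCard K hk) (orderOf_dvd_of_pow_eq_one h1))
      rw [← hkh, hk1, one_mul]
      exact hh
  obtain ⟨x, hx, hx1⟩ := H₀.bot_or_exists_ne_one.resolve_left hH₀ne
  have hmem : d⁻¹ * g ∈ normalizer (H₀ : Set G) := by
    rw [H3.normalizer_iff_conj, map_mul, mul_smul, ← hde, ← mul_smul, ← map_mul, inv_mul_cancel,
      map_one, one_smul]
  have hgM : d⁻¹ * g ∈ normalizer (H : Set G) :=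
    H5.mem_normalizer_of_ti hTI hx.1 hx1 ((Subgroup.mem_normalizer_iff.mp hmem x).mp hx).1
  have := Subgroup.mul_mem (K ⊔ normalizer (H : Set G)) (Subgroup.mem_sup_left hd)
    (Subgroup.mem_sup_right hgM)
  rwa [mul_inv_cancel_left] at this

/-- Coprime action on a Z-group: the fixed points and the commutator have coprime orders. -/
theorem coprime_commutator_fixed {H Q : Subgroup G} [IsZGroup H]
    (hQH : Q ≤ normalizer (H : Set G)) (hcop : (Nat.card Q).Coprime (Nat.card H)) :
    (Nat.card ↥(H ⊓ centralizer (Q : Set G))).Coprime (Nat.card ↥⁅H, Q⁆) := by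
  refine Nat.coprime_of_dvd fun p hp hpC hpT => ?_
  haveI := Fact.mk hp
  obtain ⟨x, hx⟩ := exists_prime_orderOf_dvd_card' p hpC
  rw [← Subgroup.orderOf_coe] at hx
  -- an invariant Sylow subgroup of `H` through a fixed element of order `p`
  set K := H ⊓ centralizer ({(x : G)} : Set G) with hK
  have hQK : Q ≤ normalizer (K : Set G) := by
    intro q hq
    apply H3.normalizer_iff_conj.mpr
    rw [hK, Subgroup.smul_inf, H3.normalizer_iff_conj.mp (hQH hq)]
    congr 1
    ext z
    have hqx : q * (x : G) = x * q := Subgroup.mem_centralizer_iff.mp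
      (show (x : G) ∈ centralizer (Q : Set G) from x.2.2) q hq
    rw [H1.mem_conj_smul_iff, Subgroup.mem_centralizer_iff, Subgroup.mem_centralizer_iff]
    simp only [Set.mem_singleton_iff, forall_eq]
    have hqx' : q⁻¹ * (x : G) * q = x := by rw [mul_assoc, ← hqx, inv_mul_cancel_left]
    constructor
    · intro h
      calc (x : G) * z = q * ((q⁻¹ * x * q) * (q⁻¹ * z * q)) * q⁻¹ := by group
        _ = q * ((x : G) * (q⁻¹ * z * q)) * q⁻¹ := by rw [hqx']
        _ = q * ((q⁻¹ * z * q) * (q⁻¹ * x * q)) * q⁻¹ := by rw [h, hqx']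
        _ = z * x := by group
    · intro h
      calc (x : G) * (q⁻¹ * z * q) = q⁻¹ * x * q * (q⁻¹ * z * q) := by rw [hqx']
        _ = q⁻¹ * (x * z) * q := by group
        _ = q⁻¹ * (z * x) * q := by rw [h]
        _ = q⁻¹ * z * q * (q⁻¹ * x * q) := by group
        _ = q⁻¹ * z * q * x := by rw [hqx']
  have hHsol : Group.IsSolvable H := inferInstance
  have hKH : K ≤ H := inf_le_left
  obtain ⟨P₀, hP₀⟩ := H1.exists_invariant_sylow hQK (hcop.coprime_dvd_right
    (Subgroup.card_dvd_of_le hKH)) (Or.inr (H1.isSolvable_mono hHsol hKH)) p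
  set P := (P₀ : Subgroup K).map K.subtype with hP
  have hPK : P ≤ K := Subgroup.map_subtype_le _
  have hPH : P ≤ H := hPK.trans hKH
  have hPp : IsPGroup p P := P₀.2.map _
  -- a Sylow subgroup of `H` through `x` is abelian, so it lies in `K`
  have hidx : ¬ p ∣ P.relIndex H := by
    have hxpg : IsPGroup p ((zpowers (x : G)).subgroupOf H) :=
      (IsPGroup.of_card (n := 1) (by rw [Nat.card_zpowers, hx, pow_one])).comap_of_injective
        H.subtype H.subtype_injective
    obtain ⟨S, hS⟩ := hxpg.exists_le_sylow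
    set S' := (S : Subgroup H).map H.subtype with hS'
    have hS'K : S' ≤ K := by
      rintro _ ⟨s, hs, rfl⟩
      refine ⟨s.2, Subgroup.mem_centralizer_iff.mpr ?_⟩
      simp only [Set.mem_singleton_iff, forall_eq, Subgroup.coe_subtype]
      have hxS : (⟨x, x.2.1⟩ : H) ∈ (S : Subgroup H) :=
        hS (Subgroup.mem_subgroupOf.mpr (mem_zpowers _))
      haveI : IsCyclic (S : Subgroup H) := inferInstance
      exact congrArg (fun t : H => (t : G))
        (congrArg Subtype.val (IsMulCommutative.is_comm.comm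
          (⟨_, hxS⟩ : (S : Subgroup H)) ⟨s, hs⟩))
    have hcard : Nat.card P = Nat.card S' := by
      obtain ⟨i, hi⟩ := IsPGroup.iff_card.mp hPp
      have h1 : Nat.card S' ∣ Nat.card P := by
        have hS'p : IsPGroup p S' := S.2.map _
        obtain ⟨T, hT⟩ := (hS'p.comap_of_injective K.subtype K.subtype_injective).exists_le_sylow
        refine (dvd_of_eq (Nat.card_congr (Subgroup.subgroupOfEquivOfLe hS'K).toEquiv).symm).trans
          ((Subgroup.card_dvd_of_le hT).trans (dvd_of_eq ?_))
        rw [hP, Subgroup.card_map_of_injective K.subtype_injective, T.card_eq_multiplicity,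
          P₀.card_eq_multiplicity]
      have h2 : Nat.card P ∣ Nat.card S' := by
        obtain ⟨T, hT⟩ := (hPp.comap_of_injective H.subtype H.subtype_injective).exists_le_sylow
        refine (dvd_of_eq (Nat.card_congr (Subgroup.subgroupOfEquivOfLe hPH).toEquiv).symm).trans
          ((Subgroup.card_dvd_of_le hT).trans (dvd_of_eq ?_))
        rw [hS', Subgroup.card_map_of_injective H.subtype_injective, T.card_eq_multiplicity,
          S.card_eq_multiplicity]
      exact Nat.dvd_antisymm h2 h1
    have h1 := Subgroup.relIndex_mul_relIndex ⊥ P H bot_le hPH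
    have h2 := Subgroup.relIndex_mul_relIndex ⊥ S' H bot_le (Subgroup.map_subtype_le _)
    rw [Subgroup.relIndex_bot_left, Subgroup.relIndex_bot_left] at h1 h2
    rw [hcard] at h1
    rw [Nat.eq_of_mul_eq_mul_left Nat.card_pos (h1.trans h2.symm), hS', Subgroup.relIndex,
      Subgroup.subgroupOf, Subgroup.comap_map_eq_self_of_injective H.subtype_injective]
    exact S.not_dvd_index
  set P₁ : Sylow p H := (hPp.comap_of_injective H.subtype H.subtype_injective).toSylow hidx with hP₁
  have hP₁map : (P₁ : Subgroup H).map H.subtype = P := Subgroup.map_subgroupOf_eq_of_le hPH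
  haveI hPcyc : IsCyclic P := by
    haveI : IsCyclic (P.subgroupOf H) := (inferInstance : IsCyclic (P₁ : Subgroup H))
    exact isCyclic_of_surjective _ (Subgroup.subgroupOfEquivOfLe hPH).surjective
  have hPc : P ≤ centralizer (P : Set G) := fun a ha => Subgroup.mem_centralizer_iff.mpr
    fun b hb => congrArg Subtype.val (IsMulCommutative.is_comm.comm (⟨b, hb⟩ : P) ⟨a, ha⟩)
  have hxP : (x : G) ∈ P := by
    have hxK : (x : G) ∈ K := ⟨x.2.1, Subgroup.mem_centralizer_iff.mpr fun y hy => by
      rw [Set.mem_singleton_iff.mp hy]⟩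
    have hxc : (⟨(x : G), hxK⟩ : K) ∈ Subgroup.center K := Subgroup.mem_center_iff.mpr fun k =>
      Subtype.ext (Subgroup.mem_centralizer_iff.mp k.2.2 (x : G) rfl).symm
    have hzp : IsPGroup p (zpowers (⟨(x : G), hxK⟩ : K)) :=
      IsPGroup.of_card (n := 1) (by rw [Nat.card_zpowers, Subgroup.orderOf_mk, hx, pow_one])
    have hle : zpowers (⟨(x : G), hxK⟩ : K) ≤ normalizer ((P₀ : Subgroup K) : Set K) :=
      (Subgroup.zpowers_le.mpr hxc).trans
        (Subgroup.center_le_normalizer _)
    have := P₀.3 (IsPGroup.to_sup_of_normal_left' P₀.2 hzp hle) le_sup_left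
    exact ⟨_, this.le (Subgroup.mem_sup_right (mem_zpowers _)), rfl⟩
  -- `Q` centralizes `P`
  have hQP : Q ≤ centralizer (P : Set G) := by
    have hPQ : (Nat.card P).Coprime (Nat.card Q) :=
      (hcop.coprime_dvd_right (Subgroup.card_dvd_of_le hPH)).symm
    rcases hPp.commutator_eq_bot_or_commutator_eq_self hP₀ hPQ with h | h
    · exact Subgroup.commutator_eq_bot_iff_le_centralizer.mp h
    · exfalso
      have hfix : Q ≤ centralizer ({(x : G)} : Set G) := fun q hq =>
        Subgroup.mem_centralizer_iff.mpr fun y hy => by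
          rw [Set.mem_singleton_iff.mp hy]
          exact (Subgroup.mem_centralizer_iff.mp
            (show (x : G) ∈ centralizer (Q : Set G) from x.2.2) q hq).symm
      exact fixed_absurd hPp hP₀ hPQ (Subgroup.commutator_comm Q P ▸ h) hxP x.2.2
        (fun h => hp.ne_one (by rw [← hx, h, orderOf_one]))
  by_cases hNC : normalizer ((P₁ : Subgroup H) : Set H) ≤ centralizer ((P₁ : Subgroup H) : Set H)
  · obtain ⟨E, -, hEcard, -, hcomm⟩ := exists_pComplement_of_central hPH hPp hidx hPc (by
      intro g hg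
      rw [Subgroup.mem_centralizer_iff]
      intro y hy
      have hg' : (⟨g, hg.1⟩ : H) ∈ normalizer ((P₁ : Subgroup H) : Set H) := by
        rw [Subgroup.mem_normalizer_iff]
        exact fun z => Subgroup.mem_normalizer_iff.mp hg.2 (z : G)
      exact congrArg Subtype.val (Subgroup.mem_centralizer_iff.mp (hNC hg') ⟨y, hPH hy⟩ hy))
    refine hEcard (hpT.trans (Subgroup.card_dvd_of_le ?_))
    rw [Subgroup.commutator_le]
    exact fun h hh q hq => hcomm h hh q (hQH hq) (hQP hq)
  have hPH' := (P₁.normalizer_le_centralizer_or_le_commutator).resolve_left hNC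
  -- now `P` is normal in `H`
  have hHP : H ≤ normalizer (P : Set G) := by
    haveI hcyc := IsZGroup.isCyclic_commutator H
    haveI : (commutator H).Normal := inferInstance
    intro h hh
    rw [← hP₁map]
    refine Subgroup.le_normalizer_map H.subtype ⟨⟨h, hh⟩, ?_, rfl⟩
    apply H3.normalizer_iff_conj.mpr
    refine Subgroup.eq_of_le_of_card_ge ?_ (H1.card_conj_smul _ _).ge
    intro y hy
    rw [H1.mem_conj_smul_iff] at hy
    set h' : H := ⟨h, hh⟩
    have hy' : y ∈ commutator H := by
      have := (inferInstance : (commutator H).Normal).conj_mem _ (hPH' hy) h'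
      rwa [show h' * (h'⁻¹ * y * h') * h'⁻¹ = y by group] at this
    have h1 : zpowers y ≤ normalizer ((P₁ : Subgroup H) : Set H) := by
      refine le_trans ?_ (Subgroup.centralizer_le_normalizer _)
      rw [Subgroup.zpowers_le, Subgroup.mem_centralizer_iff]
      exact fun z hz => congrArg Subtype.val
        (IsMulCommutative.is_comm.comm (⟨z, hPH' hz⟩ : commutator H) ⟨y, hy'⟩)
    have h2 : IsPGroup p (zpowers y) := by
      obtain ⟨j, hj⟩ := IsPGroup.iff_orderOf.mp P₁.2 ⟨_, hy⟩
      rw [Subgroup.orderOf_mk] at hj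
      refine IsPGroup.of_card (n := j) ?_
      rw [Nat.card_zpowers, ← hj,
        show h'⁻¹ * y * h' = MulAut.conj h'⁻¹ y by simp [MulAut.conj_apply], MulEquiv.orderOf_eq]
    exact (P₁.3 (IsPGroup.to_sup_of_normal_left' P₁.2 h2 h1) le_sup_left).le
      (Subgroup.mem_sup_right (mem_zpowers y))
  set D := H ⊓ centralizer (P : Set G) with hD
  have hPD : P ≤ D := le_inf hPH hPc
  have hidxD : ¬ p ∣ P.relIndex D := fun h => hidx (h.trans
    (Dvd.intro _ (Subgroup.relIndex_mul_relIndex P D H hPD inf_le_left)))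
  obtain ⟨E, hED, hEcard, hEn, hcomm⟩ := exists_pComplement_of_central hPD hPp hidxD hPc
    (fun g hg => hg.1.2)
  have hnD : ∀ g, g ∈ normalizer (H : Set G) → g ∈ normalizer (P : Set G) →
      g ∈ normalizer (D : Set G) := by
    intro g hgH hgP
    apply H3.normalizer_iff_conj.mpr
    rw [hD, Subgroup.smul_inf, H3.normalizer_iff_conj.mp hgH]
    congr 1
    ext z
    rw [H1.mem_conj_smul_iff, Subgroup.mem_centralizer_iff, Subgroup.mem_centralizer_iff]
    have hn := Subgroup.mem_normalizer_iff.mp hgP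
    constructor
    · intro h y hy
      have h' := h (g⁻¹ * y * g) ((hn _).mpr (by simpa [mul_assoc] using hy))
      have h'' := congrArg (fun t => g * t * g⁻¹) h'
      simpa [mul_assoc] using h''
    · intro h y hy
      have h' := h (g * y * g⁻¹) ((hn y).mp hy)
      have h'' := congrArg (fun t => g⁻¹ * t * g) h'
      simpa [mul_assoc] using h''
  refine hEcard (hpT.trans (Subgroup.card_dvd_of_le ?_))
  rw [Subgroup.commutator_le]
  intro h hh q hq
  have hqD : q ∈ normalizer (D : Set G) := hnD q (hQH hq) (hP₀ hq)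
  have hfix : ∀ a ∈ Q, h⁻¹ * (a * h * a⁻¹) ∈ D := by
    intro a ha
    refine ⟨H.mul_mem (H.inv_mem hh) ((Subgroup.mem_normalizer_iff.mp (hQH ha) h).mp hh), ?_⟩
    show h⁻¹ * (a * h * a⁻¹) ∈ centralizer (P : Set G)
    rw [Subgroup.mem_centralizer_iff]
    intro y hy
    have e1 : ∀ w ∈ P, a * w * a⁻¹ = w := fun w hw => by
      rw [← Subgroup.mem_centralizer_iff.mp (hQP ha) w hw, mul_inv_cancel_right]
    have hy1 : h * y * h⁻¹ ∈ P := (Subgroup.mem_normalizer_iff.mp (hHP hh) y).mp hy
    have e2 : a * h * a⁻¹ * y * (a * h * a⁻¹)⁻¹ = h * y * h⁻¹ := by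
      have e0 : a⁻¹ * y * a = y := by
        conv_lhs => rw [← e1 y hy]
        group
      calc a * h * a⁻¹ * y * (a * h * a⁻¹)⁻¹ = a * (h * (a⁻¹ * y * a) * h⁻¹) * a⁻¹ := by group
        _ = a * (h * y * h⁻¹) * a⁻¹ := by rw [e0]
        _ = h * y * h⁻¹ := e1 _ hy1
    have := congrArg (fun t => h⁻¹ * t * (a * h * a⁻¹)) e2
    simpa [mul_assoc] using this.symm
  obtain ⟨c, hc, hcd⟩ := H1.exists_fixed_mem_coset_of_le (A := Q) (K := H) (N := D) inf_le_left
    (fun a ha => hnD a (hQH ha) (hP₀ ha)) hcop (Or.inr hHsol) hh hfix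
  set d := c⁻¹ * h with hd
  have hdD : d ∈ D := by
    have := D.inv_mem hcd
    rwa [mul_inv_rev, inv_inv] at this
  have hcq : c * q = q * c := (Subgroup.mem_centralizer_iff.mp hc.2 q hq).symm
  have e : ⁅h, q⁆ = c * ⁅d, q⁆ * c⁻¹ := by
    have e1 : c⁻¹ * q * c = q := by rw [mul_assoc, ← hcq, inv_mul_cancel_left]
    have e2 : c⁻¹ * q⁻¹ * c = q⁻¹ := by
      have := congrArg (·⁻¹) e1
      simpa [mul_assoc] using this
    rw [commutatorElement_def, commutatorElement_def, hd]
    calc h * q * h⁻¹ * q⁻¹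
        = c * ((c⁻¹ * h) * q * (c⁻¹ * h)⁻¹ * (c⁻¹ * q⁻¹ * c)) * c⁻¹ := by group
      _ = c * ((c⁻¹ * h) * q * (c⁻¹ * h)⁻¹ * q⁻¹) * c⁻¹ := by rw [e2]
  rw [e]
  exact (Subgroup.mem_normalizer_iff.mp
    (hEn (hnD c (le_normalizer hc.1) (hHP hc.1))) _).mp (hcomm d hdD q hqD (hQP hq))

/-- Fixed points of a coprime complement of a TI Hall subgroup in a π-separable group. -/
theorem ti_separable (H Q : Subgroup G) (hTI : Cfsg.IsTISubset (H : Set G)) (hnn : ¬ H.Normal)
    (hHall : (Nat.card H).Coprime (H.subgroupOf (normalizer (H : Set G))).index)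
    (hsep : ∃ (n : ℕ) (M : Fin (n + 1) → Subgroup G), M 0 = ⊥ ∧ M (Fin.last n) = ⊤ ∧ Monotone M ∧
      (∀ i, (M i).Normal) ∧
      ∀ i : Fin n, (∀ q : ℕ, q.Prime → q ∣ (M i.castSucc).relIndex (M i.succ) → q ∣ Nat.card H) ∨
        ((M i.castSucc).relIndex (M i.succ)).Coprime (Nat.card H))
    (h2 : ∀ P : Sylow 2 H, IsMulCommutative (P : Subgroup H))
    (hQ : Q ≤ normalizer (H : Set G)) (hQH : Q ⊓ H = ⊥)
    (hQH' : Q ⊔ H = normalizer (H : Set G)) :
    (Nat.card ↥(H ⊓ centralizer (Q : Set G))).Coprime (H ⊓ centralizer (Q : Set G)).index ∧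
    ∃ N : Subgroup G, N.Normal ∧ N.IsComplement' (H ⊓ centralizer (Q : Set G)) := by
  classical
  have hHallG : (Nat.card H).Coprime H.index := H5.coprime_index_of_ti hTI hHall
  set M := normalizer (H : Set G) with hM
  have hH0 : H ≠ ⊥ := fun h => hnn (h ▸ inferInstance)
  have hMtop : M ≠ ⊤ := fun h => hnn (Subgroup.normalizer_eq_top_iff.mp h)
  -- the largest normal subgroup of order prime to `|H|`
  obtain ⟨K, hKmax⟩ := (Set.toFinite
    {K : Subgroup G | K.Normal ∧ (Nat.card K).Coprime (Nat.card H)}).exists_maximal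
    ⟨⊥, inferInstance, by rw [Subgroup.card_bot]; exact Nat.coprime_one_left _⟩
  obtain ⟨hKn, hKc⟩ := hKmax.1
  haveI := hKn
  have hKbig : ∀ R : Subgroup G, R.Normal → (Nat.card R).Coprime (Nat.card H) → R ≤ K := by
    intro R hR hRc
    haveI := hR
    exact le_sup_left.trans (hKmax.2 ⟨inferInstance,
      Nat.Coprime.coprime_dvd_left (H1.card_sup_dvd_mul R K) (hRc.mul_left hKc)⟩ le_sup_right)
  -- Z-group structure
  have hnoE : ∀ p : ℕ, p.Prime → ∀ A : Subgroup G, A ≤ H → IsMulCommutative A →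
      (∀ a ∈ A, a ^ p = 1) → IsCyclic A := by
    intro p hp A hAH hAc hexp
    haveI := Fact.mk hp
    haveI := hAc
    by_contra hnc
    have hA1 : A ≠ ⊥ := fun h => hnc (h ▸ inferInstance)
    obtain ⟨a, ha, ha1⟩ := A.bot_or_exists_ne_one.resolve_left hA1
    have hpH : p ∣ Nat.card H := by
      rw [← orderOf_eq_prime (hexp a ha) ha1]
      exact Subgroup.orderOf_dvd_natCard H (hAH ha)
    have hKp : (Nat.card K).Coprime p := hKc.coprime_dvd_right hpH
    have hKM : K ≤ M := H79.le_of_centralizers_le hexp hnc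
      (by rw [Subgroup.normalizer_eq_top]; exact le_top) hKp fun x hx hx1 y hy => by
        refine H5.mem_normalizer_of_ti hTI (hAH hx) hx1 ?_
        rw [← Subgroup.mem_centralizer_iff.mp hy.2 x rfl, mul_inv_cancel_right]
        exact hAH hx
    have hcen : K ≤ centralizer (H : Set G) := by
      intro k hk
      rw [Subgroup.mem_centralizer_iff]
      intro y hy
      have h1 : y * k * y⁻¹ * k⁻¹ ∈ H ⊓ K := by
        refine ⟨?_, K.mul_mem (hKn.conj_mem k hk y) (K.inv_mem hk)⟩
        rw [show y * k * y⁻¹ * k⁻¹ = y * (k * y⁻¹ * k⁻¹) by group]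
        exact H.mul_mem hy ((Subgroup.mem_normalizer_iff.mp (hKM hk) _).mp (H.inv_mem hy))
      rw [(Subgroup.disjoint_of_coprime_natCard hKc.symm).eq_bot, Subgroup.mem_bot, mul_inv_eq_one,
        mul_inv_eq_iff_eq_mul] at h1
      exact h1
    have h := frattini_ti' (Or.inr hcen) hTI hHallG hsep hH0 hKn hKc hKbig
    rw [sup_eq_right.mpr hKM] at h
    exact hMtop h
  haveI : IsZGroup H := ⟨fun p hp S => by
    haveI := Fact.mk hp
    by_contra hnc
    rcases em (p = 2 ∧ ∃ n : ℕ, Nonempty ((S : Subgroup H) ≃* QuaternionGroup (2 ^ n))) with h | h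
    · obtain ⟨rfl, n, ⟨e⟩⟩ := h
      haveI := h2 S
      apply hnc
      rcases Nat.eq_zero_or_pos n with rfl | hn
      · haveI : IsCyclic (QuaternionGroup (2 ^ 0)) := by
          rw [pow_zero]; exact QuaternionGroup.quaternionGroup_one_isCyclic
        exact isCyclic_of_surjective e.symm e.symm.surjective
      · exfalso
        have h := congrArg e (IsMulCommutative.is_comm.comm (e.symm (QuaternionGroup.a 1))
          (e.symm (QuaternionGroup.xa 0)))
        simp only [map_mul, MulEquiv.apply_symm_apply, QuaternionGroup.a_mul_xa,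
          QuaternionGroup.xa_mul_a, QuaternionGroup.xa.injEq] at h
        have h4 : ((2 : ℕ) : ZMod (2 * 2 ^ n)) = 0 := by
          push_cast
          linear_combination -h
        rw [ZMod.natCast_eq_zero_iff] at h4
        have := Nat.le_of_dvd two_pos h4
        have : 2 ≤ 2 ^ n := Nat.le_self_pow hn.ne' 2
        omega
    · obtain ⟨A, hAS, hAc, hexp, hAnc⟩ := H79.exists_elementary_of_not_cyclic
        (p := p) ((S : Subgroup H).map H.subtype) (S.2.map _) (by
          rintro (h' | ⟨hp2, n, ⟨e⟩⟩)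
          · exact hnc (isCyclic_of_surjective
              ((S : Subgroup H).equivMapOfInjective _ H.subtype_injective).symm
              ((S : Subgroup H).equivMapOfInjective _ H.subtype_injective).symm.surjective)
          · exact h ⟨hp2, n, ⟨((S : Subgroup H).equivMapOfInjective _ H.subtype_injective).trans e⟩⟩)
      exact hAnc (hnoE p hp A (hAS.trans (Subgroup.map_subtype_le _)) hAc hexp)⟩
  have hG : K ⊔ M = ⊤ := frattini_ti' (Or.inl inferInstance) hTI hHallG hsep hH0 hKn hKc hKbig
  have hcardM : Nat.card M = Nat.card Q * Nat.card H := by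
    rw [← hQH']
    have h1 := card_mul_set_mul_card_inf Q H
    rw [hQH, Subgroup.card_bot, mul_one] at h1
    rw [← h1]
    exact Nat.card_congr (Equiv.setCongr (Subgroup.coe_mul_of_left_le_normalizer_right Q H hQ))
  have hQcop : (Nat.card Q).Coprime (Nat.card H) := by
    refine (hHall.coprime_dvd_right ?_).symm
    have h := (H.subgroupOf M).card_mul_index
    rw [Nat.card_congr (Subgroup.subgroupOfEquivOfLe (le_normalizer (H := H))).toEquiv, hcardM,
      mul_comm (Nat.card Q)] at h
    rw [Nat.eq_of_mul_eq_mul_left Nat.card_pos h]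
  set C := H ⊓ centralizer (Q : Set G) with hC
  set T := ⁅H, Q⁆ with hT
  have hTH : T ≤ H := H1.commutator_le_left_of_le_normalizer hQ
  have hTC : T ⊔ C = H := H1.commutator_sup_centralizer_eq hQ hQcop (Or.inr inferInstance)
  have hcop := coprime_commutator_fixed hQ hQcop
  have hQT : Q ≤ normalizer (T : Set G) := H1.right_le_normalizer_commutator
  have hHT : H ≤ normalizer (T : Set G) := H1.left_le_normalizer_commutator
  set N₀ := Q ⊔ T with hN₀
  have hMN₀ : M ≤ normalizer (N₀ : Set G) := by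
    rw [← hQH']
    refine sup_le (le_sup_left.trans le_normalizer) ?_
    rw [← hTC]
    refine sup_le (le_sup_right.trans le_normalizer) fun c hc => ?_
    apply H3.normalizer_iff_conj.mpr
    rw [hN₀, Subgroup.smul_sup, H3.normalizer_iff_conj.mp (hHT hc.1)]
    congr 1
    refine H3.normalizer_iff_conj.mp (Subgroup.centralizer_le_normalizer _ hc.2)
  set N := K ⊔ N₀ with hN
  have hNn : N.Normal := by
    rw [← Subgroup.normalizer_eq_top_iff, eq_top_iff, ← hG]
    refine sup_le (le_sup_left.trans le_normalizer) fun m hm => ?_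
    apply H3.normalizer_iff_conj.mpr
    rw [hN, Subgroup.smul_sup, H3.normalizer_iff_conj.mp (hMN₀ hm),
      H3.normalizer_iff_conj.mp (show m ∈ normalizer (K : Set G) by
        rw [Subgroup.normalizer_eq_top]; exact Subgroup.mem_top m)]
  haveI := hNn
  have hCH : C ≤ H := inf_le_left
  have hCdvd : Nat.card C ∣ Nat.card H := Subgroup.card_dvd_of_le hCH
  have hNcop : (Nat.card C).Coprime (Nat.card N) := by
    suffices h : Nat.card N ∣ Nat.card K * (Nat.card Q * Nat.card T) from
      Nat.Coprime.coprime_dvd_right h ((hKc.coprime_dvd_right hCdvd).symm.mul_right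
        ((hQcop.coprime_dvd_right hCdvd).symm.mul_right hcop))
    have h1 : Nat.card N ∣ Nat.card N₀ * Nat.card K := by
      rw [hN, sup_comm]; exact H1.card_sup_dvd_mul N₀ K
    refine h1.trans (mul_comm (Nat.card N₀) _ ▸ mul_dvd_mul_left _ ?_)
    have h2 := card_mul_set_mul_card_inf Q T
    rw [← Subgroup.coe_mul_of_left_le_normalizer_right Q T hQT] at h2
    exact Dvd.intro _ h2
  have hsup : N ⊔ C = ⊤ := by
    rw [eq_top_iff, ← hG]
    refine sup_le (le_sup_left.trans le_sup_left) ?_
    rw [← hQH', ← hTC]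
    exact sup_le ((le_sup_left.trans le_sup_right).trans le_sup_left)
      (sup_le ((le_sup_right.trans le_sup_right).trans le_sup_left) le_sup_right)
  have hcompl : N.IsComplement' C := Subgroup.isComplement'_of_disjoint_and_mul_eq_univ
    (Subgroup.disjoint_of_coprime_natCard hNcop.symm)
    (by rw [← Subgroup.normal_mul, hsup]; simp)
  exact ⟨hcompl.index_eq_card ▸ hNcop, N, hNn, hcompl⟩

end H4
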